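import Groth.Agent.DimFormula.Catenary
import Groth.Agent.DimFormula.Scheme
import Groth.Agent.Hensel.TensorReduced
import Mathlib

/-!
# Rings covered by universally catenary subrings under flat maps
-/

set_option autoImplicit false
set_option linter.style.haveILetI false

universe u

namespace Groth.Agent.PopescuLib

/-- Saturated chains of extended primes stay saturated below a flat map. -/
theorem covBy_comap_of_flat {A B : Type u} [CommRing A] [CommRing B] [Algebra A B] [Module.Flat A B]
    {p q : PrimeSpectrum B} (hp : (p.asIdeal.comap (algebraMap A B)).map (algebraMap A B) = p.asIdeal)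
    (hq : (q.asIdeal.comap (algebraMap A B)).map (algebraMap A B) = q.asIdeal) (h : p ⋖ q) :
    PrimeSpectrum.comap (algebraMap A B) p ⋖ PrimeSpectrum.comap (algebraMap A B) q := by
  refine ⟨lt_of_le_of_ne (Ideal.comap_mono h.le) fun he => h.ne (PrimeSpectrum.ext ?_), fun r hr hr' => ?_⟩
  · exact hp.symm.trans ((congrArg (Ideal.map (algebraMap A B)) (congrArg PrimeSpectrum.asIdeal he)).trans hq)
  · haveI : q.asIdeal.LiesOver (q.asIdeal.comap (algebraMap A B)) := ⟨rfl⟩
    obtain ⟨K, hKq, hK, hKo⟩ := Ideal.exists_ideal_le_liesOver_of_le q.asIdeal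
      (show r.asIdeal ≤ q.asIdeal.comap (algebraMap A B) from hr'.le)
    have hKq' : K ≠ q.asIdeal := fun e => hr'.ne (PrimeSpectrum.ext (hKo.over.trans (congrArg _ e)))
    have hpK : p.asIdeal ≤ K := hp ▸ Ideal.map_le_iff_le_comap.mpr (le_trans hr.le hKo.over.le)
    have hpK' : p.asIdeal ≠ K := fun e => hr.ne (PrimeSpectrum.ext ((congrArg _ e).trans hKo.over.symm))
    exact h.2 (c := ⟨K, hK⟩) (lt_of_le_of_ne hpK fun e => hpK' (congrArg PrimeSpectrum.asIdeal e))
      (lt_of_le_of_ne hKq fun e => hKq' (congrArg PrimeSpectrum.asIdeal e))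

/-- A chain of primes in a Noetherian ring is bounded by the height of its top. -/
theorem length_le_height {B : Type u} [CommRing B] (l : LTSeries (PrimeSpectrum B)) :
    (l.length : ℕ∞) ≤ l.last.asIdeal.height := by
  rw [PrimeSpectrum.height_eq_orderHeight]
  exact Order.length_le_height (le_refl _)

set_option maxHeartbeats 1000000 in
/-- A polynomial ring over a ring covered by universally catenary rings is catenary. -/
theorem isCatenary_mvPolynomial_of_cover {S : Type u} [CommRing S] [IsNoetherianRing S]
    (h : ∀ s : Finset S, ∃ (B : Type u) (_ : CommRing B) (_ : Algebra B S),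
      Module.Flat B S ∧ CAlg.IsUniversallyCatenary B ∧ ∀ z ∈ s, z ∈ Set.range (algebraMap B S)) (m : ℕ) :
    CAlg.IsCatenary (MvPolynomial (Fin m) S) := by
  classical
  refine ⟨fun P Q _ => ⟨Q.asIdeal.height.toNat, fun l _ hl => ?_⟩, fun s t h1 h2 hs ht => ?_⟩
  · have h3 := length_le_height l
    rw [hl] at h3
    have hne : Q.asIdeal.height ≠ ⊤ := Ideal.height_ne_top Q.2.ne_top
    rw [← ENat.coe_toNat hne] at h3
    exact_mod_cast h3
  let I : Finset (Ideal (MvPolynomial (Fin m) S)) :=
    (Finset.univ.image fun i => (s i).asIdeal) ∪ (Finset.univ.image fun i => (t i).asIdeal)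
  choose g hg using fun J : Ideal (MvPolynomial (Fin m) S) =>
    (IsNoetherian.noetherian J : J.FG)
  let c : Finset S := (I.biUnion g).biUnion fun f => f.support.image fun d => f.coeff d
  obtain ⟨B, _, _, hflat, hB, hc⟩ := h c
  haveI := hflat
  let T₀ := MvPolynomial (Fin m) B
  let T := MvPolynomial (Fin m) S
  letI : Algebra T₀ T := MvPolynomial.algebraMvPolynomial
  haveI : Module.Flat T₀ T := Module.Flat.isBaseChange B T₀ S T (Algebra.IsPushout.out (R := B) (S := T₀) (R' := S) (S' := T))
  have hext : ∀ J ∈ I, (J.comap (algebraMap T₀ T)).map (algebraMap T₀ T) = J := by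
    intro J hJ
    refine le_antisymm Ideal.map_comap_le ?_
    conv_lhs => rw [← hg J]
    rw [Submodule.span_le]
    intro f hf
    obtain ⟨f', rfl⟩ : f ∈ Set.range (algebraMap T₀ T) := by
      show f ∈ Set.range (MvPolynomial.map (algebraMap B S))
      refine (MvPolynomial.mem_range_map_iff_coeffs_subset).mpr fun z hz => ?_
      obtain ⟨d, hd, rfl⟩ := MvPolynomial.mem_coeffs_iff.mp hz
      exact hc _ (Finset.mem_biUnion.mpr ⟨f, Finset.mem_biUnion.mpr ⟨J, hJ, hf⟩, Finset.mem_image_of_mem _ hd⟩)
    refine Ideal.mem_map_of_mem _ ?_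
    show algebraMap T₀ T f' ∈ J
    rw [← hg J]
    exact Submodule.subset_span hf
  have hIs : ∀ i, (s i).asIdeal ∈ I := fun i => Finset.mem_union_left _ (Finset.mem_image_of_mem _ (Finset.mem_univ i))
  have hIt : ∀ i, (t i).asIdeal ∈ I := fun i => Finset.mem_union_right _ (Finset.mem_image_of_mem _ (Finset.mem_univ i))
  have hcs := fun i => covBy_comap_of_flat (hext _ (hIs (Fin.castSucc i))) (hext _ (hIs (Fin.succ i))) (hs i)
  have hct := fun i => covBy_comap_of_flat (hext _ (hIt (Fin.castSucc i))) (hext _ (hIt (Fin.succ i))) (ht i)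
  let s' : LTSeries (PrimeSpectrum T₀) :=
    ⟨s.length, fun i => PrimeSpectrum.comap (algebraMap T₀ T) (s i), fun i => (hcs i).lt⟩
  let t' : LTSeries (PrimeSpectrum T₀) :=
    ⟨t.length, fun i => PrimeSpectrum.comap (algebraMap T₀ T) (t i), fun i => (hct i).lt⟩
  exact (hB.2 T₀ inferInstance).2 s' t' (congrArg (PrimeSpectrum.comap (algebraMap T₀ T)) h1)
    (congrArg (PrimeSpectrum.comap (algebraMap T₀ T)) h2) hcs hct

/-- A Noetherian ring covered by universally catenary rings under flat maps is universally catenary. -/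
theorem isUniversallyCatenary_of_cover {S : Type u} [CommRing S] [IsNoetherianRing S]
    (h : ∀ s : Finset S, ∃ (B : Type u) (_ : CommRing B) (_ : Algebra B S),
      Module.Flat B S ∧ CAlg.IsUniversallyCatenary B ∧ ∀ z ∈ s, z ∈ Set.range (algebraMap B S)) :
    CAlg.IsUniversallyCatenary S := by
  refine ⟨inferInstance, fun A _ _ hA => ?_⟩
  obtain ⟨m, π, hπ⟩ := Algebra.FiniteType.iff_quotient_mvPolynomial''.1 hA
  refine DimFormula.isCatenary_of_embedding (isCatenary_mvPolynomial_of_cover h m) (PrimeSpectrum.comap π.toRingHom)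
    (fun a b => Ideal.comap_le_comap_iff_of_surjective π.toRingHom hπ _ _) fun a b x hax _ => ?_
  rw [_root_.range_comap_of_surjective _ _ hπ]
  exact (Ideal.ker_le_comap π.toRingHom).trans hax

end Groth.Agent.PopescuLib

namespace Groth.Agent.PopescuLib

/-- Algebras of finite type over universally catenary rings are universally catenary. -/
theorem isUniversallyCatenary_of_finiteType {R B : Type u} [CommRing R] [CommRing B] [Algebra R B]
    [Algebra.FiniteType R B] (hR : CAlg.IsUniversallyCatenary R) : CAlg.IsUniversallyCatenary B := by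
  haveI := hR.1
  refine ⟨Algebra.FiniteType.isNoetherianRing R B, fun T _ _ hT => ?_⟩
  letI : Algebra R T := ((algebraMap B T).comp (algebraMap R B)).toAlgebra
  haveI : IsScalarTower R B T := IsScalarTower.of_algebraMap_eq fun _ => rfl
  exact hR.2 T (Algebra.FiniteType.trans (S := B) inferInstance hT)

/-- Henselizations and strict henselizations of universally catenary local rings are universally catenary. -/
theorem isUniversallyCatenary_of_isHenzLike {R S : Type u} [CommRing R] [IsLocalRing R] [CommRing S] [IsLocalRing S]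
    [Algebra R S] [IsLocalHom (algebraMap R S)] (h : Hensel.IsHenzLike R S) (hR : CAlg.IsUniversallyCatenary R) :
    CAlg.IsUniversallyCatenary S := by
  haveI := hR.1
  haveI := h.isNoetherianRing_iff.mp inferInstance
  obtain ⟨L, _, _, _, _, ⟨e⟩⟩ := h
  refine isUniversallyCatenary_of_cover fun s => ?_
  classical
  obtain ⟨N, -, hN⟩ := Hensel.Henz.exists_of_finset (Classical.arbitrary (Hensel.Nbhd R L)) (s.image e.symm)
  letI : Algebra N.Stage S := ((e.toAlgHom.comp (Hensel.Henz.of N)).toRingHom).toAlgebra
  refine ⟨N.Stage, inferInstance, inferInstance, ?_, ?_, fun z hz => ?_⟩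
  · have h1 : (Hensel.Henz.of N).toRingHom.Flat := Hensel.flat_stage N
    exact h1.comp (RingHom.Flat.of_bijective e.bijective)
  · exact DimFormula.isUniversallyCatenary_localization (isUniversallyCatenary_of_finiteType (B := N.B) hR) N.S N.Stage
  · obtain ⟨x, hx⟩ := hN (e.symm z) (Finset.mem_image_of_mem _ hz)
    exact ⟨x, by show e (Hensel.Henz.of N x) = z; rw [hx, AlgEquiv.apply_symm_apply]⟩

end Groth.Agent.PopescuLib
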