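import Groth.Agent.FlatLoc6.Cpl
import Groth.Agent.CplFib6.Setup
import Groth.Agent.CplFib6.CplFinite
import Groth.Agent.SmallFlat.Misc
import Mathlib

/-!
# Formally isomorphic local rings
-/

set_option autoImplicit false
set_option linter.style.haveILetI false

universe u

open IsLocalRing

namespace Groth.Agent.PopescuLib

/-- A surjective endomorphism of a Noetherian ring is injective. -/
theorem injective_of_surjective_ringEnd {R : Type u} [CommRing R] [IsNoetherianRing R] (f : R →+* R)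
    (hs : Function.Surjective f) : Function.Injective f := by
  let K : ℕ → Ideal R := fun n => RingHom.ker (f ^ n)
  have hmono : Monotone K := monotone_nat_of_le_succ fun n x hx => by
    show (f ^ (n + 1)) x = 0
    rw [pow_succ']
    show f ((f ^ n) x) = 0
    rw [show (f ^ n) x = 0 from hx, map_zero]
  obtain ⟨n, hn⟩ := monotone_stabilizes_iff_noetherian.mpr (inferInstance : IsNoetherian R R) ⟨K, hmono⟩
  have hsn : ∀ k : ℕ, Function.Surjective ⇑(f ^ k) := fun k => by
    rw [RingHom.coe_pow]; exact hs.iterate k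
  rw [injective_iff_map_eq_zero]
  intro x hx
  obtain ⟨y, rfl⟩ := hsn n x
  have h1 : y ∈ K (n + 1) := by
    show (f ^ (n + 1)) y = 0
    rw [pow_succ']
    exact hx
  have h2 : y ∈ K n := by
    have : K n = K (n + 1) := hn (n + 1) n.le_succ
    rw [this]; exact h1
  exact h2

/-- A map of completions is surjective when unramified with trivial residue extension. -/
theorem cplMap_surjective (A B : Type u) [CommRing A] [CommRing B] [IsLocalRing A] [IsLocalRing B]
    [IsNoetherianRing A] [IsNoetherianRing B] [Algebra A B]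
    [Algebra (EGA4.Cpl A) (EGA4.Cpl B)] [IsScalarTower A (EGA4.Cpl A) (EGA4.Cpl B)]
    (hm : (maximalIdeal A).map (algebraMap A B) = maximalIdeal B)
    (hs : ∀ b : B, ∃ a, b - algebraMap A B a ∈ maximalIdeal B) :
    Function.Surjective (algebraMap (EGA4.Cpl A) (EGA4.Cpl B)) := by
  have fgA : (maximalIdeal A).FG := IsNoetherian.noetherian _
  have fgB : (maximalIdeal B).FG := IsNoetherian.noetherian _
  haveI := FlatLoc6.isLocalRing_cpl A
  haveI := FlatLoc6.isLocalRing_cpl B
  haveI := CplFib6.isAdicComplete_cpl A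
  haveI := CplFib6.isAdicComplete_cpl B
  have hmap : (maximalIdeal (EGA4.Cpl A)).map (algebraMap (EGA4.Cpl A) (EGA4.Cpl B)) = maximalIdeal (EGA4.Cpl B) := by
    rw [AdicCompletion.maximalIdeal_eq_map_of_fg fgA, Ideal.map_map, ← IsScalarTower.algebraMap_eq,
      IsScalarTower.algebraMap_eq A B (EGA4.Cpl B), ← Ideal.map_map, hm,
      AdicCompletion.maximalIdeal_eq_map_of_fg fgB]
  haveI : IsHausdorff ((maximalIdeal (EGA4.Cpl A)).map (algebraMap (EGA4.Cpl A) (EGA4.Cpl B))) (EGA4.Cpl B) := by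
    rw [hmap]; infer_instance
  refine surjective_of_mk_map_comp_surjective (I := maximalIdeal (EGA4.Cpl A)) _ fun w => ?_
  obtain ⟨z, rfl⟩ := Ideal.Quotient.mk_surjective w
  obtain ⟨b, hb⟩ := CplFib6.exists_sub_mem B z
  obtain ⟨a, ha⟩ := hs b
  refine ⟨algebraMap A (EGA4.Cpl A) a, ?_⟩
  show Ideal.Quotient.mk _ (algebraMap (EGA4.Cpl A) (EGA4.Cpl B) (algebraMap A (EGA4.Cpl A) a)) = _
  rw [← IsScalarTower.algebraMap_apply, IsScalarTower.algebraMap_apply A B (EGA4.Cpl B), eq_comm, Ideal.Quotient.eq,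
    hmap]
  have h1 := Ideal.mem_map_of_mem (algebraMap B (EGA4.Cpl B)) ha
  rw [← AdicCompletion.maximalIdeal_eq_map_of_fg fgB, map_sub] at h1
  simpa using add_mem hb h1

/-- A formally isomorphic local map is flat. -/
theorem flat_of_formal_iso (O P L : Type u) [CommRing O] [CommRing P] [CommRing L] [IsLocalRing O] [IsLocalRing P]
    [IsLocalRing L] [IsNoetherianRing O] [IsNoetherianRing P] [IsNoetherianRing L]
    [Algebra O P] [Algebra L P] [IsLocalHom (algebraMap O P)] [IsLocalHom (algebraMap L P)] [Module.Flat L P]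
    (hOm : (maximalIdeal O).map (algebraMap O P) = maximalIdeal P)
    (hOs : ∀ b : P, ∃ a, b - algebraMap O P a ∈ maximalIdeal P)
    (hLm : (maximalIdeal L).map (algebraMap L P) = maximalIdeal P)
    (hLs : ∀ b : P, ∃ a, b - algebraMap L P a ∈ maximalIdeal P)
    (φ : EGA4.Cpl O ≃+* EGA4.Cpl L) : Module.Flat O P := by
  obtain ⟨_, hg⟩ := CplFib6.exists_cplMap O P
  haveI := hg
  obtain ⟨_, hι, hff⟩ := FlatLoc6.exists_cplHom L P
  haveI := hι
  haveI := hff
  haveI := FlatLoc6.isNoetherianRing_cpl L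
  let e : EGA4.Cpl L ≃+* EGA4.Cpl P := RingEquiv.ofBijective (algebraMap (EGA4.Cpl L) (EGA4.Cpl P))
    ⟨FaithfulSMul.algebraMap_injective _ _, cplMap_surjective L P hLm hLs⟩
  have hsurj := cplMap_surjective O P hOm hOs
  let ψ : EGA4.Cpl L →+* EGA4.Cpl L :=
    (e.symm.toRingHom.comp (algebraMap (EGA4.Cpl O) (EGA4.Cpl P))).comp φ.symm.toRingHom
  have hψ : Function.Surjective ψ := (e.symm.surjective.comp hsurj).comp φ.symm.surjective
  have hψi := injective_of_surjective_ringEnd ψ hψ
  have hbij : Function.Bijective (algebraMap (EGA4.Cpl O) (EGA4.Cpl P)) := by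
    refine ⟨fun x y h => ?_, hsurj⟩
    have h2 : ψ (φ x) = ψ (φ y) := by
      show e.symm (algebraMap (EGA4.Cpl O) (EGA4.Cpl P) (φ.symm (φ x))) =
        e.symm (algebraMap (EGA4.Cpl O) (EGA4.Cpl P) (φ.symm (φ y)))
      simp [h]
    exact φ.injective (hψi h2)
  haveI := FlatLoc6.faithfullyFlat_cpl O
  haveI := FlatLoc6.faithfullyFlat_cpl P
  haveI : Module.Flat (EGA4.Cpl O) (EGA4.Cpl P) :=
    RingHom.flat_algebraMap_iff.mp (RingHom.Flat.of_bijective (f := algebraMap _ _) hbij)
  haveI : Module.Flat O (EGA4.Cpl P) := Module.Flat.trans O (EGA4.Cpl O) (EGA4.Cpl P)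
  exact SmallFlat.flat_of_faithfullyFlat_tower O P (EGA4.Cpl P)

end Groth.Agent.PopescuLib
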