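import Groth.Agent.PopescuLib.RegLoc
import Groth.Agent.CplFib6.GRing
import Groth.Agent.S9295

/-!
# G-rings are detected at maximal ideals
-/

set_option autoImplicit false
set_option linter.style.haveILetI false

universe u

open TensorProduct IsLocalRing
open Groth.Agent.FlatLoc6

namespace Groth.Agent.PopescuLib

/-- The localization at a prime of a ring with regular completion map is again such. -/
theorem regular_cpl_localization (A : Type u) [CommRing A] [IsLocalRing A] [IsNoetherianRing A]
    (hA : CAlg.IsRegularHom A (EGA4.Cpl A)) (p : Ideal A) [p.IsPrime] :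
    CAlg.IsRegularHom (Localization.AtPrime p) (EGA4.Cpl (Localization.AtPrime p)) := by
  let Ah := EGA4.Cpl A
  haveI := isLocalRing_cpl A
  haveI := isNoetherianRing_cpl A
  haveI := faithfullyFlat_cpl A
  haveI := CplFib6.isAdicComplete_cpl A
  obtain ⟨Q, hQ⟩ := PrimeSpectrum.comap_surjective_of_faithfullyFlat (A := A) (B := Ah) ⟨p, ‹_›⟩
  have hQ' : Q.asIdeal.comap (algebraMap A Ah) = p := congrArg PrimeSpectrum.asIdeal hQ
  haveI : Q.asIdeal.LiesOver p := ⟨hQ'.symm⟩
  let Ap := Localization.AtPrime p
  let Aq := Localization.AtPrime Q.asIdeal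
  letI := Localization.AtPrime.algebraOfLiesOver p Q.asIdeal
  haveI := isLocalHom_atPrime p Q.asIdeal
  haveI : IsNoetherianRing Ap := IsLocalization.isNoetherianRing p.primeCompl _ inferInstance
  haveI : IsNoetherianRing Aq := IsLocalization.isNoetherianRing Q.asIdeal.primeCompl _ inferInstance
  have h1 : CAlg.IsRegularHom A Aq := isRegularHom_localization_target Q.asIdeal.primeCompl hA
  have h2 : CAlg.IsRegularHom Ap Aq := isRegularHom_source_localization p.primeCompl h1
  have h3 : CAlg.IsRegularHom Aq (EGA4.Cpl Aq) := (CplFib6.isGRing_of_complete Ah).2 Q.asIdeal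
  haveI := h2.1
  haveI := isNoetherianRing_cpl Aq
  have h4 : CAlg.IsRegularHom Ap (EGA4.Cpl Aq) := isRegularHom_comp Ap Aq (EGA4.Cpl Aq) h2 h3
  obtain ⟨_, _, hff⟩ := exists_cplHom Ap Aq
  haveI := hff
  exact Groth.Agent.S9295.result Ap (EGA4.Cpl Ap) (EGA4.Cpl Aq) h4
    PrimeSpectrum.comap_surjective_of_faithfullyFlat

/-- Regularity of completion maps moves along an isomorphism. -/
theorem regular_cpl_of_ringEquiv {A A' : Type u} [CommRing A] [CommRing A'] [IsLocalRing A] [IsLocalRing A']
    [IsNoetherianRing A] [IsNoetherianRing A'] (e : A ≃+* A') (h : CAlg.IsRegularHom A (EGA4.Cpl A)) :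
    CAlg.IsRegularHom A' (EGA4.Cpl A') := by
  letI : Algebra A A' := e.toRingHom.toAlgebra
  letI : Algebra A' A := e.symm.toRingHom.toAlgebra
  haveI : IsLocalHom (algebraMap A A') := ⟨fun a (ha : IsUnit (e a)) => (isUnit_map_iff e a).mp ha⟩
  haveI : IsLocalHom (algebraMap A' A) := ⟨fun a (ha : IsUnit (e.symm a)) => (isUnit_map_iff e.symm a).mp ha⟩
  haveI : Module.Flat A' A := RingHom.Flat.of_bijective (f := algebraMap A' A) e.symm.bijective
  haveI := isNoetherianRing_cpl A
  obtain ⟨_, _, hff⟩ := exists_cplHom A' A
  haveI := hff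
  letI : Algebra A' (EGA4.Cpl A) := inferInstance
  refine Groth.Agent.S9295.result A' (EGA4.Cpl A') (EGA4.Cpl A) ?_ PrimeSpectrum.comap_surjective_of_faithfullyFlat
  refine isRegularHom_comp A' A (EGA4.Cpl A) ?_ h
  haveI : IsLocalization (⊥ : Submonoid A') A' := IsLocalization.self (by simp)
  haveI : IsLocalization (⊥ : Submonoid A') A :=
    IsLocalization.isLocalization_of_algEquiv _ (AlgEquiv.ofBijective (Algebra.ofId A' A) e.symm.bijective)
  exact isRegularHom_of_isLocalization (⊥ : Submonoid A')

/-- A Noetherian ring whose local rings at maximal ideals have regular completion maps is a G-ring. -/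
theorem isGRing_of_maximal {R : Type u} [CommRing R] [IsNoetherianRing R]
    (h : ∀ (m : Ideal R) [m.IsMaximal],
      CAlg.IsRegularHom (Localization.AtPrime m) (EGA4.Cpl (Localization.AtPrime m))) : CAlg.IsGRing R := by
  refine ⟨inferInstance, fun p _ => ?_⟩
  obtain ⟨m, hm, hpm⟩ := Ideal.exists_le_maximal p (Ideal.IsPrime.ne_top inferInstance)
  let Rm := Localization.AtPrime m
  let P := p.map (algebraMap R Rm)
  have hd : Disjoint (m.primeCompl : Set R) (p : Set R) := Set.disjoint_left.2 fun x hx hxp => hx (hpm hxp)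
  haveI : P.IsPrime := IsLocalization.isPrime_of_isPrime_disjoint m.primeCompl Rm p ‹_› hd
  have hcomap : P.comap (algebraMap R Rm) = p := IsLocalization.under_map_of_isPrime_disjoint m.primeCompl Rm ‹_› hd
  haveI : IsNoetherianRing Rm := IsLocalization.isNoetherianRing m.primeCompl _ inferInstance
  haveI : IsLocalization.AtPrime (Localization.AtPrime P) (P.comap (algebraMap R Rm)) :=
    IsLocalization.isLocalization_isLocalization_atPrime_isLocalization m.primeCompl (Localization.AtPrime P) P
  haveI : IsLocalization.AtPrime (Localization.AtPrime P) p := by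
    simpa [hcomap] using (inferInstance : IsLocalization.AtPrime (Localization.AtPrime P) (P.comap (algebraMap R Rm)))
  haveI : IsNoetherianRing (Localization.AtPrime P) := IsLocalization.isNoetherianRing P.primeCompl _ inferInstance
  haveI : IsNoetherianRing (Localization.AtPrime p) := IsLocalization.isNoetherianRing p.primeCompl _ inferInstance
  exact regular_cpl_of_ringEquiv
    (IsLocalization.algEquiv p.primeCompl (Localization.AtPrime P) (Localization.AtPrime p)).toRingEquiv
    (regular_cpl_localization Rm (h m) P)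

end Groth.Agent.PopescuLib
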