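import Groth.Agent.PopescuLib.Unramified
import Groth.Agent.PopescuLib.GRing
import Groth.Agent.PopescuLib.FormalIso
import Groth.Agent.Hensel.NoethPair
import Groth.Agent.Hensel.HenselizationFibre
import Groth.Agent.Hensel.HenselizationProps

/-!
# Henselizations of G-rings
-/

set_option autoImplicit false
set_option linter.style.haveILetI false

universe u

open TensorProduct IsLocalRing
open Groth.Agent.FlatLoc6

namespace Groth.Agent.PopescuLib

/-- A henselization of a pair is formally unramified. -/
theorem formallyUnramified_of_isPairHenselization {A B : Type u} [CommRing A] [CommRing B] [Algebra A B] (I : Ideal A)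
    (hB : Hens2.IsPairHenselization A I B) : Algebra.FormallyUnramified A B := by
  constructor
  rw [← Submodule.subsingleton_iff B, ← subsingleton_iff_bot_eq_top, eq_comm, eq_bot_iff,
    ← KaehlerDifferential.span_range_derivation, Submodule.span_le]
  rintro _ ⟨x, rfl⟩
  obtain ⟨U, _, _, _, _, φ, s, rfl⟩ := Hensel.exists_of_isPairHenselization I hB x
  letI : Algebra U B := φ.toRingHom.toAlgebra
  haveI : IsScalarTower A U B := IsScalarTower.of_algebraMap_eq fun a => (φ.commutes a).symm
  show KaehlerDifferential.D A B (algebraMap U B s) ∈ (⊥ : Submodule B _)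
  rw [← KaehlerDifferential.map_D A A U B, Subsingleton.elim (KaehlerDifferential.D A U s) 0, map_zero]
  exact zero_mem _

/-- Completions agree along an extension of Noetherian local rings without residue extension or ramification. -/
theorem exists_cpl_iso (A B : Type u) [CommRing A] [CommRing B] [IsLocalRing A] [IsLocalRing B]
    [IsNoetherianRing A] [IsNoetherianRing B] [Algebra A B] [IsLocalHom (algebraMap A B)] [Module.Flat A B]
    (hm : (maximalIdeal A).map (algebraMap A B) = maximalIdeal B)
    (hs : ∀ b : B, ∃ a, b - algebraMap A B a ∈ maximalIdeal B) :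
    ∃ _ : Algebra (EGA4.Cpl A) (EGA4.Cpl B), IsScalarTower A (EGA4.Cpl A) (EGA4.Cpl B) ∧
      Function.Bijective (algebraMap (EGA4.Cpl A) (EGA4.Cpl B)) := by
  obtain ⟨i, hi, hff⟩ := exists_cplHom A B
  haveI := hi
  haveI := hff
  exact ⟨i, hi, FaithfulSMul.algebraMap_injective _ _, cplMap_surjective A B hm hs⟩

/-- Regularity of completion maps passes up along unramified extensions with the same completion. -/
theorem regular_cpl_of_unramified (A B : Type u) [CommRing A] [CommRing B] [IsLocalRing A] [IsLocalRing B]
    [IsNoetherianRing A] [IsNoetherianRing B] [Algebra A B] [IsLocalHom (algebraMap A B)] [Module.Flat A B]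
    [Algebra.FormallyUnramified A B] (hm : (maximalIdeal A).map (algebraMap A B) = maximalIdeal B)
    (hs : ∀ b : B, ∃ a, b - algebraMap A B a ∈ maximalIdeal B)
    (h : CAlg.IsRegularHom A (EGA4.Cpl A)) : CAlg.IsRegularHom B (EGA4.Cpl B) := by
  haveI := isNoetherianRing_cpl A
  haveI := isNoetherianRing_cpl B
  obtain ⟨_, _, hbij⟩ := exists_cpl_iso A B hm hs
  have h2 : CAlg.IsRegularHom (EGA4.Cpl A) (EGA4.Cpl B) := by
    haveI : IsLocalization (⊥ : Submonoid (EGA4.Cpl A)) (EGA4.Cpl A) := IsLocalization.self (by simp)
    haveI : IsLocalization (⊥ : Submonoid (EGA4.Cpl A)) (EGA4.Cpl B) :=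
      IsLocalization.isLocalization_of_algEquiv _ (AlgEquiv.ofBijective (Algebra.ofId (EGA4.Cpl A) (EGA4.Cpl B)) hbij)
    exact isRegularHom_of_isLocalization (⊥ : Submonoid (EGA4.Cpl A))
  haveI := h2.1
  have h3 : CAlg.IsRegularHom A (EGA4.Cpl B) := isRegularHom_comp A (EGA4.Cpl A) (EGA4.Cpl B) h h2
  haveI := (faithfullyFlat_cpl B).toFlat
  exact isRegularHom_of_formallyUnramified h3

/-- The henselization of a pair over a G-ring is a G-ring. -/
theorem isGRing_of_isPairHenselization {A B : Type u} [CommRing A] [CommRing B] [Algebra A B]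
    (hA : CAlg.IsGRing A) (I : Ideal A) (hB : Hens2.IsPairHenselization A I B) : CAlg.IsGRing B := by
  haveI := hA.1
  haveI := Hensel.isNoetherianRing_of_isPairHenselization I hB
  haveI := Hensel.flat_of_isPairHenselization I hB
  haveI := formallyUnramified_of_isPairHenselization I hB
  haveI := hB.1
  refine isGRing_of_maximal fun q _ => ?_
  have hIq : I.map (algebraMap A B) ≤ q :=
    (hB.1.jac).trans (sInf_le ⟨bot_le, ‹q.IsMaximal›⟩)
  set p := q.comap (algebraMap A B) with hp
  haveI : q.LiesOver p := ⟨rfl⟩
  let Ap := Localization.AtPrime p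
  let Bq := Localization.AtPrime q
  letI := Localization.AtPrime.algebraOfLiesOver p q
  haveI := isLocalHom_atPrime p q
  haveI : IsNoetherianRing Ap := IsLocalization.isNoetherianRing p.primeCompl _ inferInstance
  haveI : IsNoetherianRing Bq := IsLocalization.isNoetherianRing q.primeCompl _ inferInstance
  have hq : p.map (algebraMap A B) = q := by
    refine le_antisymm Ideal.map_comap_le fun x hx => ?_
    obtain ⟨a, ha⟩ := Hensel.exists_sub_mem_of_isPairHenselization I hB x
    have hIp : I.map (algebraMap A B) ≤ p.map (algebraMap A B) :=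
      Ideal.map_mono (Ideal.map_le_iff_le_comap.mp hIq)
    have hap : a ∈ p := by
      show algebraMap A B a ∈ q
      have := q.sub_mem hx (hIq ha)
      rwa [sub_sub_cancel] at this
    have := Ideal.add_mem _ (hIp ha) (Ideal.mem_map_of_mem (algebraMap A B) hap)
    rwa [sub_add_cancel] at this
  have hflat : Module.Flat Ap Bq := by
    refine (Module.flat_iff_of_isLocalization Ap p.primeCompl Bq).2 ?_
    exact Module.Flat.trans A B Bq
  haveI := hflat
  haveI : Algebra.FormallyUnramified A Bq :=
    haveI : Algebra.FormallyUnramified B Bq := Algebra.FormallyUnramified.of_isLocalization q.primeCompl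
    Algebra.FormallyUnramified.comp A B Bq
  haveI : Algebra.FormallyUnramified Ap Bq := Algebra.FormallyUnramified.of_restrictScalars A Ap Bq
  refine regular_cpl_of_unramified Ap Bq ?_ (fun b => ?_) (hA.2 p)
  · rw [← Localization.AtPrime.map_eq_maximalIdeal, ← Localization.AtPrime.map_eq_maximalIdeal, Ideal.map_map,
      ← IsScalarTower.algebraMap_eq, IsScalarTower.algebraMap_eq A B Bq, ← Ideal.map_map, hq]
  · obtain ⟨⟨x, s⟩, rfl⟩ := IsLocalization.mk'_surjective q.primeCompl b
    obtain ⟨a, ha⟩ := Hensel.exists_sub_mem_of_isPairHenselization I hB x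
    obtain ⟨t, ht⟩ := Hensel.exists_sub_mem_of_isPairHenselization I hB (s : B)
    have htp : t ∈ p.primeCompl := fun h => s.2 (by
      have h' := q.add_mem (hIq ht) (show algebraMap A B t ∈ q from h)
      rwa [sub_add_cancel] at h')
    refine ⟨IsLocalization.mk' Ap a ⟨t, htp⟩, ?_⟩
    have hd : algebraMap A B t ∈ q.primeCompl := htp
    have h1 : algebraMap Ap Bq (IsLocalization.mk' Ap a ⟨t, htp⟩) = IsLocalization.mk' Bq (algebraMap A B a) ⟨_, hd⟩ := by
      rw [IsLocalization.eq_mk'_iff_mul_eq, ← IsScalarTower.algebraMap_apply A B Bq,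
        ← IsScalarTower.algebraMap_apply A B Bq, IsScalarTower.algebraMap_apply A Ap Bq t,
        IsScalarTower.algebraMap_apply A Ap Bq a, ← map_mul, IsLocalization.mk'_spec]
    dsimp only
    rw [h1, ← IsLocalization.mk'_sub (S := Bq), IsLocalization.AtPrime.mk'_mem_maximal_iff (S := Bq) q]
    show x * algebraMap A B t - algebraMap A B a * (s : B) ∈ q
    have h2 := q.sub_mem (q.mul_mem_left (algebraMap A B t) (hIq ha)) (q.mul_mem_left (algebraMap A B a) (hIq ht))
    convert h2 using 1
    ring

end Groth.Agent.PopescuLib

namespace Groth.Agent.PopescuLib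

/-- A reduced artinian ring is regular. -/
theorem isRegularRing_of_artinian_reduced (T : Type u) [CommRing T] [IsArtinianRing T] [IsReduced T] :
    IsRegularRing T := by
  rw [isRegularRing_iff]
  intro q _
  haveI : IsArtinianRing (Localization.AtPrime q) :=
    (IsArtinianRing.localization_surjective q.primeCompl (Localization.AtPrime q)).isArtinianRing
  haveI : IsReduced (Localization.AtPrime q) := isReduced_localizationPreserves q.primeCompl _ ‹IsReduced T›
  letI : Field (Localization.AtPrime q) :=
    (IsArtinianRing.isField_of_isReduced_of_isLocalRing (Localization.AtPrime q)).toField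
  exact IsRegularLocalRing.of_isRegularRing_of_isLocalRing _

/-- The henselization of a Noetherian local ring is regular over it. -/
theorem isRegularHom_of_isHenzLike {R S : Type u} [CommRing R] [IsLocalRing R] [IsNoetherianRing R] [CommRing S]
    [IsLocalRing S] [Algebra R S] [IsLocalHom (algebraMap R S)] (h : Hensel.IsHenzLike R S) :
    CAlg.IsRegularHom R S := by
  haveI := h.isNoetherianRing_iff.mp inferInstance
  haveI : Module.FaithfullyFlat R S := h.faithfullyFlat
  refine ⟨inferInstance, fun p _ => ⟨isNoetherianRing_fiber p, fun L _ _ hL => ?_⟩⟩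
  letI : Algebra R L := ((algebraMap p.ResidueField L).comp (algebraMap R p.ResidueField)).toAlgebra
  haveI : IsScalarTower R p.ResidueField L := IsScalarTower.of_algebraMap_eq' rfl
  obtain ⟨n, K, _, _, -, ⟨e⟩⟩ := h.exists_fibre_equiv_pi p
  haveI : IsArtinianRing (p.Fiber S) := Function.Surjective.isArtinianRing (f := e.symm.toRingEquiv.toRingHom) e.symm.toRingEquiv.surjective
  haveI : IsArtinianRing (L ⊗[p.ResidueField] p.Fiber S) := by
    haveI : IsArtinianRing (p.Fiber S ⊗[p.ResidueField] L) :=
      IsArtinianRing.of_finite (p.Fiber S) (p.Fiber S ⊗[p.ResidueField] L)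
    exact Function.Surjective.isArtinianRing
      (f := (Algebra.TensorProduct.comm p.ResidueField (p.Fiber S) L).toRingEquiv.toRingHom)
      (Algebra.TensorProduct.comm p.ResidueField (p.Fiber S) L).toRingEquiv.surjective
  haveI : IsReduced (L ⊗[p.ResidueField] p.Fiber S) := by
    haveI := h.isReduced_tensor L
    let E := (Algebra.TensorProduct.cancelBaseChange R p.ResidueField L L S).toRingEquiv.trans
      (Algebra.TensorProduct.comm R L S).toRingEquiv
    exact isReduced_of_injective E E.injective
  exact isRegularRing_of_artinian_reduced _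

end Groth.Agent.PopescuLib
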