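import Groth.Agent.PopescuLib.EtalePoint
import Groth.Agent.MorLib.GRingLocal
import Mathlib

/-!
# Approximation by étale algebras at a point of a G-ring
-/

set_option autoImplicit false
set_option linter.style.haveILetI false

universe u

open IsLocalRing

namespace Groth.Agent.PopescuLib

/-- The completion map of a local G-ring is regular. -/
theorem isRegularHom_completion_of_isGRing {R : Type u} [CommRing R] [IsLocalRing R] (hG : CAlg.IsGRing R) :
    CAlg.IsRegularHom R (AdicCompletion (maximalIdeal R) R) := by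
  have hu : (maximalIdeal R).primeCompl ≤ IsUnit.submonoid R := fun x hx =>
    IsLocalRing.notMem_maximalIdeal.1 hx
  exact MorLib.GRing.localCond_of_equiv
    (IsLocalization.atUnits R (maximalIdeal R).primeCompl hu
      (S := Localization.AtPrime (maximalIdeal R))).symm.toRingEquiv (hG.2 (maximalIdeal R))

/-- Approximation by étale algebras of solutions in the completion of a local ring. -/
theorem exists_etale_solution {R L : Type u} [CommRing R] [CommRing L] [IsNoetherianRing L] [IsLocalRing L]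
    [Algebra R L] (hind : Smoothing.IndSmooth R (AdicCompletion (maximalIdeal L) L))
    (happ : ∀ (l : ℕ) (x : Fin l → L), ∃ (R₀ : Type u) (_ : CommRing R₀) (_ : Algebra R R₀), Algebra.Etale R R₀ ∧
      ∃ (ι : R₀ →ₐ[R] L) (r : Fin l → R₀), ∀ i, ι (r i) = x i)
    {n m : ℕ} (F : Fin m → MvPolynomial (Fin n) R) (a : Fin n → AdicCompletion (maximalIdeal L) L)
    (ha : ∀ j, MvPolynomial.aeval a (F j) = 0) (N : ℕ) :
    ∃ (R' : Type u) (_ : CommRing R') (_ : Algebra R R'), Algebra.Etale R R' ∧
      ∃ (ψ : R' →ₐ[R] AdicCompletion (maximalIdeal L) L) (p' : Ideal R'), p'.IsPrime ∧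
        p'.comap (algebraMap R R') = (maximalIdeal L).comap (algebraMap R L) ∧
        (∀ x : R', ∃ l : L, ψ x - algebraMap L _ l ∈
          (maximalIdeal L).map (algebraMap L (AdicCompletion (maximalIdeal L) L))) ∧
        (∀ x, x ∈ p' ↔ ψ x ∈ (maximalIdeal L).map (algebraMap L (AdicCompletion (maximalIdeal L) L))) ∧
        ∃ b : Fin n → R', (∀ j, MvPolynomial.aeval b (F j) = 0) ∧
          ∀ i, a i - ψ (b i) ∈ (maximalIdeal L ^ N).map (algebraMap L (AdicCompletion (maximalIdeal L) L)) := by
  classical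
  let T := AdicCompletion (maximalIdeal L) L
  have hfg : (maximalIdeal L).FG := IsNoetherian.noetherian _
  haveI : IsLocalRing T := AdicCompletion.isLocalRing_of_fg hfg
  have hmax : maximalIdeal T = (maximalIdeal L).map (algebraMap L T) := AdicCompletion.maximalIdeal_eq_map_of_fg hfg
  haveI : IsAdicComplete (maximalIdeal T) T := AdicCompletion.isAdicComplete_of_fg hfg
  haveI : HenselianRing T (maximalIdeal T) := inferInstance
  let Q := MvPolynomial (Fin n) R ⧸ Ideal.span (Set.range F)
  letI : CommRing Q := Ideal.Quotient.commRing _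
  haveI : Algebra.FinitePresentation R Q :=
    Algebra.FinitePresentation.quotient (Submodule.fg_span (Set.finite_range _))
  let f : Q →ₐ[R] T := Ideal.Quotient.liftₐ _ (MvPolynomial.aeval a) fun y hy =>
    (Ideal.span_le.2 (by rintro _ ⟨j, rfl⟩; exact ha j) :
      Ideal.span (Set.range F) ≤ RingHom.ker (MvPolynomial.aeval (R := R) a)) hy
  obtain ⟨S, _, _, hS, g, h, hgh⟩ := hind Q inferInstance f
  haveI := hS
  have happrox : ∀ (l : ℕ) (t : Fin l → T), ∃ (R₀ : Type u) (_ : CommRing R₀) (_ : Algebra R R₀), Algebra.Etale R R₀ ∧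
      ∃ (ι : R₀ →ₐ[R] T) (r : Fin l → R₀), ∀ i, t i - ι (r i) ∈ maximalIdeal T ^ (N + 1) := fun l t => by
    choose x hx using fun i => Ideal.Quotient.mk_surjective (AdicCompletion.evalₐ (maximalIdeal L) (N + 1) (t i))
    obtain ⟨R₀, _, _, hR₀, ι, r, hr⟩ := happ l x
    refine ⟨R₀, inferInstance, inferInstance, hR₀, (IsScalarTower.toAlgHom R L T).comp ι, r, fun i => ?_⟩
    rw [hmax, ← Ideal.map_pow]
    refine mem_map_of_evalₐ_eq_zero _ hfg _ ?_
    show AdicCompletion.evalₐ (maximalIdeal L) (N + 1) (t i - algebraMap L T (ι (r i))) = 0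
    rw [map_sub, AlgHom.commutes, hr, ← hx i, sub_eq_zero]
    rfl
  obtain ⟨R', _, _, hR', ψ, β, hβ⟩ := exists_etale_point h (Nat.succ_pos N) happrox
  let p' : Ideal R' := (maximalIdeal T).comap ψ.toRingHom
  refine ⟨R', inferInstance, inferInstance, hR', ψ, p', inferInstance, ?_, fun y => ?_, fun y => ?_,
    fun i => β (g (Ideal.Quotient.mk _ (MvPolynomial.X i))), fun j => ?_, fun i => ?_⟩
  · ext r
    show ψ (algebraMap R R' r) ∈ maximalIdeal T ↔ algebraMap R L r ∈ maximalIdeal L
    rw [ψ.commutes, IsScalarTower.algebraMap_apply R L T]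
    haveI : IsLocalHom (algebraMap L T) := inferInstance
    rw [IsLocalRing.mem_maximalIdeal, IsLocalRing.mem_maximalIdeal, mem_nonunits_iff, mem_nonunits_iff,
      isUnit_map_iff]
  · obtain ⟨l, hl⟩ := Ideal.Quotient.mk_surjective (AdicCompletion.evalₐ (maximalIdeal L) 1 (ψ y))
    refine ⟨l, ?_⟩
    have h1 := mem_map_of_evalₐ_eq_zero (maximalIdeal L) hfg 1 (x := ψ y - algebraMap L T l)
      (by rw [map_sub, AlgHom.commutes, ← hl, sub_eq_zero]; rfl)
    rwa [pow_one] at h1
  · show ψ y ∈ maximalIdeal T ↔ _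
    rw [hmax]
  · have h1 : (β.comp (g.comp (Ideal.Quotient.mkₐ R _))) (F j) = 0 := by
      show β (g (Ideal.Quotient.mk _ (F j))) = 0
      rw [Ideal.Quotient.eq_zero_iff_mem.2 (Ideal.subset_span (Set.mem_range_self j)), map_zero, map_zero]
    rw [MvPolynomial.aeval_unique (β.comp (g.comp (Ideal.Quotient.mkₐ R _)))] at h1
    exact h1
  · have h1 := hβ (g (Ideal.Quotient.mk _ (MvPolynomial.X i)))
    rw [show h (g (Ideal.Quotient.mk _ (MvPolynomial.X i))) = a i from
      (AlgHom.congr_fun hgh (Ideal.Quotient.mk _ (MvPolynomial.X i))).trans (MvPolynomial.aeval_X a i)] at h1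
    have h2 := Ideal.pow_le_pow_right (Nat.le_succ N) h1
    rwa [hmax, ← Ideal.map_pow] at h2

end Groth.Agent.PopescuLib
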