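import Groth.Agent.PopescuLib.Field
import Groth.Agent.SmoothingLib.IndNilpotent
import Groth.Agent.SmoothingLib.Descend
import Groth.Agent.SmoothingLib.LiftDesingularize
import Groth.Agent.FlatLoc6.BaseChangeEss
import Mathlib

/-!
# Regular homomorphisms of Noetherian rings are ind-smooth
-/

set_option autoImplicit false
set_option linter.style.haveILetI false

universe u

open TensorProduct

namespace Groth.Agent.PopescuLib

open SmoothingLib

/-- The local ring of a reduced ring at a minimal prime is a field. -/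
theorem isField_atPrime {R : Type u} [CommRing R] [IsReduced R] {p : Ideal R} [p.IsPrime]
    (hp : p ∈ minimalPrimes R) : IsField (Localization.AtPrime p) := by
  rw [IsLocalRing.isField_iff_maximalIdeal_eq, eq_bot_iff]
  intro x hx
  refine (Ideal.mem_bot).2 (IsReduced.eq_zero x (mem_nilradical.1 ?_))
  rw [nilradical_eq_sInf, Ideal.mem_sInf]
  intro P hP
  have hP' : P.IsPrime := hP
  have hdisj := (IsLocalization.isPrime_iff_isPrime_disjoint p.primeCompl (Localization.AtPrime p) P).1 hP'
  have h1 : P.under R ≤ p := fun y hy => by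
    by_contra hy'
    exact Set.disjoint_left.1 hdisj.2 hy' hy
  have h2 : p ≤ P.under R := hp.2 ⟨hdisj.1, bot_le⟩ h1
  rw [← Localization.AtPrime.map_eq_maximalIdeal] at hx
  exact Ideal.map_le_iff_le_comap.2 h2 hx

set_option maxHeartbeats 1000000 in
/-- The inductive step: from the generic points and the proper quotients to the whole base. -/
theorem indSmooth_step {R Λ : Type u} [CommRing R] [IsNoetherianRing R] [CommRing Λ] [Algebra R Λ]
    [Module.Flat R Λ]
    (hfield : IsReduced R → ∀ (p : Ideal R) [p.IsPrime], p ∈ minimalPrimes R →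
      Smoothing.IndSmooth (Localization.AtPrime p) (Localization.AtPrime p ⊗[R] Λ))
    (hquot : ∀ J : Ideal R, J ≠ ⊥ → Smoothing.IndSmooth (R ⧸ J) (Λ ⧸ J.map (algebraMap R Λ))) :
    Smoothing.IndSmooth R Λ := by
  classical
  by_cases hred : IsReduced R
  swap
  · refine SmoothingLib.indSmooth_of_nilpotent (nilradical R)
      ((Ideal.FG.isNilpotent_iff_le_nilradical (IsNoetherian.noetherian _)).2 le_rfl) (hquot _ fun h => hred ?_)
    exact ⟨fun x hx => Ideal.mem_bot.1 (h ▸ mem_nilradical.2 hx)⟩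
  intro A _ _ hA φ
  haveI := hA
  rcases subsingleton_or_nontrivial R with hR | hR
  · haveI : Subsingleton Λ := Module.subsingleton R Λ
    exact exists_smooth_of_singRad_eq_top φ (Subsingleton.elim _ _)
  obtain ⟨p, hp⟩ := Ideal.nonempty_minimalPrimes (I := (⊥ : Ideal R)) (bot_ne_top)
  haveI := hp.1.1
  obtain ⟨B', _, _, hB', g, h, hgh⟩ := hfield hred p hp (Localization.AtPrime p ⊗[R] A) inferInstance
    (Algebra.TensorProduct.map (AlgHom.id (Localization.AtPrime p) (Localization.AtPrime p)) φ)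
  haveI := hB'
  obtain ⟨B, _, _, α, β, hβα, s, hs, helem⟩ := exists_elementary_factor_of_smooth φ p.primeCompl g h hgh
  have hBfp : Algebra.FinitePresentation R B := by
    obtain ⟨P, -, -⟩ := helem
    refine Algebra.FinitePresentation.of_surjective (f := P.hom) P.surj ?_
    show (RingHom.ker P.hom.toRingHom).FG
    rw [P.ker_eq]
    exact Submodule.fg_span (Set.finite_range _)
  haveI := hBfp
  let σ : R := (s ^ 4) ^ 2
  have hσne : Ideal.span {σ} ≠ ⊥ := fun h0 => by
    have h1 : σ = 0 := Ideal.mem_bot.1 (h0 ▸ Ideal.mem_span_singleton_self σ)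
    refine hs ((inferInstance : p.IsPrime).mem_of_pow_mem 8 ?_)
    rw [show s ^ 8 = σ by simp only [σ, ← pow_mul], h1]
    exact zero_mem _
  have hRs : ∀ x : R, s ^ 2 * x = 0 → s * x = 0 := fun x hx =>
    IsReduced.eq_zero _ ⟨2, by rw [mul_pow, pow_two x, ← mul_assoc, hx, zero_mul]⟩
  have hΛs : ∀ x : Λ, s ^ 2 • x = 0 → s • x = 0 := fun x hx => by
    rw [Algebra.smul_def, map_pow] at hx
    rw [Algebra.smul_def]
    have := ann_sq_of_flat s 1 (fun y hy => by rw [one_mul]; exact hRs y hy) x hx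
    rwa [map_one, one_mul] at this
  -- the problem modulo the element
  let Λ₁ := Λ ⧸ Ideal.span {algebraMap R Λ σ}
  have hspanΛ : (Ideal.span {σ}).map (algebraMap R Λ) = Ideal.span {algebraMap R Λ σ} := by
    rw [Ideal.map_span, Set.image_singleton]
  letI : Algebra (R ⧸ Ideal.span {σ}) Λ₁ := (Ideal.Quotient.lift (Ideal.span {σ})
    ((Ideal.Quotient.mk _).comp (algebraMap R Λ)) fun x hx =>
      Ideal.Quotient.eq_zero_iff_mem.2 (hspanΛ ▸ Ideal.mem_map_of_mem _ hx)).toAlgebra
  haveI : IsScalarTower R (R ⧸ Ideal.span {σ}) Λ₁ := IsScalarTower.of_algebraMap_eq fun _ => rfl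
  have hind : Smoothing.IndSmooth (R ⧸ Ideal.span {σ}) Λ₁ := by
    refine indSmooth_congr (RingEquiv.refl _) (Ideal.quotEquivOfEq hspanΛ) (fun r => ?_) (hquot _ hσne)
    obtain ⟨r, rfl⟩ := Ideal.Quotient.mk_surjective r
    rfl
  let JB := (Ideal.span {σ}).map (algebraMap R B)
  haveI : Algebra.FinitePresentation (R ⧸ Ideal.span {σ}) (B ⧸ JB) :=
    Algebra.FinitePresentation.equiv (Algebra.TensorProduct.quotIdealMapEquivQuotTensor B (Ideal.span {σ})).symm
  let f₀ : B ⧸ JB →ₐ[R] Λ₁ := Ideal.Quotient.liftₐ JB ((Ideal.Quotient.mkₐ R _).comp β) fun x hx => by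
    have h1 := Ideal.mem_map_of_mem β.toRingHom hx
    rw [Ideal.map_map, show β.toRingHom.comp (algebraMap R B) = algebraMap R Λ from β.comp_algebraMap, hspanΛ] at h1
    exact Ideal.Quotient.eq_zero_iff_mem.2 h1
  let f₁ : B ⧸ JB →ₐ[R ⧸ Ideal.span {σ}] Λ₁ := AlgHom.extendScalarsOfSurjective Ideal.Quotient.mk_surjective f₀
  obtain ⟨C, _, _, hC, g₁, h₁, hgh₁⟩ := hind (B ⧸ JB) inferInstance f₁
  haveI := hC
  letI : Algebra R C := Algebra.compHom C (algebraMap R (R ⧸ Ideal.span {σ}))
  haveI : IsScalarTower R (R ⧸ Ideal.span {σ}) C := IsScalarTower.of_algebraMap_eq fun _ => rfl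
  obtain ⟨B₂, _, _, hB₂, α₂, β₂, hβα₂, haway, hle⟩ := exists_desingularize_lifting s (s ^ 4) σ rfl rfl hRs hΛs β
    (isStrictlyStandard_of_isElementaryStandard helem) (C := C)
    ((g₁.restrictScalars R).comp (Ideal.Quotient.mkₐ R JB)) (h₁.restrictScalars R)
    (fun b => AlgHom.congr_fun hgh₁ (Ideal.Quotient.mk JB b))
  haveI := hB₂
  have hsmem : algebraMap R B₂ s ∈ Smoothing.singularIdeal R B₂ := by
    rw [Smoothing.singularIdeal, PrimeSpectrum.mem_vanishingIdeal]
    intro q hq
    by_contra hh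
    exact hq (haway q.asIdeal hh)
  have htop : Smoothing.singRad R β₂ = ⊤ := by
    rw [RegRes.singularIdeal_eq_top, Ideal.map_top, top_le_iff] at hle
    have h1 := congrArg (Ideal.comap (Ideal.Quotient.mk (Ideal.span {algebraMap R Λ σ}))) hle
    rw [Ideal.comap_map_of_surjective _ Ideal.Quotient.mk_surjective, Ideal.comap_top] at h1
    rw [Smoothing.singRad, ← h1, left_eq_sup]
    intro x hx
    have h2 : algebraMap R Λ σ ∈ ((Smoothing.singularIdeal R B₂).map β₂).radical := by
      refine Ideal.le_radical ?_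
      simp only [σ, map_pow, ← pow_mul, ← β₂.commutes s]
      exact Ideal.pow_mem_of_mem _ (Ideal.mem_map_of_mem β₂ hsmem) 8 (by norm_num)
    exact (Ideal.span_singleton_le_iff_mem _).2 h2 (Ideal.Quotient.eq_zero_iff_mem.1 hx)
  obtain ⟨S, _, _, hS, g', k', hk'⟩ := exists_smooth_of_singRad_eq_top β₂ htop
  exact ⟨S, inferInstance, inferInstance, hS, g'.comp (α₂.comp α), k', by
    rw [← AlgHom.comp_assoc, hk', ← AlgHom.comp_assoc, hβα₂, hβα]⟩

/-- Base change of a regular homomorphism to a field essentially of finite type is geometrically regular. -/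
theorem geometricallyRegular_baseChange {R Λ : Type u} [CommRing R] [CommRing Λ] [IsNoetherianRing Λ] [Algebra R Λ]
    (h : CAlg.IsRegularHom R Λ) (K : Type u) [Field K] [Algebra R K] [Algebra.EssFiniteType R K] :
    CAlg.IsGeometricallyRegular K (K ⊗[R] Λ) := by
  intro k' _ _ hfin
  letI : Algebra R k' := ((algebraMap K k').comp (algebraMap R K)).toAlgebra
  haveI : IsScalarTower R K k' := IsScalarTower.of_algebraMap_eq fun _ => rfl
  haveI : Algebra.EssFiniteType R k' := Algebra.EssFiniteType.comp R K k'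
  have h' := FlatLoc6.isRegularHom_baseChange_ess R Λ k' h
  haveI := h'.1
  haveI := FlatLoc6.isNoetherianRing_baseChange_ess R Λ k'
  haveI : IsRegularRing (k' ⊗[R] Λ) := by
    refine FlatLoc6.regular_of_flat_of_fibres k' (k' ⊗[R] Λ) fun q _ => ?_
    haveI := (h'.2 q).2 q.ResidueField inferInstance
    exact IsRegularRing.of_ringEquiv (R := q.ResidueField ⊗[q.ResidueField] q.Fiber (k' ⊗[R] Λ))
      (Algebra.TensorProduct.lid q.ResidueField (q.Fiber (k' ⊗[R] Λ))).toRingEquiv
  exact IsRegularRing.of_ringEquiv (Algebra.TensorProduct.cancelBaseChange R K k' k' Λ).toRingEquiv.symm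

set_option maxHeartbeats 1000000 in
/-- Popescu: regular homomorphisms of Noetherian rings are ind-smooth. -/
theorem indSmooth_of_isRegularHom {R Λ : Type u} [CommRing R] [IsNoetherianRing R] [CommRing Λ] [IsNoetherianRing Λ]
    [Algebra R Λ] (hreg : CAlg.IsRegularHom R Λ) : Smoothing.IndSmooth R Λ := by
  haveI := hreg.1
  have key : ∀ I : Ideal R, Smoothing.IndSmooth (R ⧸ I) (Λ ⧸ Ideal.map (algebraMap R Λ) I) := by
    intro I
    induction I using IsNoetherian.induction with
    | _ I ih =>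
    haveI : Module.Flat (R ⧸ I) (Λ ⧸ Ideal.map (algebraMap R Λ) I) := SmoothingLib.flat_quotient_map I
    refine indSmooth_step (fun hred p _ hp => ?_) fun J hJ => ?_
    · letI : Field (Localization.AtPrime p) := (isField_atPrime hp).toField
      let K := Localization.AtPrime p
      haveI : Algebra.EssFiniteType (R ⧸ I) K := Algebra.EssFiniteType.of_isLocalization K p.primeCompl
      haveI : Algebra.EssFiniteType R (R ⧸ I) := inferInstance
      haveI : Algebra.EssFiniteType R K := Algebra.EssFiniteType.comp R (R ⧸ I) K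
      haveI : IsNoetherianRing (K ⊗[R] Λ) := FlatLoc6.isNoetherianRing_baseChange_ess R Λ K
      have hK := indSmooth_field (geometricallyRegular_baseChange hreg K)
      let e : K ⊗[R] Λ ≃ₐ[K] K ⊗[R ⧸ I] (Λ ⧸ Ideal.map (algebraMap R Λ) I) :=
        (Algebra.TensorProduct.cancelBaseChange R (R ⧸ I) K K Λ).symm.trans
          (Algebra.TensorProduct.congr AlgEquiv.refl (Algebra.TensorProduct.quotIdealMapEquivQuotTensor Λ I).symm)
      exact indSmooth_congr (RingEquiv.refl K) e.toRingEquiv e.commutes hK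
    · let π := Ideal.Quotient.mk I
      let J' : Ideal R := J.comap π
      have hlt : I < J' := by
        refine lt_of_le_of_ne (fun x hx => ?_) fun heq => hJ ?_
        · show π x ∈ J
          rw [Ideal.Quotient.eq_zero_iff_mem.2 hx]
          exact zero_mem _
        · rw [← Ideal.map_comap_of_surjective π Ideal.Quotient.mk_surjective J, show J.comap π = I from heq.symm]
          exact Ideal.map_quotient_self I
      have hJJ' : J = J'.map π := (Ideal.map_comap_of_surjective π Ideal.Quotient.mk_surjective J).symm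
      let e : R ⧸ J' ≃+* (R ⧸ I) ⧸ J :=
        ((Ideal.quotEquivOfEq (sup_eq_right.2 hlt.le).symm).trans (DoubleQuot.quotQuotEquivQuotSup I J').symm).trans
          (Ideal.quotEquivOfEq hJJ'.symm)
      let IΛ := Ideal.map (algebraMap R Λ) I
      let J'Λ := J'.map (algebraMap R Λ)
      have hJ' : J.map (algebraMap (R ⧸ I) (Λ ⧸ IΛ)) = J'Λ.map (Ideal.Quotient.mk IΛ) := by
        rw [hJJ', Ideal.map_map, Ideal.map_map]
        rfl
      let eΛ : Λ ⧸ J'Λ ≃+* (Λ ⧸ IΛ) ⧸ J.map (algebraMap (R ⧸ I) (Λ ⧸ IΛ)) :=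
        ((Ideal.quotEquivOfEq (sup_eq_right.2 (Ideal.map_mono hlt.le : IΛ ≤ J'Λ)).symm).trans
          (DoubleQuot.quotQuotEquivQuotSup IΛ J'Λ).symm).trans (Ideal.quotEquivOfEq hJ'.symm)
      refine indSmooth_congr e eΛ (fun r => ?_) (ih J' hlt)
      obtain ⟨r, rfl⟩ := Ideal.Quotient.mk_surjective r
      rfl
  let eΛ : Λ ⧸ (⊥ : Ideal R).map (algebraMap R Λ) ≃+* Λ :=
    (Ideal.quotEquivOfEq Ideal.map_bot).trans (RingEquiv.quotientBot Λ)
  refine indSmooth_congr (RingEquiv.quotientBot R) eΛ (fun r => ?_) (key ⊥)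
  obtain ⟨r, rfl⟩ := Ideal.Quotient.mk_surjective r
  rfl

end Groth.Agent.PopescuLib
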