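import Groth.Agent.FormalFib6.Cplt
import Groth.Agent.RegLoc6.RegEtale
import Groth.Agent.PopescuLib.LocalCompletion
import Mathlib

/-!
# The completion map of a G-ring is regular
-/

set_option autoImplicit false
set_option linter.style.haveILetI false

universe u

open TensorProduct IsLocalRing
open Groth.Agent.FlatLoc6 Groth.Agent.FormalFib6

namespace Groth.Agent.PopescuLib

/-- Regularity of a tensor product may be checked on the localizations of the second factor. -/
theorem regular_of_local {A E B : Type u} [CommRing A] [CommRing E] [CommRing B] [Algebra A E] [Algebra A B]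
    [IsNoetherianRing (E ⊗[A] B)]
    (h : ∀ (q : Ideal B) [q.IsPrime], IsRegularRing (E ⊗[A] Localization.AtPrime q)) :
    IsRegularRing (E ⊗[A] B) := by
  rw [isRegularRing_iff]
  intro Q _
  let i : B →+* E ⊗[A] B := (Algebra.TensorProduct.includeRight (R := A) (A := E) (B := B)).toRingHom
  let q : Ideal B := Q.comap i
  haveI : q.IsPrime := Ideal.comap_isPrime i Q
  let Bq := Localization.AtPrime q
  letI : Algebra (E ⊗[A] B) (E ⊗[A] Bq) :=
    (Algebra.TensorProduct.map (AlgHom.id A E) (IsScalarTower.toAlgHom A B Bq)).toAlgebra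
  haveI : IsScalarTower E (E ⊗[A] B) (E ⊗[A] Bq) :=
    .of_algebraMap_eq <| by intro; simp [RingHom.algebraMap_toAlgebra]
  haveI := IsLocalization.tensorProduct_tensorProduct_right A E q.primeCompl Bq
    (by ext; simp [RingHom.algebraMap_toAlgebra])
  let M := q.primeCompl.map (Algebra.TensorProduct.includeRight (R := A) (A := E))
  have hd : Disjoint (M : Set (E ⊗[A] B)) (Q : Set (E ⊗[A] B)) := by
    rw [Set.disjoint_left]
    rintro _ ⟨b, hb, rfl⟩ hbQ
    exact hb hbQ
  haveI hP : (Q.map (algebraMap (E ⊗[A] B) (E ⊗[A] Bq))).IsPrime :=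
    IsLocalization.isPrime_of_isPrime_disjoint M (E ⊗[A] Bq) Q ‹_› hd
  haveI := h q
  have h1 := (RegLoc6.regular_iff_localization M (E ⊗[A] Bq) (Q.map (algebraMap (E ⊗[A] B) (E ⊗[A] Bq)))).1
    (IsRegularRing.isRegularLocalRing_localization _)
  have key : ∀ (r : Ideal (E ⊗[A] B)) [r.IsPrime], r = Q →
      IsRegularLocalRing (Localization.AtPrime r) → IsRegularLocalRing (Localization.AtPrime Q) := by
    intro r _ hr hh; subst hr; exact hh
  exact key _ (IsLocalization.under_map_of_isPrime_disjoint M (E ⊗[A] Bq) ‹_› hd) h1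

/-- A field over `A` seen on the completion at a maximal ideal. -/
theorem regular_field_tensor_cpl {A : Type u} [CommRing A] [IsNoetherianRing A] (m : Ideal A) [m.IsPrime]
    (h : CAlg.IsRegularHom (Localization.AtPrime m) (EGA4.Cpl (Localization.AtPrime m))) (L : Type u) [Field L]
    [Algebra A L] [Algebra.EssFiniteType A L] : IsRegularRing (L ⊗[A] EGA4.Cpl (Localization.AtPrime m)) := by
  let Am := Localization.AtPrime m
  let C := EGA4.Cpl Am
  haveI := isNoetherianRing_cpl Am
  haveI : IsNoetherianRing (L ⊗[A] C) :=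
    haveI : IsNoetherianRing (C ⊗[A] L) := Algebra.EssFiniteType.isNoetherianRing C _
    isNoetherianRing_of_ringEquiv _ (Algebra.TensorProduct.comm A C L).toRingEquiv
  by_cases hu : ∀ a : m.primeCompl, IsUnit (algebraMap A L a)
  · letI : Algebra Am L := (IsLocalization.lift hu).toAlgebra
    haveI : IsScalarTower A Am L := IsScalarTower.of_algebraMap_eq fun a => (IsLocalization.lift_eq hu a).symm
    haveI : (RingHom.ker (algebraMap Am L)).IsPrime := RingHom.ker_isPrime _
    obtain ⟨_, _⟩ := exists_residueAlgebra (L := L) (RingHom.ker (algebraMap Am L)) rfl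
    let p := RingHom.ker (algebraMap Am L)
    haveI : IsScalarTower A p.ResidueField L := IsScalarTower.to₁₃₄ A Am p.ResidueField L
    haveI : Algebra.EssFiniteType p.ResidueField L := Algebra.EssFiniteType.of_comp A _ _
    haveI := regular_tensor_of_geometricallyRegular (h.2 p).2 L
    let e : L ⊗[p.ResidueField] p.Fiber C ≃+* L ⊗[A] C :=
      (Algebra.TensorProduct.cancelBaseChange Am p.ResidueField L L C).toRingEquiv.trans
        (IsLocalization.algebraTensorEquiv m.primeCompl Am L C).toRingEquiv
    exact IsRegularRing.of_ringEquiv (R := L ⊗[p.ResidueField] p.Fiber C) e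
  · push Not at hu
    obtain ⟨a, ha⟩ := hu
    have ha0 : algebraMap A L a = 0 := by
      by_contra h0
      exact ha (Ne.isUnit h0)
    rw [isRegularRing_iff]
    intro Q _
    refine absurd ?_ (Ideal.IsPrime.ne_top (I := Q) inferInstance)
    refine Ideal.eq_top_of_isUnit_mem Q (Q.zero_mem : (0 : L ⊗[A] C) ∈ Q) ?_
    have hu1 : IsUnit (algebraMap A (L ⊗[A] C) a) := by
      rw [← (Algebra.TensorProduct.includeRight (R := A) (A := L) (B := C)).commutes]
      refine IsUnit.map _ ?_
      rw [IsScalarTower.algebraMap_apply A Am C]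
      exact (IsLocalization.map_units Am a).map _
    rwa [show algebraMap A (L ⊗[A] C) a = 0 by
      rw [Algebra.TensorProduct.algebraMap_apply, ha0, zero_tmul]] at hu1

/-- The completion map is regular when it is so at the maximal ideals. -/
theorem isRegularHom_adicCompletion (A : Type u) [CommRing A] [IsNoetherianRing A]
    (hA : ∀ (m : Ideal A) [m.IsMaximal],
      CAlg.IsRegularHom (Localization.AtPrime m) (EGA4.Cpl (Localization.AtPrime m))) (I : Ideal A) :
    CAlg.IsRegularHom A (AdicCompletion I A) := by
  let Ah := AdicCompletion I A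
  haveI := FormalFib6.isNoetherianRing_adicCompletion A I
  refine ⟨inferInstance, fun p _ => ⟨isNoetherianRing_fiber p, fun L _ _ hL => ?_⟩⟩
  letI : Algebra A L := ((algebraMap p.ResidueField L).comp (algebraMap A p.ResidueField)).toAlgebra
  haveI : IsScalarTower A p.ResidueField L := IsScalarTower.of_algebraMap_eq' rfl
  haveI : Algebra.EssFiniteType A L := Algebra.EssFiniteType.comp A p.ResidueField L
  haveI : IsNoetherianRing (L ⊗[A] Ah) :=
    haveI : IsNoetherianRing (Ah ⊗[A] L) := Algebra.EssFiniteType.isNoetherianRing Ah _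
    isNoetherianRing_of_ringEquiv _ (Algebra.TensorProduct.comm A Ah L).toRingEquiv
  suffices IsRegularRing (L ⊗[A] Ah) from
    IsRegularRing.of_ringEquiv (R := L ⊗[A] Ah)
      (Algebra.TensorProduct.cancelBaseChange A p.ResidueField L L Ah).toRingEquiv.symm
  refine regular_of_local fun q _ => ?_
  obtain ⟨M, hM, hqM⟩ := Ideal.exists_le_maximal q (Ideal.IsPrime.ne_top inferInstance)
  obtain ⟨m, _, _, _, _⟩ := FormalFib6.exists_atMaximal A I M
  let AM := Localization.AtPrime M
  let C := EGA4.Cpl (Localization.AtPrime m)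
  haveI := regular_field_tensor_cpl m (hA m) L
  haveI hC : IsRegularRing (L ⊗[p.ResidueField] p.Fiber C) :=
    IsRegularRing.of_ringEquiv (R := L ⊗[A] C) (Algebra.TensorProduct.cancelBaseChange A p.ResidueField L L C).toRingEquiv.symm
  haveI : IsRegularRing (L ⊗[p.ResidueField] p.Fiber AM) := permanence_regular.cancel A AM C p L hC
  haveI hB : IsRegularRing (L ⊗[A] AM) :=
    IsRegularRing.of_ringEquiv (R := L ⊗[p.ResidueField] p.Fiber AM)
      (Algebra.TensorProduct.cancelBaseChange A p.ResidueField L L AM).toRingEquiv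
  let Aq := Localization.AtPrime q
  have hle : M.primeCompl ≤ q.primeCompl := fun x hx h => hx (hqM h)
  letI : Algebra AM Aq := IsLocalization.localizationAlgebraOfSubmonoidLe AM Aq M.primeCompl q.primeCompl hle
  haveI : IsScalarTower Ah AM Aq := IsLocalization.localization_isScalarTower_of_submonoid_le AM Aq _ _ hle
  haveI : IsScalarTower A AM Aq := IsScalarTower.of_algebraMap_eq fun a => by
    rw [IsScalarTower.algebraMap_apply A Ah Aq, IsScalarTower.algebraMap_apply A Ah AM,
      ← IsScalarTower.algebraMap_apply Ah AM Aq]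
  haveI : IsLocalization (q.primeCompl.map (algebraMap Ah AM)) Aq :=
    IsLocalization.isLocalization_of_submonoid_le AM Aq M.primeCompl q.primeCompl hle
  letI : Algebra (L ⊗[A] AM) (L ⊗[A] Aq) :=
    (Algebra.TensorProduct.map (AlgHom.id A L) (IsScalarTower.toAlgHom A AM Aq)).toAlgebra
  haveI := FormalFib6.isLocalization_map A L AM Aq (q.primeCompl.map (algebraMap Ah AM))
  exact GeomReg.isRegularRing_of_isLocalization
    ((q.primeCompl.map (algebraMap Ah AM)).map (Algebra.TensorProduct.includeRight (R := A) (A := L))) _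

end Groth.Agent.PopescuLib
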