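import Mathlib

/-!
# Every algebra is a filtered colimit of finitely presented algebras; elements of functors commuting with such
-/

set_option autoImplicit false
set_option linter.style.haveILetI false

universe u

open CategoryTheory Limits
open scoped TensorProduct

namespace Groth.Agent.PopescuLib

noncomputable section

variable (A B : Type u) [CommRing A] [CommRing B] [Algebra A B]

/-- A finitely presented algebra with a map to `B`. -/
structure FPModel : Type u where
  /-- number of generators -/
  n : ℕ
  /-- relations -/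
  I : Ideal (MvPolynomial (Fin n) A)
  fg : I.FG
  /-- the map -/
  toB : (MvPolynomial (Fin n) A ⧸ I) →ₐ[A] B

variable {A B}

/-- The algebra of a model. -/
abbrev FPModel.Alg (X : FPModel A B) : Type u := MvPolynomial (Fin X.n) A ⧸ X.I

instance (X : FPModel A B) : Algebra.FinitePresentation A X.Alg :=
  Algebra.FinitePresentation.quotient X.fg

theorem FPModel.exists_model (P : Type u) [CommRing P] [Algebra A P] [Algebra.FinitePresentation A P]
    (φ : P →ₐ[A] B) : ∃ (X : FPModel A B) (α : P →ₐ[A] X.Alg), X.toB.comp α = φ := by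
  obtain ⟨n, π, hπ, hker⟩ := Algebra.FinitePresentation.out (R := A) (A := P)
  let e := Ideal.quotientKerAlgEquivOfSurjective hπ
  exact ⟨⟨n, RingHom.ker π, hker, φ.comp e.toAlgHom⟩, e.symm.toAlgHom, AlgHom.ext fun p =>
    congrArg φ (e.apply_symm_apply p)⟩

instance : SmallCategory (FPModel A B) where
  Hom X Y := {α : X.Alg →ₐ[A] Y.Alg // Y.toB.comp α = X.toB}
  id X := ⟨AlgHom.id A _, AlgHom.comp_id _⟩
  comp f g := ⟨g.1.comp f.1, by rw [← AlgHom.comp_assoc, g.2, f.2]⟩

instance : IsFiltered (FPModel A B) :=
  haveI : Nonempty (FPModel A B) := ⟨(FPModel.exists_model A (Algebra.ofId A B)).choose⟩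
  { cocone_objs := fun X Y => by
      haveI := Algebra.FinitePresentation.trans A X.Alg (X.Alg ⊗[A] Y.Alg)
      obtain ⟨Z, α, hα⟩ := FPModel.exists_model (X.Alg ⊗[A] Y.Alg)
        (Algebra.TensorProduct.lift X.toB Y.toB fun _ _ => .all _ _)
      exact ⟨Z, ⟨α.comp Algebra.TensorProduct.includeLeft, by rw [← AlgHom.comp_assoc, hα]; ext x; simp⟩,
        ⟨α.comp Algebra.TensorProduct.includeRight, by rw [← AlgHom.comp_assoc, hα]; ext x; simp⟩, trivial⟩
    cocone_maps := fun X Y f g => by
      classical
      obtain ⟨s, hs⟩ := Algebra.FiniteType.out (R := A) (A := X.Alg)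
      let K : Ideal Y.Alg := Ideal.span (s.image fun x => f.1 x - g.1 x : Set Y.Alg)
      haveI : Algebra.FinitePresentation A (Y.Alg ⧸ K) :=
        Algebra.FinitePresentation.quotient ⟨s.image fun x => f.1 x - g.1 x, rfl⟩
      let ψ : (Y.Alg ⧸ K) →ₐ[A] B := Ideal.Quotient.liftₐ K Y.toB fun a ha => by
        have : K ≤ RingHom.ker Y.toB := Ideal.span_le.2 fun a ha => by
          obtain ⟨x, _, rfl⟩ := Finset.mem_image.1 (Finset.mem_coe.1 ha)
          rw [SetLike.mem_coe, RingHom.mem_ker, map_sub, sub_eq_zero]
          exact (AlgHom.congr_fun f.2 x).trans (AlgHom.congr_fun g.2 x).symm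
        exact this ha
      obtain ⟨Z, α, hα⟩ := FPModel.exists_model (Y.Alg ⧸ K) ψ
      refine ⟨Z, ⟨α.comp (Ideal.Quotient.mkₐ A K), by rw [← AlgHom.comp_assoc, hα]; rfl⟩, Subtype.ext ?_⟩
      refine AlgHom.ext_of_adjoin_eq_top hs fun x hx => ?_
      change α (Ideal.Quotient.mk K (f.1 x)) = α (Ideal.Quotient.mk K (g.1 x))
      exact congrArg α (Ideal.Quotient.eq.2 (Ideal.subset_span
        (Finset.mem_coe.2 (Finset.mem_image_of_mem (fun x => f.1 x - g.1 x) hx)))) }

variable (A B)

/-- The diagram of models. -/
def fpDiagram : FPModel A B ⥤ CategoryTheory.Under (CommRingCat.of A) where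
  obj X := CategoryTheory.Under.mk (CommRingCat.ofHom (algebraMap A X.Alg))
  map f := CategoryTheory.Under.homMk (CommRingCat.ofHom f.1.toRingHom) (by ext r; exact f.1.commutes r)

/-- Its cocone to `B`. -/
def fpCocone : Cocone (fpDiagram A B) where
  pt := CategoryTheory.Under.mk (CommRingCat.ofHom (algebraMap A B))
  ι :=
    { app := fun X => CategoryTheory.Under.homMk (CommRingCat.ofHom X.toB.toRingHom) (by
        ext r; exact X.toB.commutes r)
      naturality := fun X Y f => by
        apply CategoryTheory.Under.UnderMorphism.ext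
        ext b
        exact congr($(f.2) b) }

/-- `B` is the filtered colimit of the models. -/
def fpIsColimit : IsColimit (fpCocone A B) :=
  have : IsConnected (FPModel A B) := IsFiltered.isConnected _
  have : PreservesColimit (fpDiagram A B ⋙ Under.forget _) (forget CommRingCat.{u}) := inferInstance
  have : ReflectsColimit (fpDiagram A B ⋙ Under.forget _) (forget CommRingCat.{u}) :=
    reflectsColimit_of_reflectsIsomorphisms _ _
  isColimitOfReflects (Under.forget _) (isColimitOfReflects (forget CommRingCat.{u})
    (Types.FilteredColimit.isColimitOf' _ _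
      (fun z => by
        obtain ⟨Z, α, hα⟩ := FPModel.exists_model (Polynomial A) (Polynomial.aeval (show B from z))
        refine ⟨Z, α Polynomial.X, ?_⟩
        change z = Z.toB (α Polynomial.X)
        rw [← AlgHom.comp_apply, hα]
        exact (Polynomial.aeval_X (R := A) (A := B) z).symm)
      fun X (x : X.Alg) (y : X.Alg) hxy => by
        have hxy' : X.toB x = X.toB y := hxy
        let K : Ideal X.Alg := Ideal.span {x - y}
        haveI : Algebra.FinitePresentation A (X.Alg ⧸ K) :=
          Algebra.FinitePresentation.quotient (Submodule.fg_span_singleton _)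
        let φ : (X.Alg ⧸ K) →ₐ[A] B := Ideal.Quotient.liftₐ K X.toB fun a ha => by
          obtain ⟨r, rfl⟩ := Ideal.mem_span_singleton'.1 ha
          rw [map_mul, map_sub, hxy', sub_self, mul_zero]
        obtain ⟨Z, α, hα⟩ := FPModel.exists_model (X.Alg ⧸ K) φ
        refine ⟨Z, ⟨α.comp (Ideal.Quotient.mkₐ A K), by rw [← AlgHom.comp_assoc, hα]; rfl⟩, ?_⟩
        change α (Ideal.Quotient.mk K x) = α (Ideal.Quotient.mk K y)
        rw [show Ideal.Quotient.mk K x = Ideal.Quotient.mk K y from Ideal.Quotient.eq.2 (Ideal.subset_span rfl)]))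

/-- Elements of a functor commuting with filtered colimits come from finitely presented algebras. -/
theorem exists_fp_preimage (F : CategoryTheory.Under (CommRingCat.of A) ⥤ Type u)
    (hF : ∀ (J : Type u) [SmallCategory J] [IsFiltered J], PreservesColimitsOfShape J F)
    (ξ : F.obj (CategoryTheory.Under.mk (CommRingCat.ofHom (algebraMap A B)))) :
    ∃ (P : Type u) (_ : CommRing P) (_ : Algebra A P), Algebra.FinitePresentation A P ∧
      ∃ (f : CategoryTheory.Under.mk (CommRingCat.ofHom (algebraMap A P)) ⟶
          CategoryTheory.Under.mk (CommRingCat.ofHom (algebraMap A B)))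
        (ξ₀ : F.obj (CategoryTheory.Under.mk (CommRingCat.ofHom (algebraMap A P)))), F.map f ξ₀ = ξ := by
  haveI := hF (FPModel A B)
  obtain ⟨X, ξ₀, h⟩ := Types.jointly_surjective_of_isColimit (isColimitOfPreserves F (fpIsColimit A B)) ξ
  exact ⟨X.Alg, inferInstance, inferInstance, inferInstance, (fpCocone A B).ι.app X, ξ₀, h⟩

end

end Groth.Agent.PopescuLib
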