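import Groth.Agent.PopescuLib.HenzGRing
import Groth.Agent.Hensel.HenselizationMisc
import Groth.Agent.RegFS6.GBase
import Groth.Agent.RegFS6.Fibre
import Mathlib

/-!
# Strict henselizations of G-rings
-/

set_option autoImplicit false
set_option linter.style.haveILetI false

universe u

open IsLocalRing
open Groth.Agent.FlatLoc6

namespace Groth.Agent.PopescuLib

/-- The completion of a local algebra regular over a base with regular formal fibres is regular over it. -/
theorem isRegularHom_to_cpl {R S : Type u} [CommRing R] [CommRing S] [IsLocalRing R] [IsLocalRing S]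
    [IsNoetherianRing R] [IsNoetherianRing S] [Algebra R S] [IsLocalHom (algebraMap R S)]
    (hR : CAlg.IsRegularHom R (EGA4.Cpl R)) (h : CAlg.IsRegularHom R S) : CAlg.IsRegularHom R (EGA4.Cpl S) := by
  haveI := h.1
  have hfs := RegFS6.fs_of_flat_of_geometricallyRegular (h.2 (maximalIdeal R)).2
  haveI := isLocalRing_cpl R
  haveI := isLocalRing_cpl S
  haveI := isNoetherianRing_cpl R
  haveI := isNoetherianRing_cpl S
  haveI := CplFib6.isAdicComplete_cpl R
  haveI := CplFib6.isAdicComplete_cpl S
  obtain ⟨_, hst, hff⟩ := exists_cplHom R S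
  haveI := hst
  haveI : IsLocalHom (algebraMap (EGA4.Cpl R) (EGA4.Cpl S)) := by
    refine ((local_hom_TFAE _).out 0 2).mpr ?_
    rw [AdicCompletion.maximalIdeal_eq_map_of_fg (IsNoetherian.noetherian _), Ideal.map_map,
      ← IsScalarTower.algebraMap_eq, IsScalarTower.algebraMap_eq R S (EGA4.Cpl S), ← Ideal.map_map,
      AdicCompletion.maximalIdeal_eq_map_of_fg (IsNoetherian.noetherian _)]
    exact Ideal.map_mono (((local_hom_TFAE (algebraMap R S)).out 0 2).mp (inferInstance : IsLocalHom (algebraMap R S)))
  exact isRegularHom_comp R (EGA4.Cpl R) (EGA4.Cpl S) hR (RegFS6.isRegularHom_of_fs_of_complete (RegFS6.fs_cpl hfs))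

/-- Regularity of the completion map goes up to strict henselizations. -/
theorem isGRing_of_isStrictHenselization {R S : Type u} [CommRing R] [IsLocalRing R] [IsNoetherianRing R]
    (hR : CAlg.IsGRing R) [CommRing S] [IsLocalRing S] [Algebra R S] [IsLocalHom (algebraMap R S)]
    [Hensel.IsStrictHenselization R S] : CAlg.IsGRing S := by
  have hH := Hensel.isHenzLike_of_isStrictHenselization (R := R) (S := S)
  haveI : IsNoetherianRing S := hH.isNoetherianRing_iff.mp inferInstance
  haveI : IsNoetherianRing (Localization.AtPrime (maximalIdeal R)) :=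
    IsLocalization.isNoetherianRing (maximalIdeal R).primeCompl _ inferInstance
  have hR' : CAlg.IsRegularHom R (EGA4.Cpl R) := regular_cpl_of_ringEquiv
    (IsLocalization.atUnits R (maximalIdeal R).primeCompl (fun u hu => notMem_maximalIdeal.mp hu) :
      R ≃ₐ[R] Localization.AtPrime (maximalIdeal R)).symm.toRingEquiv (hR.2 (maximalIdeal R))
  have h1 := isRegularHom_to_cpl hR' (isRegularHom_of_isHenzLike hH)
  haveI := Hensel.formallyEtale_of_isStrictHenselization R S
  haveI := isNoetherianRing_cpl S
  haveI := (faithfullyFlat_cpl S).toFlat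
  have h2 : CAlg.IsRegularHom S (EGA4.Cpl S) := isRegularHom_of_formallyUnramified h1
  refine isGRing_of_maximal fun m hm => ?_
  obtain rfl := eq_maximalIdeal hm
  haveI : IsNoetherianRing (Localization.AtPrime (maximalIdeal S)) :=
    IsLocalization.isNoetherianRing (maximalIdeal S).primeCompl _ inferInstance
  exact regular_cpl_of_ringEquiv (IsLocalization.atUnits S (maximalIdeal S).primeCompl
    (fun u hu => notMem_maximalIdeal.mp hu) : S ≃ₐ[S] Localization.AtPrime (maximalIdeal S)).toRingEquiv h2

end Groth.Agent.PopescuLib
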