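import Groth.Agent.FormCat.Descent
import Groth.Agent.FlatLoc6.EquidimCat
import Groth.Agent.FlatLoc6.Cpl
import Groth.Agent.CplFib6.CplFinite
import Groth.Agent.DimFormula.Scheme
import Groth.Agent.S0555
import Groth.Agent.S0547
import Mathlib

/-!
# Universally catenary local rings are formally catenary
-/

set_option autoImplicit false
set_option linter.style.haveILetI false

universe u

open IsLocalRing
open Groth.Agent.FlatLoc6

namespace Groth.Agent.PopescuLib.Ratliff

/-- Nothing lies strictly between a prime and a minimal prime over it and one element. -/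
theorem eq_of_lt_of_minimal_sup_span {X : Type u} [CommRing X] [IsNoetherianRing X] {q R Q : Ideal X} [q.IsPrime]
    [R.IsPrime] {x : X} (hQ : Q ∈ (q ⊔ Ideal.span {x}).minimalPrimes) (hqR : q ≤ R) (hRQ : R < Q) : R = q := by
  by_contra hne
  haveI := hQ.1.1
  have hqQ : q ≤ Q := hqR.trans hRQ.le
  let mk := Ideal.Quotient.mk q
  have hms : Function.Surjective mk := Ideal.Quotient.mk_surjective
  haveI hQp : (Q.map mk).IsPrime := Ideal.map_isPrime_of_surjective hms (by rwa [Ideal.mk_ker])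
  haveI hRp : (R.map mk).IsPrime := Ideal.map_isPrime_of_surjective hms (by rwa [Ideal.mk_ker])
  have hc : ∀ {I : Ideal X}, q ≤ I → (I.map mk).comap mk = I := fun {I} h => by
    rw [Ideal.comap_map_of_surjective' _ hms, Ideal.mk_ker, sup_of_le_left h]
  have hmin : Q.map mk ∈ (Ideal.span {mk x}).minimalPrimes := by
    refine ⟨⟨hQp, ?_⟩, fun K hK hKQ => ?_⟩
    · rw [Ideal.span_singleton_le_iff_mem]
      exact Ideal.mem_map_of_mem _ (hQ.1.2 (Ideal.mem_sup_right (Ideal.mem_span_singleton_self x)))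
    · haveI := hK.1
      rw [Ideal.map_le_iff_le_comap]
      refine hQ.2 ⟨inferInstance, sup_le ?_ ?_⟩ ((Ideal.comap_mono hKQ).trans (hc hqQ).le)
      · intro y hy
        show mk y ∈ K
        rw [Ideal.Quotient.eq_zero_iff_mem.mpr hy]
        exact K.zero_mem
      · rw [Ideal.span_singleton_le_iff_mem]
        exact hK.2 (Ideal.mem_span_singleton_self _)
  have h1 : (Q.map mk).height ≤ 1 := Ideal.height_le_one_of_isPrincipal_of_mem_minimalPrimes _ _ hmin
  have h2 : R.map mk < Q.map mk := lt_of_le_of_ne (Ideal.map_mono hRQ.le) fun h => hRQ.ne (by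
    rw [← hc hqR, h, hc hqQ])
  have h3 : (⊥ : Ideal (X ⧸ q)) < R.map mk := bot_lt_iff_ne_bot.mpr fun h => hne (by
    have := hc hqR
    rw [h, ← RingHom.ker_eq_comap_bot, Ideal.mk_ker] at this
    exact this.symm)
  haveI : (⊥ : Ideal (X ⧸ q)).IsPrime := Ideal.isPrime_bot
  have h4 := Ideal.height_strict_mono_of_isPrime (I := R.map mk) (J := Q.map mk) h2
  have h5 := Ideal.height_strict_mono_of_isPrime (I := (⊥ : Ideal (X ⧸ q))) (J := R.map mk) h3
  have h6 : (R.map mk).height = 0 := ENat.lt_one_iff_eq_zero.mp (h4.trans_le h1)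
  rw [h6] at h5
  exact not_lt_bot h5

variable {A : Type u} [CommRing A] [IsNoetherianRing A] [IsLocalRing A]

/-- Minimal primes of the completion lie over minimal primes. -/
theorem under_eq_bot [IsDomain A] {q : Ideal (EGA4.Cpl A)} (hq : q ∈ minimalPrimes (EGA4.Cpl A)) :
    q.comap (algebraMap A (EGA4.Cpl A)) = ⊥ := by
  haveI := faithfullyFlat_cpl A
  haveI := hq.1.1
  haveI : q.LiesOver (q.comap (algebraMap A (EGA4.Cpl A))) := ⟨rfl⟩
  obtain ⟨K, hKq, hK, hKo⟩ := Ideal.exists_ideal_le_liesOver_of_le q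
    (bot_le : (⊥ : Ideal A) ≤ q.comap (algebraMap A (EGA4.Cpl A)))
  have : K = q := le_antisymm hKq (hq.2 ⟨hK, bot_le⟩ hKq)
  rw [← this]
  exact hKo.over.symm

/-- A component of dimension at least two has a hyperplane section over a height one prime. -/
theorem exists_step [IsDomain A] {q : Ideal (EGA4.Cpl A)} (hq : q ∈ minimalPrimes (EGA4.Cpl A))
    {R0 : Ideal (EGA4.Cpl A)} [R0.IsPrime] (h1 : q < R0) (h2 : ¬ R0.IsMaximal) :
    ∃ (p : PrimeSpectrum A) (Q : PrimeSpectrum (EGA4.Cpl A)),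
      (⟨⊥, Ideal.isPrime_bot⟩ : PrimeSpectrum A) ⋖ p ∧
      (⟨q, hq.1.1⟩ : PrimeSpectrum (EGA4.Cpl A)) ⋖ Q ∧
      Q.asIdeal ∈ (p.asIdeal.map (algebraMap A (EGA4.Cpl A))).minimalPrimes := by
  classical
  haveI := isLocalRing_cpl A
  haveI := isNoetherianRing_cpl A
  haveI := faithfullyFlat_cpl A
  haveI := hq.1.1
  have hmax : maximalIdeal (EGA4.Cpl A) = (maximalIdeal A).map (algebraMap A (EGA4.Cpl A)) :=
    AdicCompletion.maximalIdeal_eq_map_of_fg (IsNoetherian.noetherian _)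
  have hnm : ∀ P : Ideal (EGA4.Cpl A), P.IsPrime → P ≠ maximalIdeal (EGA4.Cpl A) →
      P.comap (algebraMap A (EGA4.Cpl A)) ≠ maximalIdeal A := by
    intro P hP hne h
    refine hne (le_antisymm (le_maximalIdeal hP.ne_top) ?_)
    exact hmax.trans_le ((congrArg (Ideal.map (algebraMap A (EGA4.Cpl A))) h.symm).trans_le Ideal.map_comap_le)
  let others : Set (Ideal (EGA4.Cpl A)) := minimalPrimes (EGA4.Cpl A) \ {q}
  let bad : Set (Ideal (EGA4.Cpl A)) :=
    (⋃ q' ∈ others, (q ⊔ q').minimalPrimes) \ {maximalIdeal (EGA4.Cpl A)}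
  have hfin : bad.Finite :=
    (Set.Finite.biUnion ((minimalPrimes.finite_of_isNoetherianRing (R := EGA4.Cpl A)).subset Set.sdiff_subset)
      fun q' _ => Ideal.finite_minimalPrimes_of_isNoetherianRing (EGA4.Cpl A) (q ⊔ q')).subset Set.sdiff_subset
  let T : Finset (Ideal A) := insert (⊥ : Ideal A)
    (hfin.toFinset.image fun P => P.comap (algebraMap A (EGA4.Cpl A)))
  have hT : ∀ I ∈ T, I.IsPrime ∧ I ≠ maximalIdeal A := by
    intro I hI
    rcases Finset.mem_insert.mp hI with rfl | hI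
    · refine ⟨Ideal.isPrime_bot, fun h => ?_⟩
      have h3 : maximalIdeal (EGA4.Cpl A) = ⊥ :=
        hmax.trans ((congrArg (Ideal.map (algebraMap A (EGA4.Cpl A))) h.symm).trans Ideal.map_bot)
      exact not_lt_bot (h1.trans_le ((le_maximalIdeal (Ideal.IsPrime.ne_top ‹R0.IsPrime›)).trans_eq h3))
    · obtain ⟨P, hP, rfl⟩ := Finset.mem_image.mp hI
      rw [hfin.mem_toFinset] at hP
      obtain ⟨hP1, hP2⟩ := hP
      simp only [Set.mem_iUnion] at hP1
      obtain ⟨q', _, hPm⟩ := hP1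
      haveI := hPm.1.1
      exact ⟨Ideal.comap_isPrime _ _, hnm P inferInstance hP2⟩
  obtain ⟨x, hxm, hxT⟩ : ∃ x ∈ maximalIdeal A, ∀ I ∈ T, x ∉ I := by
    by_contra hno
    push Not at hno
    have hsub : (maximalIdeal A : Set A) ⊆ ⋃ I ∈ (T : Set (Ideal A)), (id I : Ideal A) := fun x hx => by
      obtain ⟨I, hI, hxI⟩ := hno x hx
      exact Set.mem_biUnion hI hxI
    obtain ⟨I, hI, hle⟩ := (Ideal.subset_union_prime (f := id) (⊥ : Ideal A) ⊥ fun I hI _ _ => (hT I hI).1).mp hsub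
    exact (hT I hI).2 ((maximalIdeal.isMaximal A).eq_of_le (hT I hI).1.ne_top hle).symm
  let xh := algebraMap A (EGA4.Cpl A) x
  have hxq : xh ∉ q := fun h => hxT ⊥ (Finset.mem_insert_self _ _) (by
    rw [← under_eq_bot hq]; exact h)
  have hle : q ⊔ Ideal.span {xh} ≤ maximalIdeal (EGA4.Cpl A) := by
    refine sup_le (le_maximalIdeal (Ideal.IsPrime.ne_top ‹q.IsPrime›)) ?_
    rw [Ideal.span_singleton_le_iff_mem, hmax]
    exact Ideal.mem_map_of_mem _ hxm
  obtain ⟨Q, hQ, hQle⟩ := Ideal.exists_minimalPrimes_le hle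
  haveI hQp : Q.IsPrime := hQ.1.1
  have hxQ : xh ∈ Q := hQ.1.2 (Ideal.mem_sup_right (Ideal.mem_span_singleton_self _))
  have hqQ : q ≤ Q := le_sup_left.trans hQ.1.2
  have hqQ' : q < Q := lt_of_le_of_ne hqQ fun h => hxq (h ▸ hxQ)
  have hQne : Q ≠ maximalIdeal (EGA4.Cpl A) := by
    intro h
    refine h1.ne (eq_of_lt_of_minimal_sup_span hQ h1.le ?_).symm
    rw [h]
    refine lt_of_le_of_ne (le_maximalIdeal (Ideal.IsPrime.ne_top ‹R0.IsPrime›)) fun h' => h2 ?_
    rw [h']; infer_instance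
  have hstrict : ∀ R : Ideal (EGA4.Cpl A), R.IsPrime → R < Q → R = q := by
    intro R hR hRQ
    haveI := hR
    obtain ⟨q', hq', hq'R⟩ := Ideal.exists_minimalPrimes_le (bot_le : (⊥ : Ideal (EGA4.Cpl A)) ≤ R)
    by_cases hqq : q' = q
    · exact eq_of_lt_of_minimal_sup_span hQ (hqq ▸ hq'R) hRQ
    · exfalso
      haveI := hq'.1.1
      obtain ⟨Q0, hQ0, hQ0Q⟩ := Ideal.exists_minimalPrimes_le (sup_le hqQ (hq'R.trans hRQ.le))
      haveI := hQ0.1.1
      have hQ0ne : Q0 ≠ maximalIdeal (EGA4.Cpl A) := fun h =>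
        hQne (le_antisymm hQle (h ▸ hQ0Q))
      have hQ0bad : Q0 ∈ bad := by
        refine ⟨?_, hQ0ne⟩
        simp only [Set.mem_iUnion]
        exact ⟨q', ⟨hq', hqq⟩, hQ0⟩
      have hxQ0 : xh ∉ Q0 := fun h => hxT (Q0.comap (algebraMap A (EGA4.Cpl A)))
        (Finset.mem_insert_of_mem (Finset.mem_image.mpr ⟨Q0, hfin.mem_toFinset.mpr hQ0bad, rfl⟩)) h
      have hQ0Q' : Q0 < Q := lt_of_le_of_ne hQ0Q fun h => hxQ0 (h ▸ hxQ)
      have h := eq_of_lt_of_minimal_sup_span hQ (le_sup_left.trans hQ0.1.2) hQ0Q'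
      have hq'q : q' ≤ q := h ▸ le_sup_right.trans hQ0.1.2
      exact hqq (le_antisymm hq'q (hq.2 ⟨inferInstance, bot_le⟩ hq'q))
  let p : PrimeSpectrum A := ⟨Q.comap (algebraMap A (EGA4.Cpl A)), Ideal.comap_isPrime _ _⟩
  refine ⟨p, ⟨Q, hQp⟩, ⟨?_, ?_⟩, ⟨hqQ', ?_⟩, ⟨⟨hQp, Ideal.map_comap_le⟩, ?_⟩⟩
  · exact lt_of_le_of_ne (show (⊥ : Ideal A) ≤ p.asIdeal from bot_le) fun h =>
      hxT ⊥ (Finset.mem_insert_self _ _) (show x ∈ (⊥ : Ideal A) by
        have h' : (⊥ : Ideal A) = Q.comap (algebraMap A (EGA4.Cpl A)) := congrArg PrimeSpectrum.asIdeal h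
        rw [h']; exact hxQ)
  · intro z hz hz'
    haveI : Q.LiesOver p.asIdeal := ⟨rfl⟩
    obtain ⟨R, hRQ, hR, hRo⟩ := Ideal.exists_ideal_le_liesOver_of_le Q (show z.asIdeal ≤ p.asIdeal from hz'.le)
    have hne : R ≠ Q := fun h => hz'.ne (PrimeSpectrum.ext (hRo.over.trans (congrArg _ h)))
    have h := hstrict R hR (lt_of_le_of_ne hRQ hne)
    exact hz.ne (PrimeSpectrum.ext ((hRo.over.trans (by rw [h]; exact under_eq_bot hq)).symm))
  · intro z hz hz'
    exact hz.ne (PrimeSpectrum.ext (hstrict z.asIdeal z.2 hz').symm)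
  · intro R hR hRQ
    rcases eq_or_lt_of_le hRQ with rfl | hlt
    · exact le_rfl
    · exfalso
      have h := hstrict R hR.1 hlt
      refine hxT ⊥ (Finset.mem_insert_self _ _) ?_
      rw [← under_eq_bot hq]
      show xh ∈ q
      rw [← h]
      exact hR.2 (Ideal.mem_map_of_mem _ hxQ)

/-- The dimension formula for birational extensions with trivial residue extension. -/
theorem height_eq_of_birational [IsDomain A] (hA : CAlg.IsUniversallyCatenary A) (K : Type u) [Field K]
    [Algebra A K] [IsFractionRing A K] (B : Type u) [CommRing B] [IsDomain B] [Algebra A B]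
    [Algebra.FiniteType A B] (i : B →ₐ[A] K) (hi : Function.Injective i) (P : Ideal B) [P.IsPrime]
    (hP : P.comap (algebraMap A B) = maximalIdeal A) (hres : ∀ b : B, ∃ a, b - algebraMap A B a ∈ P) :
    P.height = (maximalIdeal A).height := by
  haveI : FaithfulSMul A B := (faithfulSMul_iff_algebraMap_injective A B).mpr fun x y h =>
    IsFractionRing.injective A K (by rw [← i.commutes x, h, i.commutes])
  haveI : P.LiesOver (maximalIdeal A) := ⟨hP.symm⟩
  haveI : Algebra.IsAlgebraic A B := by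
    haveI : Algebra.IsAlgebraic A K := IsLocalization.isAlgebraic K (nonZeroDivisors A)
    exact Algebra.IsAlgebraic.of_injective i hi
  haveI : Algebra.IsAlgebraic (A ⧸ maximalIdeal A) (B ⧸ P) := ⟨fun z => by
    obtain ⟨b, rfl⟩ := Ideal.Quotient.mk_surjective z
    obtain ⟨a, ha⟩ := hres b
    have e : Ideal.Quotient.mk P b = algebraMap (A ⧸ maximalIdeal A) (B ⧸ P) (Ideal.Quotient.mk _ a) :=
      Ideal.Quotient.eq.mpr ha
    rw [e]
    exact isAlgebraic_algebraMap _⟩
  have h := Groth.Agent.S0555.result A hA B (maximalIdeal A) P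
  rw [trdeg_eq_zero (R := A) (A := B), trdeg_eq_zero (R := A ⧸ maximalIdeal A) (A := B ⧸ P), add_zero, add_zero] at h
  exact_mod_cast h

/-- A finite birational chart inside the completed component. -/
theorem exists_chart [IsDomain A] (hA : CAlg.IsUniversallyCatenary A) (D : Type u) [CommRing D] [IsDomain D]
    [IsLocalRing D] [Algebra A D] (hinj : Function.Injective (algebraMap A D))
    (hmD : ∀ r ∈ maximalIdeal A, algebraMap A D r ∈ maximalIdeal D) (a : A) (haA : a ≠ 0) (s : Finset A)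
    (τ : {x // x ∈ s} → D) (hτm : ∀ x, τ x ∈ maximalIdeal D)
    (hτe : ∀ x : {x // x ∈ s}, algebraMap A D x.1 = algebraMap A D a * τ x) :
    ∃ (B : Type u) (_ : CommRing B) (_ : IsDomain B) (_ : IsNoetherianRing B) (_ : Algebra A B) (β : B →ₐ[A] D)
      (T : {x // x ∈ s} → B), (∀ x, algebraMap A B a * T x = algebraMap A B x.1) ∧ (∀ x, β (T x) = τ x) ∧
        Algebra.adjoin A (Set.range T) = ⊤ ∧
        ((maximalIdeal D).comap β).height = (maximalIdeal A).height := by
  classical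
  let K := FractionRing A
  let θK : MvPolynomial {x // x ∈ s} A →ₐ[A] K := MvPolynomial.aeval fun x => algebraMap A K x.1 / algebraMap A K a
  let θD : MvPolynomial {x // x ∈ s} A →ₐ[A] D := MvPolynomial.aeval τ
  let FD := FractionRing D
  have hinjAD : Function.Injective (algebraMap A FD) := by
    rw [IsScalarTower.algebraMap_eq A D FD]
    exact (IsFractionRing.injective D FD).comp hinj
  let jK : K →ₐ[A] FD := IsFractionRing.liftAlgHom (g := Algebra.ofId A FD) hinjAD
  let ιD : D →ₐ[A] FD := IsScalarTower.toAlgHom A _ FD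
  have hjθ : jK.comp θK = ιD.comp θD := MvPolynomial.algHom_ext fun x => by
    have hne : algebraMap D FD (algebraMap A D a) ≠ 0 :=
      (map_ne_zero_iff _ (IsFractionRing.injective D FD)).mpr ((map_ne_zero_iff _ hinj).mpr haA)
    show jK (θK (MvPolynomial.X x)) = ιD (θD (MvPolynomial.X x))
    rw [MvPolynomial.aeval_X, MvPolynomial.aeval_X, map_div₀, jK.commutes, jK.commutes,
      IsScalarTower.algebraMap_apply A D FD a, IsScalarTower.algebraMap_apply A D FD x.1, hτe, map_mul,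
      mul_div_cancel_left₀ _ hne]
    rfl
  let J : Ideal (MvPolynomial {x // x ∈ s} A) := RingHom.ker θK
  haveI : J.IsPrime := RingHom.ker_isPrime _
  have hJD : ∀ z ∈ J, θD z = 0 := fun z hz => by
    apply IsFractionRing.injective D FD
    rw [map_zero]
    refine ((AlgHom.congr_fun hjθ z).symm.trans ?_)
    show jK (θK z) = 0
    rw [show θK z = 0 from hz, map_zero]
  let β : MvPolynomial {x // x ∈ s} A ⧸ J →ₐ[A] D := Ideal.Quotient.liftₐ J θD hJD
  let T : {x // x ∈ s} → MvPolynomial {x // x ∈ s} A ⧸ J := fun x => Ideal.Quotient.mk J (MvPolynomial.X x)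
  have hT : ∀ x, β (T x) = τ x := fun x => MvPolynomial.aeval_X τ x
  have hgen : Algebra.adjoin A (Set.range T) = ⊤ := by
    rw [show Set.range T = (Ideal.Quotient.mkₐ A J) '' Set.range MvPolynomial.X by rw [← Set.range_comp]; rfl,
      ← AlgHom.map_adjoin, MvPolynomial.adjoin_range_X, Algebra.map_top, AlgHom.range_eq_top]
    exact Ideal.Quotient.mkₐ_surjective A J
  refine ⟨_, inferInstance, inferInstance, inferInstance, inferInstance, β, T, fun x => ?_, hT, hgen, ?_⟩
  · show Ideal.Quotient.mk J (MvPolynomial.C a) * Ideal.Quotient.mk J (MvPolynomial.X x) =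
      Ideal.Quotient.mk J (MvPolynomial.C x.1)
    rw [← map_mul, Ideal.Quotient.eq, RingHom.mem_ker, map_sub, map_mul, MvPolynomial.aeval_C, MvPolynomial.aeval_C,
      MvPolynomial.aeval_X, mul_div_cancel₀ _ ((map_ne_zero_iff _ (IsFractionRing.injective A K)).mpr haA), sub_self]
  · haveI : ((maximalIdeal D).comap β).IsPrime := Ideal.comap_isPrime _ _
    refine height_eq_of_birational hA K _ (Ideal.Quotient.liftₐ J θK fun z hz => hz)
      (by
        rw [injective_iff_map_eq_zero]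
        intro z hz
        obtain ⟨z, rfl⟩ := Ideal.Quotient.mk_surjective z
        exact Ideal.Quotient.eq_zero_iff_mem.mpr (show z ∈ J from hz))
      ((maximalIdeal D).comap β) ?_ ?_
    · refine ((maximalIdeal.isMaximal A).eq_of_le (Ideal.comap_ne_top _ (Ideal.IsPrime.ne_top ‹_›))
        fun r hr => ?_).symm
      show β (algebraMap A _ r) ∈ maximalIdeal _
      rw [AlgHom.commutes]
      exact hmD r hr
    · intro z
      have hz : z ∈ Algebra.adjoin A (Set.range T) := hgen ▸ Algebra.mem_top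
      induction hz using Algebra.adjoin_induction with
      | mem y hy =>
        obtain ⟨x, rfl⟩ := hy
        refine ⟨0, ?_⟩
        rw [map_zero, sub_zero, Ideal.mem_comap, hT]
        exact hτm x
      | algebraMap r => exact ⟨r, by rw [sub_self]; exact zero_mem _⟩
      | add y w _ _ hy hw =>
        obtain ⟨r, hr⟩ := hy
        obtain ⟨t, ht⟩ := hw
        exact ⟨r + t, by rw [map_add, add_sub_add_comm]; exact add_mem hr ht⟩
      | mul y w _ _ hy hw =>
        obtain ⟨r, hr⟩ := hy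
        obtain ⟨t, ht⟩ := hw
        refine ⟨r * t, ?_⟩
        rw [map_mul, show y * w - algebraMap A _ r * algebraMap A _ t =
          (y - algebraMap A _ r) * w + algebraMap A _ r * (w - algebraMap A _ t) by ring]
        exact add_mem (Ideal.mul_mem_right _ _ hr) (Ideal.mul_mem_left _ _ ht)

/-- Comparing a component of the completed chart with the component we started from. -/
theorem dim_quot_le_of_chart {A C E B BP : Type u} [CommRing A] [CommRing C] [IsLocalRing C] [IsNoetherianRing C]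
    [IsAdicComplete (maximalIdeal C) C] [CommRing E] [IsLocalRing E] [IsNoetherianRing E]
    [IsAdicComplete (maximalIdeal E) E] [CommRing B] [CommRing BP] [IsLocalRing BP] [Algebra A B] [Algebra B BP]
    (q : Ideal C) [q.IsPrime] (R : Ideal E) [R.IsPrime] (ιA : A →+* C) (ιP : BP →+* E) (φ : C →+* E)
    (hm : ∀ c ∈ maximalIdeal C, φ c ∈ maximalIdeal E) (hmaxE : maximalIdeal E = (maximalIdeal BP).map ιP)
    (hres : ∀ z : E, ∃ w : BP, z - ιP w ∈ maximalIdeal E)
    (hcomm : ∀ r : A, φ (ιA r) = ιP (algebraMap B BP (algebraMap A B r)))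
    (β : B →+* C ⧸ q) (hβA : ∀ r : A, β (algebraMap A B r) = Ideal.Quotient.mk q (ιA r))
    (P : Ideal B) [P.IsPrime] [IsLocalization.AtPrime BP P]
    (hP : ∀ z ∈ P, ∀ c, Ideal.Quotient.mk q c = β z → c ∈ maximalIdeal C)
    (hP' : ∀ z ∉ P, ∀ c, Ideal.Quotient.mk q c = β z → c ∉ maximalIdeal C)
    (hqR : ∀ z ∈ q, φ z ∈ R) {S : Set B} (hS : Algebra.adjoin A S = ⊤) (a : A) (haR : φ (ιA a) ∉ R)
    (haS : ∀ y ∈ S, ∃ x : A, algebraMap A B a * y = algebraMap A B x) :
    ringKrullDim (E ⧸ R) ≤ ringKrullDim (C ⧸ q) := by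
  let mk := Ideal.Quotient.mk q
  let π := Ideal.Quotient.mk R
  let ψ : C ⧸ q →+* E ⧸ R :=
    Ideal.Quotient.lift q (π.comp φ) fun z hz => Ideal.Quotient.eq_zero_iff_mem.mpr (hqR z hz)
  have hψA : ∀ r, ψ (β (algebraMap A B r)) = π (ιP (algebraMap B BP (algebraMap A B r))) := fun r => by
    rw [hβA, ← hcomm]; rfl
  have hψB : ∀ z : B, ψ (β z) = π (ιP (algebraMap B BP z)) := by
    intro z
    have hz : z ∈ Algebra.adjoin A S := hS ▸ Algebra.mem_top
    induction hz using Algebra.adjoin_induction with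
    | mem y hy =>
      obtain ⟨x, hx⟩ := haS y hy
      refine mul_left_cancel₀ (a := π (φ (ιA a))) (fun h => haR (Ideal.Quotient.eq_zero_iff_mem.mp h)) ?_
      have h1 := hψA x
      rw [← hx, map_mul, map_mul, map_mul, map_mul, map_mul, hψA, ← hcomm] at h1
      exact h1
    | algebraMap r => exact hψA r
    | add y w _ _ hy hw => simp only [map_add, hy, hw]
    | mul y w _ _ hy hw => simp only [map_mul, hy, hw]
  haveI : IsLocalRing (C ⧸ q) := .of_surjective' mk Ideal.Quotient.mk_surjective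
  haveI : IsLocalRing (E ⧸ R) := .of_surjective' π Ideal.Quotient.mk_surjective
  have hπmax : (maximalIdeal E).map π = maximalIdeal (E ⧸ R) :=
    IsLocalRing.map_maximalIdeal_of_surjective π Ideal.Quotient.mk_surjective
  have hmkmax : (maximalIdeal C).map mk = maximalIdeal (C ⧸ q) :=
    IsLocalRing.map_maximalIdeal_of_surjective mk Ideal.Quotient.mk_surjective
  have hψBP : ∀ z : BP, ∃ d, ψ d = π (ιP z) := by
    intro z
    obtain ⟨z, t, rfl⟩ := IsLocalization.exists_mk'_eq P.primeCompl z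
    obtain ⟨d, hd⟩ := Ideal.Quotient.mk_surjective (β t)
    have hu : IsUnit (mk d) := (notMem_maximalIdeal.mp (hP' t t.2 d hd)).map mk
    refine ⟨β z * ↑hu.unit⁻¹, (hu.map ψ).mul_left_inj.mp ?_⟩
    rw [← map_mul, mul_assoc, IsUnit.val_inv_mul, mul_one, hd, hψB, hψB, ← map_mul, ← map_mul,
      IsLocalization.mk'_spec]
  have hmax' : (maximalIdeal (C ⧸ q)).map ψ = maximalIdeal (E ⧸ R) := by
    refine le_antisymm ?_ ?_
    · rw [← hmkmax, Ideal.map_map, show ψ.comp mk = π.comp φ from rfl, ← hπmax, ← Ideal.map_map]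
      exact Ideal.map_mono (Ideal.map_le_iff_le_comap.mpr hm)
    · rw [← hπmax, hmaxE, ← IsLocalization.AtPrime.map_eq_maximalIdeal P BP, Ideal.map_map, Ideal.map_map,
        Ideal.map_le_iff_le_comap]
      intro z hz
      rw [Ideal.mem_comap, RingHom.comp_apply, RingHom.comp_apply, ← hψB]
      obtain ⟨c, hc⟩ := Ideal.Quotient.mk_surjective (β z)
      rw [← hc, ← hmkmax]
      exact Ideal.mem_map_of_mem ψ (Ideal.mem_map_of_mem mk (hP z hz c hc))
  haveI : IsAdicComplete (maximalIdeal (C ⧸ q)) (C ⧸ q) := CplFib6.isAdicComplete_quot q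
  haveI : IsAdicComplete (maximalIdeal (E ⧸ R)) (E ⧸ R) := CplFib6.isAdicComplete_quot R
  haveI : IsHausdorff ((maximalIdeal (C ⧸ q)).map ψ) (E ⧸ R) := hmax'.symm ▸ inferInstance
  refine ringKrullDim_le_of_surjective ψ (surjective_of_mk_map_comp_surjective ψ (I := maximalIdeal (C ⧸ q)) ?_)
  intro z
  obtain ⟨z, rfl⟩ := Ideal.Quotient.mk_surjective z
  obtain ⟨z, rfl⟩ := Ideal.Quotient.mk_surjective z
  obtain ⟨w, hw⟩ := hres z
  obtain ⟨d, hd⟩ := hψBP w
  refine ⟨d, ?_⟩
  show Ideal.Quotient.mk _ (ψ d) = Ideal.Quotient.mk _ (π z)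
  rw [hd, Ideal.Quotient.eq, hmax', ← map_sub, ← hπmax]
  exact Ideal.mem_map_of_mem π (by simpa using neg_mem hw)

/-- Dimension from the irreducible components. -/
theorem ringKrullDim_le_of_minimalPrimes {X : Type u} [CommRing X] (n : WithBot ℕ∞)
    (h : ∀ R ∈ minimalPrimes X, ringKrullDim (X ⧸ R) ≤ n) : ringKrullDim X ≤ n := by
  rw [ringKrullDim, Order.krullDim_eq_iSup_coheight]
  refine iSup_le fun x => ?_
  obtain ⟨x₀, hx₀, hle⟩ := Ideal.exists_minimalPrimes_le (bot_le : (⊥ : Ideal X) ≤ x.asIdeal)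
  rw [VarDim.coheight_eq_ringKrullDim_quotient x]
  exact (ringKrullDim_le_of_surjective (Ideal.Quotient.factor hle) (Ideal.Quotient.factor_surjective hle)).trans
    (h x₀ hx₀)

/-- A component which is a curve. -/
theorem ringKrullDim_quotient_eq_one {C : Type u} [CommRing C] [IsNoetherianRing C] [IsLocalRing C]
    [IsAdicComplete (maximalIdeal C) C] (q : Ideal C) [q.IsPrime] (hqm : q ≠ maximalIdeal C)
    (hone : ∀ R : Ideal C, R.IsPrime → q < R → R = maximalIdeal C) : ringKrullDim (C ⧸ q) = 1 := by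
  have hcov : (⟨q, inferInstance⟩ : PrimeSpectrum C) ⋖ closedPoint C := by
    refine ⟨lt_of_le_of_ne (le_maximalIdeal (Ideal.IsPrime.ne_top ‹q.IsPrime›))
      fun h => hqm (congrArg PrimeSpectrum.asIdeal h), fun z hz hz' => ?_⟩
    exact hz'.ne (PrimeSpectrum.ext (hone z.asIdeal z.2 hz))
  have h := ringKrullDim_quotient_covBy FormCat.isCatenary_of_complete hcov
  rw [ringKrullDim_eq_zero_of_isField (F := C ⧸ (closedPoint C).asIdeal)
    ((Ideal.Quotient.maximal_ideal_iff_isField_quotient _).mp (maximalIdeal.isMaximal C)), zero_add] at h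
  exact h

/-- Along a covering in a complete local ring the dimension drops by one. -/
theorem ringKrullDim_quotient_succ {C : Type u} [CommRing C] [IsNoetherianRing C] [IsLocalRing C]
    [IsAdicComplete (maximalIdeal C) C] {p Q : PrimeSpectrum C} (h : p ⋖ Q) :
    ringKrullDim (C ⧸ p.asIdeal) = ringKrullDim (C ⧸ Q.asIdeal) + 1 :=
  ringKrullDim_quotient_covBy FormCat.isCatenary_of_complete h

set_option maxHeartbeats 1600000 in
/-- An isolated one-dimensional component forces dimension at most one. -/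
theorem dim_le_one_of_component [IsDomain A] (hA : CAlg.IsUniversallyCatenary A) {q : Ideal (EGA4.Cpl A)}
    (hq : q ∈ minimalPrimes (EGA4.Cpl A)) [IsLocalRing (EGA4.Cpl A)] (hqm : q ≠ maximalIdeal (EGA4.Cpl A))
    (hone : ∀ R : Ideal (EGA4.Cpl A), R.IsPrime → q < R → R = maximalIdeal (EGA4.Cpl A)) :
    ringKrullDim A ≤ 1 := by
  classical
  haveI := isNoetherianRing_cpl A
  haveI := faithfullyFlat_cpl A
  haveI := hq.1.1
  haveI := FormCat.isAdicComplete_cpl A
  have hmax : maximalIdeal (EGA4.Cpl A) = (maximalIdeal A).map (algebraMap A (EGA4.Cpl A)) :=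
    AdicCompletion.maximalIdeal_eq_map_of_fg (IsNoetherian.noetherian _)
  let M := minimalPrimes (EGA4.Cpl A)
  have hMfin : M.Finite := minimalPrimes.finite_of_isNoetherianRing (R := EGA4.Cpl A)
  let others : Finset (Ideal (EGA4.Cpl A)) := hMfin.toFinset.erase q
  have hothers : ∀ q' ∈ others, q'.IsPrime ∧ q' ∈ minimalPrimes (EGA4.Cpl A) ∧ q' ≠ q := fun q' h => by
    obtain ⟨h1, h2⟩ := Finset.mem_erase.mp h
    rw [hMfin.mem_toFinset] at h2
    exact ⟨h2.1.1, h2, h1⟩
  -- e vanishes on the other components, f only on ours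
  obtain ⟨μ, hμm, hμq⟩ : ∃ μ ∈ maximalIdeal (EGA4.Cpl A), μ ∉ q :=
    Set.not_subset.mp fun h => hqm (le_antisymm (le_maximalIdeal (Ideal.IsPrime.ne_top ‹_›)) h)
  obtain ⟨e, hem, heq, heq'⟩ : ∃ e ∈ maximalIdeal (EGA4.Cpl A), e ∉ q ∧ ∀ q' ∈ others, e ∈ q' := by
    have h : ∀ q' ∈ others, ∃ z ∈ q', z ∉ q := fun q' h' => Set.not_subset.mp fun hle => by
      obtain ⟨hp, hmin, hne⟩ := hothers q' h'
      exact hne (le_antisymm hle (hq.2 ⟨hp, bot_le⟩ hle))
    choose z hz1 hz2 using h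
    refine ⟨μ * ∏ q' ∈ others.attach, z q'.1 q'.2, Ideal.mul_mem_right _ _ hμm, fun hmem => ?_, fun q' h' => ?_⟩
    · rcases Ideal.IsPrime.mem_or_mem ‹q.IsPrime› hmem with hm | hm
      · exact hμq hm
      · obtain ⟨i, -, hi⟩ := (Ideal.IsPrime.prod_mem_iff).mp hm
        exact hz2 i.1 i.2 hi
    · exact Ideal.mul_mem_left _ _ (Ideal.prod_mem q' (Finset.mem_attach others ⟨q', h'⟩) (hz1 q' h'))
  obtain ⟨f, hfq, hfq'⟩ : ∃ f ∈ q, ∀ q' ∈ others, f ∉ q' := by
    by_contra hno
    push Not at hno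
    have hsub : (q : Set (EGA4.Cpl A)) ⊆ ⋃ I ∈ (others : Set (Ideal (EGA4.Cpl A))), (id I : Ideal (EGA4.Cpl A)) :=
      fun x hx => by
        obtain ⟨I, hI, hxI⟩ := hno x hx
        exact Set.mem_biUnion hI hxI
    obtain ⟨I, hI, hle⟩ := (Ideal.subset_union_prime (f := id) (⊥ : Ideal _) ⊥ fun I hI _ _ => (hothers I hI).1).mp hsub
    obtain ⟨-, hmin, hne⟩ := hothers I hI
    exact hne (le_antisymm (hmin.2 ⟨inferInstance, bot_le⟩ hle) hle)
  -- the component
  let mk := Ideal.Quotient.mk q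
  haveI : IsLocalRing (EGA4.Cpl A ⧸ q) := .of_surjective' mk Ideal.Quotient.mk_surjective
  have hmkmax : (maximalIdeal (EGA4.Cpl A)).map mk = maximalIdeal (EGA4.Cpl A ⧸ q) :=
    IsLocalRing.map_maximalIdeal_of_surjective mk Ideal.Quotient.mk_surjective
  obtain ⟨n, hn⟩ : ∃ n : ℕ, maximalIdeal (EGA4.Cpl A) ^ n ≤ q ⊔ Ideal.span {e} := by
    refine Ideal.exists_pow_le_of_le_radical_of_fg ?_ (IsNoetherian.noetherian _)
    rw [Ideal.radical_eq_sInf]
    refine le_sInf fun R hR => ?_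
    obtain ⟨hle, hRp⟩ := hR
    refine (hone R hRp (lt_of_le_of_ne (le_sup_left.trans hle) fun h => heq ?_)).ge
    rw [h]
    exact hle (Ideal.mem_sup_right (Ideal.mem_span_singleton_self e))
  let N := n + 1
  obtain ⟨a, ha⟩ := CplFib6.exists_sub_mem_pow A N (e + f)
  obtain ⟨b, hb⟩ := CplFib6.exists_sub_mem_pow A N f
  obtain ⟨cs, hcs⟩ := (IsNoetherian.noetherian (maximalIdeal A ^ N) : (maximalIdeal A ^ N).FG)
  have hsmall : ∀ z ∈ (maximalIdeal A ^ N).map (algebraMap A (EGA4.Cpl A)),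
      ∃ t ∈ maximalIdeal (EGA4.Cpl A), mk z = mk (e * t) := by
    intro z hz
    rw [Ideal.map_pow, ← hmax, pow_succ] at hz
    refine Submodule.mul_induction_on hz (fun y hy w hw => ?_) (fun y w hy hw => ?_)
    · obtain ⟨y1, hy1, y2, hy2, rfl⟩ := Submodule.mem_sup.mp (hn hy)
      obtain ⟨c, rfl⟩ := Ideal.mem_span_singleton.mp hy2
      refine ⟨c * w, Ideal.mul_mem_left _ _ hw, Ideal.Quotient.eq.mpr ?_⟩
      rw [show (y1 + e * c) * w - e * (c * w) = y1 * w by ring]
      exact Ideal.mul_mem_right _ _ hy1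
    · obtain ⟨t, ht, e1⟩ := hy
      obtain ⟨s, hs, e2⟩ := hw
      exact ⟨t + s, add_mem ht hs, by rw [map_add, e1, e2, ← map_add, mul_add]⟩
  let ah := algebraMap A (EGA4.Cpl A) a
  obtain ⟨t0, ht0, e0⟩ := hsmall _ ha
  have hau : mk ah = mk e * mk (1 - t0) := by
    rw [← map_mul, Ideal.Quotient.eq]
    rw [Ideal.Quotient.eq] at e0
    have h := sub_mem hfq e0
    rwa [show f - (e + f - ah - e * t0) = ah - e * (1 - t0) by ring] at h
  have hu : IsUnit (mk (1 - t0)) := (IsLocalRing.isUnit_one_sub_self_of_mem_nonunits _ ht0).map mk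
  have hmke : mk e ≠ 0 := fun h => heq (Ideal.Quotient.eq_zero_iff_mem.mp h)
  have ha0 : mk ah ≠ 0 := by rw [hau]; exact mul_ne_zero hmke hu.ne_zero
  have haA : a ≠ 0 := fun h => ha0 (by simp [ah, h])
  let gens : Finset A := insert b cs
  have hτ : ∀ x ∈ gens, ∃ τ ∈ maximalIdeal (EGA4.Cpl A ⧸ q), mk (algebraMap A _ x) = mk ah * τ := by
    intro x hx
    obtain ⟨t, ht, et⟩ : ∃ t ∈ maximalIdeal (EGA4.Cpl A), mk (algebraMap A _ x) = mk (e * t) := by
      rcases Finset.mem_insert.mp hx with rfl | hx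
      · obtain ⟨t, ht, et⟩ := hsmall _ hb
        refine ⟨-t, neg_mem ht, ?_⟩
        rw [map_sub, Ideal.Quotient.eq_zero_iff_mem.mpr hfq, zero_sub] at et
        rw [mul_neg, map_neg, ← et, neg_neg]
      · exact hsmall _ (Ideal.mem_map_of_mem _ (hcs ▸ Submodule.subset_span hx))
    refine ⟨mk t * ↑hu.unit⁻¹, Ideal.mul_mem_right _ _ (hmkmax ▸ Ideal.mem_map_of_mem mk ht), ?_⟩
    rw [et, map_mul, hau]
    rw [show mk e * mk (1 - t0) * (mk t * ↑hu.unit⁻¹) = mk e * mk t * (mk (1 - t0) * ↑hu.unit⁻¹) by ring,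
      IsUnit.mul_val_inv, mul_one]
  choose τ hτm hτe using hτ
  let V := {x : A // x ∈ gens}
  -- the chart
  have hinjAD : Function.Injective (algebraMap A (EGA4.Cpl A ⧸ q)) := by
    rw [injective_iff_map_eq_zero]
    intro x hx
    have hx' : mk (algebraMap A (EGA4.Cpl A) x) = 0 := hx
    have h2 : x ∈ q.comap (algebraMap A (EGA4.Cpl A)) := (Ideal.Quotient.eq_zero_iff_mem (I := q)).mp hx'
    rwa [under_eq_bot hq, Ideal.mem_bot] at h2
  have hAmax : ∀ r ∈ maximalIdeal A, algebraMap A (EGA4.Cpl A ⧸ q) r ∈ maximalIdeal (EGA4.Cpl A ⧸ q) := fun r hr => by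
    rw [← hmkmax]
    exact Ideal.mem_map_of_mem mk (hmax ▸ Ideal.mem_map_of_mem _ hr)
  obtain ⟨B, _, _, _, _, β, T, hTa, hβT, hgen, hht⟩ := exists_chart hA (EGA4.Cpl A ⧸ q) hinjAD hAmax a haA gens
    (fun x => τ x.1 x.2) (fun x => hτm _ _) (fun x => hτe x.1 x.2)
  let P : Ideal B := (maximalIdeal (EGA4.Cpl A ⧸ q)).comap β
  haveI : P.IsPrime := Ideal.comap_isPrime _ _
  have hPA : ∀ r ∈ maximalIdeal A, algebraMap A B r ∈ P := fun r hr => by
    show β (algebraMap A B r) ∈ maximalIdeal _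
    rw [AlgHom.commutes]
    exact hAmax r hr
  have hTP : ∀ x, T x ∈ P := fun x => by
    show β (T x) ∈ maximalIdeal _
    rw [hβT]
    exact hτm _ _
  let BP := Localization.AtPrime P
  haveI : IsNoetherianRing BP := IsLocalization.isNoetherianRing P.primeCompl _ inferInstance
  haveI : IsDomain BP := IsLocalization.isDomain_localization P.primeCompl_le_nonZeroDivisors
  have hdim : ringKrullDim A = ringKrullDim (EGA4.Cpl BP) := by
    rw [← IsLocalRing.maximalIdeal_height_eq_ringKrullDim, ← hht]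
    exact ((S0547.result BP).trans (IsLocalization.AtPrime.ringKrullDim_eq_height P BP)).symm
  rw [hdim]
  haveI : IsLocalHom (algebraMap A BP) := ⟨fun r hr => by
    by_contra hn
    rw [IsScalarTower.algebraMap_apply A B BP, IsLocalization.AtPrime.isUnit_to_map_iff BP P] at hr
    exact hr (hPA r hn)⟩
  obtain ⟨_, hst⟩ := CplFib6.exists_cplMap A BP
  haveI := hst
  haveI := isLocalRing_cpl BP
  haveI := isNoetherianRing_cpl BP
  haveI := faithfullyFlat_cpl BP
  haveI := FormCat.isAdicComplete_cpl BP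
  have hmaxB : maximalIdeal (EGA4.Cpl BP) = (maximalIdeal BP).map (algebraMap BP (EGA4.Cpl BP)) :=
    AdicCompletion.maximalIdeal_eq_map_of_fg (IsNoetherian.noetherian _)
  refine ringKrullDim_le_of_minimalPrimes 1 fun R hR => ?_
  haveI := hR.1.1
  let φ : EGA4.Cpl A →+* EGA4.Cpl BP := algebraMap (EGA4.Cpl A) (EGA4.Cpl BP)
  let tE : V → EGA4.Cpl BP := fun x => algebraMap BP (EGA4.Cpl BP) (algebraMap B BP (T x))
  have htm : ∀ x, tE x ∈ maximalIdeal (EGA4.Cpl BP) := fun x => by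
    rw [hmaxB]
    exact Ideal.mem_map_of_mem _ ((IsLocalization.AtPrime.to_map_mem_maximal_iff BP P _).mpr (hTP x))
  have hφA : ∀ r : A, φ (algebraMap A (EGA4.Cpl A) r) = algebraMap BP (EGA4.Cpl BP) (algebraMap B BP (algebraMap A B r)) :=
    fun r => by
      rw [← IsScalarTower.algebraMap_apply A B BP, ← IsScalarTower.algebraMap_apply A BP (EGA4.Cpl BP)]
      exact (IsScalarTower.algebraMap_apply A (EGA4.Cpl A) (EGA4.Cpl BP) r).symm
  have htx : ∀ x : V, φ (algebraMap A _ x.1) = φ ah * tE x := fun x => by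
    rw [hφA, hφA, ← map_mul, ← map_mul, hTa]
  have haR : φ ah ∉ R := fun h => by
    rw [hφA] at h
    have h1 : algebraMap B BP (algebraMap A B a) ∈ R.comap (algebraMap BP (EGA4.Cpl BP)) := h
    rw [under_eq_bot hR, Ideal.mem_bot, ← map_zero (algebraMap B BP)] at h1
    have h3 := congrArg β (IsLocalization.injective BP P.primeCompl_le_nonZeroDivisors h1)
    rw [AlgHom.commutes, map_zero] at h3
    exact ha0 h3
  have hpowN : ∀ z ∈ (maximalIdeal A ^ N).map (algebraMap A (EGA4.Cpl A)),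
      ∃ r ∈ maximalIdeal (EGA4.Cpl BP), φ z = φ ah * r := by
    intro z hz
    rw [← hcs, Ideal.map_span] at hz
    induction hz using Submodule.span_induction with
    | mem y hy =>
      obtain ⟨c, hc, rfl⟩ := hy
      exact ⟨tE ⟨c, Finset.mem_insert_of_mem hc⟩, htm _, htx ⟨c, Finset.mem_insert_of_mem hc⟩⟩
    | zero => exact ⟨0, zero_mem _, by rw [map_zero, mul_zero]⟩
    | add y w _ _ hy hw =>
      obtain ⟨r, hr, e1⟩ := hy
      obtain ⟨s, hs, e2⟩ := hw
      exact ⟨r + s, add_mem hr hs, by rw [map_add, e1, e2, mul_add]⟩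
    | smul c y _ hy =>
      obtain ⟨r, hr, e1⟩ := hy
      exact ⟨φ c * r, Ideal.mul_mem_left _ _ hr, by rw [smul_eq_mul, map_mul, e1]; ring⟩
  have hqR : ∀ z ∈ q, φ z ∈ R := by
    obtain ⟨q', hq', hle⟩ := Ideal.exists_minimalPrimes_le (bot_le : (⊥ : Ideal (EGA4.Cpl A)) ≤ R.comap φ)
    by_cases hqq : q' = q
    · exact fun z hz => hle (hqq.symm ▸ hz)
    exfalso
    have he' : φ e ∈ R := hle (heq' q' (Finset.mem_erase.mpr ⟨hqq, hMfin.mem_toFinset.mpr hq'⟩))
    obtain ⟨r1, hr1, e1⟩ := hpowN _ ha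
    obtain ⟨r2, hr2, e2⟩ := hpowN _ hb
    have hbE : φ (algebraMap A _ b) = φ ah * tE ⟨b, Finset.mem_insert_self _ _⟩ := htx ⟨b, Finset.mem_insert_self _ _⟩
    have hu' : IsUnit (1 - (tE ⟨b, Finset.mem_insert_self _ _⟩ + r2 - r1)) :=
      IsLocalRing.isUnit_one_sub_self_of_mem_nonunits _ (sub_mem (add_mem (htm _) hr2) hr1)
    have h : φ ah * (1 - (tE ⟨b, Finset.mem_insert_self _ _⟩ + r2 - r1)) = φ e := by
      rw [mul_sub, mul_one, mul_sub, mul_add, ← hbE, ← e1, ← e2, map_sub, map_sub, map_add]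
      ring
    exact haR ((Ideal.IsPrime.mem_or_mem inferInstance (h ▸ he')).resolve_right
      fun h' => (Ideal.IsPrime.ne_top ‹R.IsPrime›) (Ideal.eq_top_of_isUnit_mem _ h' hu'))
  refine (dim_quot_le_of_chart q R (algebraMap A (EGA4.Cpl A)) (algebraMap BP (EGA4.Cpl BP)) φ ?_ hmaxB ?_ hφA
    β.toRingHom β.commutes P ?_ ?_ hqR hgen a haR ?_).trans ?_
  · intro c hc
    have h : (maximalIdeal (EGA4.Cpl A)).map φ ≤ maximalIdeal (EGA4.Cpl BP) := by
      rw [hmax, Ideal.map_map, Ideal.map_le_iff_le_comap]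
      intro r hr
      show φ (algebraMap A _ r) ∈ maximalIdeal (EGA4.Cpl BP)
      rw [hφA, hmaxB]
      exact Ideal.mem_map_of_mem _ ((IsLocalization.AtPrime.to_map_mem_maximal_iff BP P _).mpr (hPA r hr))
    exact h (Ideal.mem_map_of_mem φ hc)
  · intro z
    obtain ⟨w, hw⟩ := CplFib6.exists_sub_mem_pow BP 1 z
    rw [pow_one, ← hmaxB] at hw
    exact ⟨w, by simpa using hw⟩
  · intro z hz c hc
    by_contra hn
    exact (mem_maximalIdeal _).mp hz (hc ▸ (notMem_maximalIdeal.mp hn).map mk)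
  · intro z hz c hc hn
    exact hz (show β z ∈ maximalIdeal _ from hc ▸ hmkmax ▸ Ideal.mem_map_of_mem mk hn)
  · rintro _ ⟨x, rfl⟩
    exact ⟨x.1, hTa x⟩
  exact (ringKrullDim_quotient_eq_one q hqm hone).le

set_option maxHeartbeats 1600000 in
/-- Induction on the dimension. -/
theorem isFormallyEquidim_of_dim_le : ∀ (n : ℕ) (A : Type u) [CommRing A] [IsNoetherianRing A] [IsLocalRing A]
    [IsDomain A], CAlg.IsUniversallyCatenary A → ringKrullDim A ≤ n → EGA4.IsFormallyEquidim A := by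
  intro n
  induction n using Nat.strong_induction_on with
  | _ n ih =>
    intro A _ _ _ _ hA hn
    haveI := isLocalRing_cpl A
    haveI := isNoetherianRing_cpl A
    haveI := faithfullyFlat_cpl A
    haveI := FormCat.isAdicComplete_cpl A
    intro q hq
    haveI := hq.1.1
    refine le_antisymm (ringKrullDim_quotient_le q) ?_
    rw [show ringKrullDim (AdicCompletion (maximalIdeal A) A) = ringKrullDim A from S0547.result A]
    by_cases hqm : q = maximalIdeal (EGA4.Cpl A)
    · have h : maximalIdeal A = ⊥ := by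
        have h2 := under_eq_bot hq
        rw [hqm] at h2
        rw [eq_bot_iff, ← h2]
        intro x hx
        show algebraMap A _ x ∈ maximalIdeal (EGA4.Cpl A)
        rw [AdicCompletion.maximalIdeal_eq_map_of_fg (IsNoetherian.noetherian _)]
        exact Ideal.mem_map_of_mem _ hx
      rw [ringKrullDim_eq_zero_of_isField (isField_iff_maximalIdeal_eq.mpr h)]
      exact ringKrullDim_nonneg_of_nontrivial
    by_cases hone : ∀ R : Ideal (EGA4.Cpl A), R.IsPrime → q < R → R = maximalIdeal (EGA4.Cpl A)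
    · have h1 : ringKrullDim (EGA4.Cpl A ⧸ q) = 1 := ringKrullDim_quotient_eq_one (C := EGA4.Cpl A) q hqm hone
      have h2 : ringKrullDim A ≤ 1 := dim_le_one_of_component hA hq hqm hone
      exact h2.trans_eq h1.symm
    push Not at hone
    obtain ⟨R0, hR0, hqR0, hR0ne⟩ := hone
    haveI := hR0
    obtain ⟨p, Q, hp, hQ, hQp⟩ := exists_step hq hqR0 fun h => hR0ne (eq_maximalIdeal h)
    haveI : IsLocalRing (A ⧸ p.asIdeal) := .of_surjective' _ Ideal.Quotient.mk_surjective
    have hAcat : CAlg.IsCatenary A := hA.2 A inferInstance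
    have hdA : ringKrullDim A = ringKrullDim (A ⧸ p.asIdeal) + 1 := by
      have h1 := ringKrullDim_quotient_covBy (A := A) hAcat (p := ⟨⊥, Ideal.isPrime_bot⟩) (q := p) hp
      have h2 : ringKrullDim (A ⧸ (⊥ : Ideal A)) = ringKrullDim A :=
        ringKrullDim_eq_of_ringEquiv (RingEquiv.quotientBot A)
      exact h2.symm.trans h1
    obtain ⟨k, hk⟩ : ∃ k : ℕ, ringKrullDim (A ⧸ p.asIdeal) = k := by
      have hne : (maximalIdeal (A ⧸ p.asIdeal)).height ≠ ⊤ := Ideal.height_ne_top (maximalIdeal.isMaximal _).ne_top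
      obtain ⟨k, hk⟩ := ENat.ne_top_iff_exists.mp hne
      exact ⟨k, by rw [← IsLocalRing.maximalIdeal_height_eq_ringKrullDim, ← hk]; rfl⟩
    have hkn : k < n := by
      rw [hdA, hk] at hn
      have : ((k + 1 : ℕ) : WithBot ℕ∞) ≤ (n : ℕ) := by exact_mod_cast hn
      exact Nat.lt_of_succ_le (by exact_mod_cast this)
    have hfe := ih k hkn (A ⧸ p.asIdeal)
      (DimFormula.isUniversallyCatenary_of_surjective hA (Ideal.Quotient.mk p.asIdeal) Ideal.Quotient.mk_surjective)
      hk.le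
    rw [FormCat.isFormallyEquidim_quotient_iff] at hfe
    let π := Ideal.Quotient.mk (p.asIdeal.map (algebraMap A (EGA4.Cpl A)))
    have hker : p.asIdeal.map (algebraMap A (EGA4.Cpl A)) ≤ Q.asIdeal := hQp.1.2
    have hmin : Q.asIdeal.map π ∈ minimalPrimes (EGA4.Cpl A ⧸ p.asIdeal.map (algebraMap A (EGA4.Cpl A))) := by
      have hc : (Q.asIdeal.map π).comap π = Q.asIdeal := by
        rw [Ideal.comap_map_of_surjective' _ Ideal.Quotient.mk_surjective, Ideal.mk_ker, sup_of_le_left hker]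
      refine ⟨⟨Ideal.map_isPrime_of_surjective Ideal.Quotient.mk_surjective (by rwa [Ideal.mk_ker]), bot_le⟩,
        fun K hK hKQ => ?_⟩
      haveI := hK.1
      rw [Ideal.map_le_iff_le_comap]
      exact hQp.2 ⟨inferInstance, fun z hz => by
        show π z ∈ K
        rw [Ideal.Quotient.eq_zero_iff_mem.mpr hz]
        exact K.zero_mem⟩ ((Ideal.comap_mono hKQ).trans hc.le)
    have hdQ : ringKrullDim (EGA4.Cpl A ⧸ Q.asIdeal) = ringKrullDim (A ⧸ p.asIdeal) := by
      rw [← FormCat.ringKrullDim_cpl_quotient A p.asIdeal, ← hfe _ hmin]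
      exact (ringKrullDim_eq_of_ringEquiv (DoubleQuot.quotQuotEquivQuotOfLE hker)).symm
    rw [hdA, ← hdQ]
    exact (ringKrullDim_quotient_succ hQ).ge

/-- A universally catenary Noetherian local ring is formally catenary. -/
theorem isFormallyCatenary (A : Type u) [CommRing A] [IsNoetherianRing A] [IsLocalRing A]
    (hA : CAlg.IsUniversallyCatenary A) : EGA4.IsFormallyCatenary A := by
  intro p _
  haveI : IsLocalRing (A ⧸ p) := .of_surjective' _ Ideal.Quotient.mk_surjective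
  obtain ⟨k, hk⟩ := ENat.ne_top_iff_exists.mp
    (Ideal.height_ne_top (maximalIdeal.isMaximal (A ⧸ p)).ne_top)
  refine isFormallyEquidim_of_dim_le k (A ⧸ p)
    (DimFormula.isUniversallyCatenary_of_surjective hA (Ideal.Quotient.mk p) Ideal.Quotient.mk_surjective) ?_
  rw [← IsLocalRing.maximalIdeal_height_eq_ringKrullDim, ← hk]
  rfl

end Groth.Agent.PopescuLib.Ratliff
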