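import Groth.Agent.PopescuLib.GRingCompletion
import Groth.Agent.FlatLoc6.GeomComp
import Groth.Agent.FormalFib6.Transfer

/-!
# Regular homomorphisms and localization
-/

set_option autoImplicit false
set_option linter.style.haveILetI false

universe u

open TensorProduct IsLocalRing
open Groth.Agent.FlatLoc6

namespace Groth.Agent.PopescuLib

/-- Fields over the base essentially of finite type detect regularity. -/
theorem isRegularHom_iff_field {A C : Type u} [CommRing A] [CommRing C] [IsNoetherianRing C] [Algebra A C] :
    CAlg.IsRegularHom A C ↔ Module.Flat A C ∧ ∀ (L : Type u) [Field L] [Algebra A L],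
      Algebra.EssFiniteType A L → IsRegularRing (L ⊗[A] C) := by
  constructor
  · intro h
    refine ⟨h.1, fun L _ _ hL => ?_⟩
    haveI := hL
    let p := RingHom.ker (algebraMap A L)
    haveI : p.IsPrime := RingHom.ker_isPrime _
    obtain ⟨_, _⟩ := exists_residueAlgebra (L := L) p rfl
    haveI : Algebra.EssFiniteType p.ResidueField L := Algebra.EssFiniteType.of_comp A _ _
    haveI := regular_tensor_of_geometricallyRegular (h.2 p).2 L
    exact IsRegularRing.of_ringEquiv (R := L ⊗[p.ResidueField] p.Fiber C)
      (Algebra.TensorProduct.cancelBaseChange A p.ResidueField L L C).toRingEquiv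
  · rintro ⟨hf, h⟩
    refine ⟨hf, fun p _ => ⟨isNoetherianRing_fiber p, fun L _ _ hL => ?_⟩⟩
    letI : Algebra A L := ((algebraMap p.ResidueField L).comp (algebraMap A p.ResidueField)).toAlgebra
    haveI : IsScalarTower A p.ResidueField L := IsScalarTower.of_algebraMap_eq' rfl
    haveI := h L (Algebra.EssFiniteType.comp A p.ResidueField L)
    exact IsRegularRing.of_ringEquiv (R := L ⊗[A] C)
      (Algebra.TensorProduct.cancelBaseChange A p.ResidueField L L C).toRingEquiv.symm

/-- A localization is a regular homomorphism. -/
theorem isRegularHom_of_isLocalization {B C : Type u} [CommRing B] [CommRing C] [Algebra B C] [IsNoetherianRing B]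
    (S : Submonoid B) [IsLocalization S C] : CAlg.IsRegularHom B C := by
  haveI : IsNoetherianRing C := IsLocalization.isNoetherianRing S C inferInstance
  refine isRegularHom_iff_field.2 ⟨IsLocalization.flat C S, fun L _ _ _ => ?_⟩
  exact GeomReg.isRegularRing_of_isLocalization (Algebra.algebraMapSubmonoid L S) (L ⊗[B] C)

/-- Localizing the base below a regular homomorphism keeps it regular. -/
theorem isRegularHom_source_localization {A B C : Type u} [CommRing A] [CommRing B] [CommRing C] [Algebra A B]
    [Algebra B C] [Algebra A C] [IsScalarTower A B C] [IsNoetherianRing C] (S : Submonoid A) [IsLocalization S B]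
    (h : CAlg.IsRegularHom A C) : CAlg.IsRegularHom B C := by
  obtain ⟨hf, h⟩ := isRegularHom_iff_field.1 h
  refine isRegularHom_iff_field.2 ⟨(Module.flat_iff_of_isLocalization B S C).2 hf, fun L _ _ hL => ?_⟩
  haveI := hL
  letI : Algebra A L := ((algebraMap B L).comp (algebraMap A B)).toAlgebra
  haveI : IsScalarTower A B L := IsScalarTower.of_algebraMap_eq' rfl
  haveI : Algebra.EssFiniteType A B := Algebra.EssFiniteType.of_isLocalization _ S
  haveI := h L (Algebra.EssFiniteType.comp A B L)
  exact IsRegularRing.of_ringEquiv (R := L ⊗[A] C)
    (IsLocalization.algebraTensorEquiv S B L C).toRingEquiv.symm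

/-- A regular homomorphism is regular into every localization of the target. -/
theorem isRegularHom_localization_target {A B C : Type u} [CommRing A] [CommRing B] [CommRing C] [Algebra A B]
    [Algebra B C] [Algebra A C] [IsScalarTower A B C] [IsNoetherianRing B] (S : Submonoid B) [IsLocalization S C]
    (h : CAlg.IsRegularHom A B) : CAlg.IsRegularHom A C :=
  haveI : IsNoetherianRing C := IsLocalization.isNoetherianRing S C inferInstance
  isRegularHom_comp A B C h (isRegularHom_of_isLocalization S)

/-- Regularity is local at the maximal ideals of the target. -/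
theorem isRegularHom_of_localization_maximal {A B : Type u} [CommRing A] [CommRing B] [Algebra A B]
    [IsNoetherianRing B] (h : ∀ (n : Ideal B) [n.IsMaximal], CAlg.IsRegularHom A (Localization.AtPrime n)) :
    CAlg.IsRegularHom A B := by
  refine isRegularHom_iff_field.2 ⟨?_, fun L _ _ hL => ?_⟩
  · exact Module.flat_of_isLocalized_maximal B B (fun n _ => Localization.AtPrime n)
      (fun n _ => Algebra.linearMap B _) (fun n _ => (h n).1)
  haveI := hL
  haveI : IsNoetherianRing (L ⊗[A] B) := isNoetherianRing_baseChange_ess A B L
  refine regular_of_local fun q _ => ?_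
  obtain ⟨n, hn, hqn⟩ := Ideal.exists_le_maximal q (Ideal.IsPrime.ne_top inferInstance)
  let Bn := Localization.AtPrime n
  let Bq := Localization.AtPrime q
  have hle : n.primeCompl ≤ q.primeCompl := fun x hx hx' => hx (hqn hx')
  letI : Algebra Bn Bq := IsLocalization.localizationAlgebraOfSubmonoidLe Bn Bq n.primeCompl q.primeCompl hle
  haveI : IsScalarTower B Bn Bq := IsLocalization.localization_isScalarTower_of_submonoid_le Bn Bq _ _ hle
  haveI : IsScalarTower A Bn Bq := IsScalarTower.of_algebraMap_eq fun a => by
    rw [IsScalarTower.algebraMap_apply A B Bq, IsScalarTower.algebraMap_apply A B Bn,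
      ← IsScalarTower.algebraMap_apply B Bn Bq]
  haveI : IsLocalization (q.primeCompl.map (algebraMap B Bn)) Bq :=
    IsLocalization.isLocalization_of_submonoid_le Bn Bq n.primeCompl q.primeCompl hle
  exact (isRegularHom_iff_field.1 (isRegularHom_localization_target (q.primeCompl.map (algebraMap B Bn)) (h n))).2 L hL

end Groth.Agent.PopescuLib
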