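import Groth.Agent.PopescuLib.Main
import Groth.Agent.S0536
import Groth.Agent.S0525
import Mathlib

/-!
# Approximation over henselian pairs with regular completion map
-/

set_option autoImplicit false
set_option linter.style.haveILetI false

universe u

open MvPolynomial

namespace Groth.Agent.PopescuLib

/-- The kernel of evaluation on the completion. -/
theorem mem_map_of_evalₐ_eq_zero {A : Type u} [CommRing A] (I : Ideal A) (hI : I.FG) (N : ℕ)
    {x : AdicCompletion I A} (hx : AdicCompletion.evalₐ I N x = 0) :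
    x ∈ (I ^ N).map (algebraMap A (AdicCompletion I A)) := by
  have h1 : x ∈ (AdicCompletion.eval I A N).ker := by
    rw [LinearMap.mem_ker]
    have h2 := AdicCompletion.factor_evalₐ_eq_eval I x (n := N) (by simp)
    rw [hx, map_zero] at h2
    exact h2.symm
  rw [← AdicCompletion.pow_smul_top_eq_ker_eval hI] at h1
  rw [Ideal.smul_top_eq_map] at h1
  exact h1

/-- Smooth algebras mapping to the completion of a henselian pair have points approximating the map. -/
theorem exists_approx_point {A : Type u} [CommRing A] (I : Ideal A) [HenselianRing A I] (S : Type u) [CommRing S]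
    [Algebra A S] [Algebra.Smooth A S] (h : S →ₐ[A] AdicCompletion I A) (N : ℕ) :
    ∃ τ : S →ₐ[A] A, ∀ s, AdicCompletion.evalₐ I N (h s - algebraMap A _ (τ s)) = 0 := by
  rcases Nat.eq_zero_or_pos N with rfl | hN
  · haveI : HenselianRing A I := inferInstance
    obtain ⟨τ, -⟩ := Groth.Agent.S0536.result A S A I
      ((Ideal.Quotient.factorₐ A (le_of_eq (pow_one I))).comp ((AdicCompletion.evalₐ I 1).comp h))
    refine ⟨τ, fun s => ?_⟩
    haveI : Subsingleton (A ⧸ I ^ 0) := Ideal.Quotient.subsingleton_iff.2 (by rw [pow_zero, Ideal.one_eq_top])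
    exact Subsingleton.elim _ _
  haveI : HenselianRing A (I ^ N) :=
    (Groth.Agent.S0525.result A (I ^ N) I (I.radical_pow (by omega))).2 inferInstance
  obtain ⟨τ, hτ⟩ := Groth.Agent.S0536.result A S A (I ^ N) ((AdicCompletion.evalₐ I N).comp h)
  refine ⟨τ, fun s => ?_⟩
  rw [map_sub, AlgHom.commutes, sub_eq_zero]
  exact (AlgHom.congr_fun hτ s).symm

/-- Artin approximation for a henselian pair with regular completion map. -/
theorem approx {A : Type u} [CommRing A] [IsNoetherianRing A] (I : Ideal A) [HenselianRing A I]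
    (hreg : CAlg.IsRegularHom A (AdicCompletion I A)) [IsNoetherianRing (AdicCompletion I A)] {n m : ℕ}
    (F : Fin m → MvPolynomial (Fin n) A) (a : Fin n → AdicCompletion I A) (ha : ∀ j, aeval a (F j) = 0) (N : ℕ) :
    ∃ b : Fin n → A, (∀ j, eval b (F j) = 0) ∧
      ∀ i, AdicCompletion.evalₐ I N (a i) = Ideal.Quotient.mk (I ^ N) (b i) := by
  let Q := MvPolynomial (Fin n) A ⧸ Ideal.span (Set.range F)
  letI : CommRing Q := Ideal.Quotient.commRing _
  haveI : Algebra.FinitePresentation A Q :=
    Algebra.FinitePresentation.quotient (Submodule.fg_span (Set.finite_range _))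
  let f : Q →ₐ[A] AdicCompletion I A := Ideal.Quotient.liftₐ _ (aeval a) fun p hp =>
    (Ideal.span_le.2 (by rintro _ ⟨j, rfl⟩; exact ha j) :
      Ideal.span (Set.range F) ≤ RingHom.ker (aeval (R := A) a)) hp
  obtain ⟨S, _, _, hS, g, h, hgh⟩ := indSmooth_of_isRegularHom hreg Q inferInstance f
  haveI := hS
  obtain ⟨τ, hτ⟩ := exists_approx_point I S h N
  refine ⟨fun i => τ (g (Ideal.Quotient.mk _ (X i))), fun j => ?_, fun i => ?_⟩
  · have h1 : (τ.comp (g.comp (Ideal.Quotient.mkₐ A _))) (F j) = 0 := by
      show τ (g (Ideal.Quotient.mk _ (F j))) = 0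
      rw [Ideal.Quotient.eq_zero_iff_mem.2 (Ideal.subset_span (Set.mem_range_self j)), map_zero, map_zero]
    rw [aeval_unique (τ.comp (g.comp (Ideal.Quotient.mkₐ A _)))] at h1
    exact h1
  · have h1 := hτ (g (Ideal.Quotient.mk _ (X i)))
    rw [map_sub, AlgHom.commutes, sub_eq_zero, show h (g (Ideal.Quotient.mk _ (X i))) = a i from
      (AlgHom.congr_fun hgh (Ideal.Quotient.mk _ (X i))).trans (aeval_X a i)] at h1
    exact h1

end Groth.Agent.PopescuLib
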