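import Groth.Agent.S0543

/-!
# Completions of Noetherian rings
-/

set_option autoImplicit false

universe u

namespace Groth.Agent.PopescuLib

theorem noetherian_completion {A : Type u} [CommRing A] [IsNoetherianRing A] (I : Ideal A) :
    IsNoetherianRing (AdicCompletion I A) :=
  Groth.Agent.S0543.result A I

end Groth.Agent.PopescuLib
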