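import Groth.Agent.PopescuLib.FPColim
import Mathlib

/-!
# Approximation for functors from approximation of solutions
-/

set_option autoImplicit false
set_option linter.style.haveILetI false

universe u

open CategoryTheory Limits

namespace Groth.Agent.PopescuLib

/-- Approximation of elements of a functor, from approximation of points of finitely presented algebras. -/
theorem exists_approx_element {A : Type u} [CommRing A] (I : Ideal A) (c : ℕ)
    (F : Under (CommRingCat.of A) ⥤ Type u)
    (hF : ∀ (J : Type u) [SmallCategory J] [IsFiltered J], PreservesColimitsOfShape J F)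
    (π : Under.mk (CommRingCat.ofHom (algebraMap A (AdicCompletion I A))) ⟶
      Under.mk (CommRingCat.ofHom (algebraMap A (A ⧸ I ^ c))))
    (hπ : π.right = CommRingCat.ofHom
      (AdicCompletion.evalₐ I c : AdicCompletion I A →ₐ[A] A ⧸ I ^ c).toRingHom)
    (ξ : F.obj (Under.mk (CommRingCat.ofHom (algebraMap A (AdicCompletion I A))))) :
    ∃ (P : Type u) (_ : CommRing P) (_ : Algebra A P), Algebra.FinitePresentation A P ∧
      ∃ (f : P →ₐ[A] AdicCompletion I A) (ξ₀ : F.obj (Under.mk (CommRingCat.ofHom (algebraMap A P)))),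
        ∀ (R' : Type u) [CommRing R'] (g : CommRingCat.of A ⟶ CommRingCat.of R')
          (φ : Under.mk g ⟶ Under.mk (CommRingCat.ofHom (algebraMap A (A ⧸ I ^ c))))
          (β : Under.mk (CommRingCat.ofHom (algebraMap A P)) ⟶ Under.mk g),
          (∀ y, φ.right.hom (β.right.hom y) = AdicCompletion.evalₐ I c (f y)) →
          F.map φ (F.map β ξ₀) = F.map π ξ := by
  obtain ⟨P, _, _, hP, m, ξ₀, hξ⟩ := exists_fp_preimage A (AdicCompletion I A) F hF ξ
  let f : P →ₐ[A] AdicCompletion I A := ⟨m.right.hom, fun r => ConcreteCategory.congr_hom (Under.w m) r⟩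
  refine ⟨P, inferInstance, inferInstance, hP, f, ξ₀, fun R' _ g φ β h => ?_⟩
  have h2 : β ≫ φ = m ≫ π := by
    apply Under.UnderMorphism.ext
    show β.right ≫ φ.right = m.right ≫ π.right
    rw [hπ]
    exact CommRingCat.hom_ext (RingHom.ext h)
  rw [← hξ, ← FunctorToTypes.map_comp_apply, ← FunctorToTypes.map_comp_apply, h2]

/-- Approximation of elements over the base ring itself. -/
theorem exists_approx_element_base {A : Type u} [CommRing A] (I : Ideal A) (c : ℕ)
    (F : Under (CommRingCat.of A) ⥤ Type u)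
    (hF : ∀ (J : Type u) [SmallCategory J] [IsFiltered J], PreservesColimitsOfShape J F)
    (π : Under.mk (CommRingCat.ofHom (algebraMap A (AdicCompletion I A))) ⟶
      Under.mk (CommRingCat.ofHom (algebraMap A (A ⧸ I ^ c))))
    (hπ : π.right = CommRingCat.ofHom
      (AdicCompletion.evalₐ I c : AdicCompletion I A →ₐ[A] A ⧸ I ^ c).toRingHom)
    (ρ : Under.mk (𝟙 (CommRingCat.of A)) ⟶ Under.mk (CommRingCat.ofHom (algebraMap A (A ⧸ I ^ c))))
    (hAP : ∀ (k l : ℕ) (f : Fin l → MvPolynomial (Fin k) A) (x : Fin k → AdicCompletion I A),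
      (∀ i, MvPolynomial.aeval x (f i) = 0) → ∃ a : Fin k → A, (∀ i, MvPolynomial.eval a (f i) = 0) ∧
        ∀ j, AdicCompletion.evalₐ I c (x j) = Ideal.Quotient.mk (I ^ c) (a j))
    (ξ : F.obj (Under.mk (CommRingCat.ofHom (algebraMap A (AdicCompletion I A))))) :
    ∃ η : F.obj (Under.mk (𝟙 (CommRingCat.of A))), F.map ρ η = F.map π ξ := by
  obtain ⟨P, _, _, hP, f, ξ₀, key⟩ := exists_approx_element I c F hF π hπ ξ
  obtain ⟨k, θ, hθ, hker⟩ := Algebra.FinitePresentation.out (R := A) (A := P)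
  obtain ⟨l, r, hr⟩ := Submodule.fg_iff_exists_fin_generating_family.1 hker
  obtain ⟨a, ha, hfa⟩ := hAP k l r (fun j => f (θ (MvPolynomial.X j))) fun i => by
    have h1 : θ (r i) = 0 := by
      have : r i ∈ RingHom.ker θ.toRingHom := hr ▸ Submodule.subset_span ⟨i, rfl⟩
      exact this
    show MvPolynomial.aeval ((f.comp θ) ∘ MvPolynomial.X) (r i) = 0
    rw [← MvPolynomial.aeval_unique (f.comp θ), AlgHom.comp_apply, h1, map_zero]
  let b₀ : MvPolynomial (Fin k) A →ₐ[A] A := MvPolynomial.aeval a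
  let b : P →ₐ[A] A := AlgHom.liftOfSurjective θ hθ b₀ (by
    intro y hy
    refine (Ideal.span_le.2 ?_ : Ideal.span (Set.range r) ≤ RingHom.ker b₀) ((SetLike.ext_iff.1 hr y).2 hy)
    rintro _ ⟨i, rfl⟩
    show MvPolynomial.aeval a (r i) = 0
    exact ha i)
  let β : Under.mk (CommRingCat.ofHom (algebraMap A P)) ⟶ Under.mk (𝟙 (CommRingCat.of A)) :=
    Under.homMk (CommRingCat.ofHom b.toRingHom) (by ext y; exact b.commutes y)
  refine ⟨F.map β ξ₀, key A (𝟙 _) ρ β fun y => ?_⟩
  obtain ⟨y, rfl⟩ := hθ y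
  show ρ.right.hom (b (θ y)) = _
  rw [show b (θ y) = b₀ y from AlgHom.liftOfSurjective_apply θ hθ _ _ y]
  refine (ConcreteCategory.congr_hom (Under.w ρ) (b₀ y)).trans ?_
  have h1 : (Algebra.ofId A (A ⧸ I ^ c)).comp b₀ = ((AdicCompletion.evalₐ I c).comp f).comp θ :=
    MvPolynomial.algHom_ext fun j => by
      simp only [AlgHom.comp_apply, b₀, MvPolynomial.aeval_X, Algebra.ofId_apply]
      exact (hfa j).symm
  exact AlgHom.congr_fun h1 y

end Groth.Agent.PopescuLib
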