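import Groth.Agent.DirColim.Descend
import Mathlib

/-!
# Descending a pair of étale maps to a finitely generated stage
-/

set_option autoImplicit false
set_option linter.style.haveILetI false

universe u

open TensorProduct

namespace Groth.Agent.PopescuLib.Stage

/-- A ring is the colimit of its finitely generated subalgebras. -/
theorem isColim_adjoin (R A : Type u) [CommRing R] [CommRing A] [Algebra R A] :
    DirColim.IsColim (R := R) (G := fun S : Finset A => Algebra.adjoin R (S : Set A)) (A := A)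
      (fun S => (Algebra.adjoin R (S : Set A)).val) := by
  classical
  refine DirColim.IsColim.of_system
    (fun S S' h => Subalgebra.inclusion (Algebra.adjoin_mono (Finset.coe_subset.mpr h)))
    _ (fun S S' h => rfl) (fun a => ⟨{a}, ⟨a, Algebra.subset_adjoin (by simp)⟩, rfl⟩) fun S x hx => ⟨S, le_rfl, ?_⟩
  exact Subtype.ext hx

/-- Étaleness descends eventually. -/
theorem exists_etale_eventually {ι : Type*} {R : Type u} [CommRing R] {G : ι → Type u} [∀ i, CommRing (G i)]
    [∀ i, Algebra R (G i)] {A : Type u} [CommRing A] [Algebra R A] {g : ∀ i, G i →ₐ[R] A}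
    {C : Type u} [CommRing C] [Algebra R C] [Algebra.FinitePresentation R C] (hG : DirColim.IsColim g)
    (h : Algebra.Etale A (A ⊗[R] C)) :
    ∃ i, ∀ j, DirColim.Trans g i j → Algebra.Etale (G j) (G j ⊗[R] C) := by
  obtain ⟨n, π, hπ, -⟩ := Algebra.FinitePresentation.out (R := R) (A := C)
  obtain ⟨s, hs⟩ := Algebra.FiniteType.out (R := R) (A := C)
  have := h.formallyEtale
  obtain ⟨i, hi⟩ := DirColim.exists_smoothAt hG π hπ inferInstance
  obtain ⟨j, hj⟩ := DirColim.exists_unramAt hG s inferInstance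
  obtain ⟨k, ⟨φ⟩, ⟨φ'⟩⟩ := hG.directed i j
  refine ⟨k, fun l ψ => ?_⟩
  have h1 := (hi.mono (ψ.comp φ)).formallySmooth
  have h2 := (hj.mono (ψ.comp φ')).formallyUnramified hs
  exact ⟨Algebra.FormallyEtale.of_formallyUnramified_and_formallySmooth (R := G l) (A := G l ⊗[R] C), inferInstance⟩

/-- The base change of a map is étale iff the pushout algebra is. -/
theorem map_id_etale_iff {R B W : Type u} [CommRing R] [CommRing B] [CommRing W] [Algebra R B] [Algebra R W]
    (a : B →ₐ[R] W) (S : Type u) [CommRing S] [Algebra R S] :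
    (Algebra.TensorProduct.map (AlgHom.id R S) a).toRingHom.Etale ↔
      (letI := a.toRingHom.toAlgebra; Algebra.Etale (B ⊗[R] S) ((B ⊗[R] S) ⊗[B] W)) := by
  letI := a.toRingHom.toAlgebra
  haveI : IsScalarTower R B W := IsScalarTower.of_algebraMap_eq fun r => (a.commutes r).symm
  let e1 : (B ⊗[R] S) ≃+* S ⊗[R] B := (Algebra.TensorProduct.comm R B S).toRingEquiv
  let e2 : ((B ⊗[R] S) ⊗[B] W) ≃+* S ⊗[R] W :=
    ((Algebra.TensorProduct.comm B (B ⊗[R] S) W).toRingEquiv.trans
      (Algebra.TensorProduct.cancelBaseChange R B B W S).toRingEquiv).trans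
      (Algebra.TensorProduct.comm R W S).toRingEquiv
  have key : e2.toRingHom.comp (algebraMap (B ⊗[R] S) ((B ⊗[R] S) ⊗[B] W)) =
      (Algebra.TensorProduct.map (AlgHom.id R S) a).toRingHom.comp e1.toRingHom := by
    refine RingHom.ext fun z => ?_
    induction z using TensorProduct.induction_on with
    | zero => simp
    | add x y hx hy => simp only [map_add, hx, hy]
    | tmul b s =>
      simp [e1, e2, Algebra.TensorProduct.algebraMap_apply, Algebra.smul_def, RingHom.algebraMap_toAlgebra]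
  rw [← RingHom.etale_algebraMap]
  constructor
  · intro h
    have h1 := RingHom.Etale.stableUnderComposition _ _
      (RingHom.Etale.stableUnderComposition _ _ (RingHom.Etale.of_bijective e1.bijective) h)
      (RingHom.Etale.of_bijective (f := e2.symm.toRingHom) e2.symm.bijective)
    convert h1 using 1
    refine RingHom.ext fun z => e2.injective ?_
    exact (RingHom.congr_fun key z).trans (e2.apply_symm_apply _).symm
  · intro h
    have h1 := RingHom.Etale.stableUnderComposition _ _ (RingHom.Etale.of_bijective (f := e1.symm.toRingHom) e1.symm.bijective)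
      (RingHom.Etale.stableUnderComposition _ _ h (RingHom.Etale.of_bijective (f := e2.toRingHom) e2.bijective))
    convert h1 using 1
    refine RingHom.ext fun z => ?_
    show _ = (e2.toRingHom.comp (algebraMap (B ⊗[R] S) ((B ⊗[R] S) ⊗[B] W))) (e1.symm z)
    rw [key]
    show _ = (Algebra.TensorProduct.map (AlgHom.id R S) a).toRingHom (e1 (e1.symm z))
    rw [e1.apply_symm_apply]

/-- A map which is étale after the colimit base change is étale over a finitely generated stage. -/
theorem exists_map_etale {R A B W : Type u} [CommRing R] [CommRing A] [CommRing B] [CommRing W] [Algebra R A]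
    [Algebra R B] [Algebra R W] [Algebra.FinitePresentation R B] [Algebra.FinitePresentation R W] (a : B →ₐ[R] W)
    (h : (Algebra.TensorProduct.map (AlgHom.id R A) a).toRingHom.Etale) :
    ∃ S : Finset A, ∀ S' : Finset A, S ⊆ S' →
      (Algebra.TensorProduct.map (AlgHom.id R (Algebra.adjoin R (S' : Set A))) a).toRingHom.Etale := by
  letI := a.toRingHom.toAlgebra
  haveI : IsScalarTower R B W := IsScalarTower.of_algebraMap_eq fun r => (a.commutes r).symm
  haveI : Algebra.FinitePresentation B W := Algebra.FinitePresentation.of_restrict_scalars_finitePresentation R B W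
  obtain ⟨S, hS⟩ := exists_etale_eventually ((isColim_adjoin R A).baseChange B) ((map_id_etale_iff a A).1 h)
  refine ⟨S, fun S' hSS => (map_id_etale_iff a _).2 (hS S' ?_)⟩
  refine ⟨Algebra.TensorProduct.map (AlgHom.id B B)
    (Subalgebra.inclusion (Algebra.adjoin_mono (Finset.coe_subset.mpr hSS))), ?_⟩
  rw [← Algebra.TensorProduct.map_comp, AlgHom.comp_id]
  rfl

/-- A map whose transport along a model is étale becomes étale after base change. -/
theorem map_etale_of_model {Λ R S B W C1 : Type u} [CommRing Λ] [CommRing R] [CommRing S] [CommRing B] [CommRing W]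
    [CommRing C1] [Algebra Λ R] [Algebra Λ S] [Algebra R S] [IsScalarTower Λ R S] [Algebra Λ B] [Algebra R W]
    [Algebra Λ W] [IsScalarTower Λ R W] [Algebra S C1] [Algebra Λ C1] [IsScalarTower Λ S C1]
    (e : S ⊗[R] W ≃ₐ[S] C1) (a : B →ₐ[Λ] W) (a' : B →ₐ[Λ] C1) (h : ∀ x, e (1 ⊗ₜ a x) = a' x)
    (ha : (Algebra.TensorProduct.lift (Algebra.ofId S C1) a' fun _ _ => Commute.all _ _).toRingHom.Etale) :
    (Algebra.TensorProduct.map (AlgHom.id R S)
      (Algebra.TensorProduct.lift (Algebra.ofId R W) a fun _ _ => Commute.all _ _)).toRingHom.Etale := by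
  let eB : S ⊗[R] (R ⊗[Λ] B) ≃+* S ⊗[Λ] B := (Algebra.TensorProduct.cancelBaseChange Λ R R S B).toRingEquiv
  have h1 := RingHom.Etale.stableUnderComposition _ _
    (RingHom.Etale.stableUnderComposition _ _ (RingHom.Etale.of_bijective (f := eB.toRingHom) eB.bijective) ha)
    (RingHom.Etale.of_bijective (f := e.symm.toRingEquiv.toRingHom) e.symm.bijective)
  convert h1 using 1
  refine RingHom.ext fun z => e.injective ?_
  show e _ = e (e.symm _)
  rw [e.apply_symm_apply]
  induction z using TensorProduct.induction_on with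
  | zero => simp
  | add x y hx hy => simp only [map_add, hx, hy]
  | tmul r w =>
    induction w using TensorProduct.induction_on with
    | zero => simp
    | add x y hx hy => simp only [TensorProduct.tmul_add, map_add, hx, hy]
    | tmul t x =>
      have h2 : r ⊗ₜ[R] (algebraMap R W t * a x) =
          algebraMap S (S ⊗[R] W) (algebraMap R S t * r) * (1 : S) ⊗ₜ[R] a x := by
        rw [Algebra.TensorProduct.algebraMap_apply, Algebra.TensorProduct.tmul_mul_tmul, ← Algebra.smul_def,
          ← TensorProduct.smul_tmul, Algebra.smul_def]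
        simp
      show e (r ⊗ₜ[R] (Algebra.TensorProduct.lift (Algebra.ofId R W) a (fun _ _ => Commute.all _ _) (t ⊗ₜ x))) =
        Algebra.TensorProduct.lift (Algebra.ofId S C1) a' (fun _ _ => Commute.all _ _) (eB (r ⊗ₜ (t ⊗ₜ x)))
      rw [show eB (r ⊗ₜ (t ⊗ₜ x)) = (algebraMap R S t * r) ⊗ₜ[Λ] x by simp [eB, Algebra.smul_def],
        Algebra.TensorProduct.lift_tmul, Algebra.TensorProduct.lift_tmul, Algebra.ofId_apply, Algebra.ofId_apply,
        h2, map_mul, AlgEquiv.commutes, h]

/-- The stage map is étale if its base change is. -/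
theorem lift_etale_of_map {Λ R S B W : Type u} [CommRing Λ] [CommRing R] [CommRing S] [CommRing B] [CommRing W]
    [Algebra Λ R] [Algebra Λ S] [Algebra R S] [IsScalarTower Λ R S] [Algebra Λ B] [Algebra R W]
    [Algebra Λ W] [IsScalarTower Λ R W]
    (a : B →ₐ[Λ] W) (a' : B →ₐ[Λ] S ⊗[R] W) (h : ∀ x, a' x = 1 ⊗ₜ a x)
    (ha : (Algebra.TensorProduct.map (AlgHom.id R S)
      (Algebra.TensorProduct.lift (Algebra.ofId R W) a fun _ _ => Commute.all _ _)).toRingHom.Etale) :
    (Algebra.TensorProduct.lift (Algebra.ofId S (S ⊗[R] W)) a' fun _ _ => Commute.all _ _).toRingHom.Etale := by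
  let eB : S ⊗[R] (R ⊗[Λ] B) ≃+* S ⊗[Λ] B := (Algebra.TensorProduct.cancelBaseChange Λ R R S B).toRingEquiv
  have h1 := RingHom.Etale.stableUnderComposition _ _ (RingHom.Etale.of_bijective (f := eB.symm.toRingHom) eB.symm.bijective) ha
  convert h1 using 1
  refine RingHom.ext fun z => ?_
  induction z using TensorProduct.induction_on with
  | zero => simp
  | add x y hx hy => simp only [map_add, hx, hy]
  | tmul r x => simp [eB, h, Algebra.TensorProduct.algebraMap_apply]

/-- A finitely presented algebra over `Rh` has a model over a finitely generated stage containing a given finite set. -/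
theorem exists_model {Λ Rh C1 : Type u} [CommRing Λ] [CommRing Rh] [CommRing C1] [Algebra Λ Rh] [Algebra Rh C1]
    [Algebra.FinitePresentation Rh C1] (T : Finset Rh) :
    ∃ (R0 : Subalgebra Λ Rh) (W0 : Type u) (_ : CommRing W0) (_ : Algebra R0 W0),
      Algebra.FiniteType Λ R0 ∧ (↑T : Set Rh) ⊆ (R0 : Set Rh) ∧ Algebra.FinitePresentation R0 W0 ∧
      Nonempty (Rh ⊗[R0] W0 ≃ₐ[Rh] C1) := by
  classical
  let P := Algebra.Presentation.ofFinitePresentation Rh C1
  let R0 : Subalgebra Λ Rh := Algebra.adjoin Λ (P.coeffs ∪ ↑T)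
  haveI : IsScalarTower R0 Rh C1 := IsScalarTower.of_algebraMap_eq fun r => rfl
  haveI : P.HasCoeffs R0 := ⟨fun x hx => ⟨⟨x, Algebra.subset_adjoin (Or.inl hx)⟩, rfl⟩⟩
  exact ⟨R0, P.ModelOfHasCoeffs R0, inferInstance, inferInstance,
    (Subalgebra.fg_iff_finiteType R0).mp ⟨P.finite_coeffs.toFinset ∪ T, by simp [R0]⟩,
    fun x hx => Algebra.subset_adjoin (Or.inr hx), inferInstance, ⟨P.tensorModelOfHasCoeffsEquiv R0⟩⟩

/-- Two maps into a colimit base change come from one stage. -/
theorem exists_homs {R0 Rh W0 C1 X Y : Type u} [CommRing R0] [CommRing Rh] [CommRing W0] [CommRing C1] [CommRing X]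
    [CommRing Y] [Algebra R0 Rh] [Algebra R0 W0] [Algebra Rh C1] [Algebra R0 C1] [IsScalarTower R0 Rh C1]
    [Algebra R0 X] [Algebra R0 Y] [Algebra.FinitePresentation R0 X] [Algebra.FinitePresentation R0 Y]
    [Algebra.FinitePresentation R0 W0] (e : Rh ⊗[R0] W0 ≃ₐ[Rh] C1) (A0 : X →ₐ[R0] C1) (B0 : Y →ₐ[R0] C1) :
    ∃ (R1 : Subalgebra R0 Rh) (W1 : Type u) (_ : CommRing W1) (_ : Algebra R1 W1) (_ : Algebra R0 W1)
      (_ : IsScalarTower R0 R1 W1) (e1 : Rh ⊗[R1] W1 ≃ₐ[Rh] C1) (α : X →ₐ[R0] W1) (β : Y →ₐ[R0] W1),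
      Algebra.FiniteType R0 R1 ∧ Algebra.FinitePresentation R1 W1 ∧
      (∀ x, e1 (1 ⊗ₜ α x) = A0 x) ∧ (∀ y, e1 (1 ⊗ₜ β y) = B0 y) := by
  classical
  have hcol := (isColim_adjoin R0 Rh).tensorRight W0
  obtain ⟨SA, α, hα⟩ := hcol.exists_lift ((e.symm.toAlgHom.restrictScalars R0).comp A0)
  obtain ⟨SB, β, hβ⟩ := hcol.exists_lift ((e.symm.toAlgHom.restrictScalars R0).comp B0)
  let R1 := Algebra.adjoin R0 ((SA ∪ SB : Finset Rh) : Set Rh)
  let iA : Algebra.adjoin R0 (SA : Set Rh) →ₐ[R0] R1 :=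
    Subalgebra.inclusion (Algebra.adjoin_mono (Finset.coe_subset.mpr Finset.subset_union_left))
  let iB : Algebra.adjoin R0 (SB : Set Rh) →ₐ[R0] R1 :=
    Subalgebra.inclusion (Algebra.adjoin_mono (Finset.coe_subset.mpr Finset.subset_union_right))
  let e1 : Rh ⊗[R1] (R1 ⊗[R0] W0) ≃ₐ[Rh] C1 :=
    (Algebra.TensorProduct.cancelBaseChange R0 R1 Rh Rh W0).trans e
  have key : ∀ w : R1 ⊗[R0] W0, e1 (1 ⊗ₜ w) = e (Algebra.TensorProduct.map R1.val (AlgHom.id R0 W0) w) := by
    intro w
    induction w using TensorProduct.induction_on with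
    | zero => simp
    | add x y hx hy => simp only [TensorProduct.tmul_add, map_add, hx, hy]
    | tmul t x => simp [e1, Algebra.smul_def]
  refine ⟨R1, R1 ⊗[R0] W0, inferInstance, inferInstance, inferInstance, inferInstance, e1,
    (Algebra.TensorProduct.map iA (AlgHom.id R0 W0)).comp α, (Algebra.TensorProduct.map iB (AlgHom.id R0 W0)).comp β,
    (Subalgebra.fg_iff_finiteType R1).mp ⟨SA ∪ SB, rfl⟩, inferInstance, fun x => ?_, fun y => ?_⟩
  · rw [key, AlgHom.comp_apply, ← AlgHom.comp_apply, ← Algebra.TensorProduct.map_comp]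
    exact (congrArg e (AlgHom.congr_fun hα x)).trans (e.apply_symm_apply _)
  · rw [key, AlgHom.comp_apply, ← AlgHom.comp_apply, ← Algebra.TensorProduct.map_comp]
    exact (congrArg e (AlgHom.congr_fun hβ y)).trans (e.apply_symm_apply _)

/-- Étale maps at the colimit are étale at a stage. -/
theorem exists_stage_etale {Λ D R1 Rh B C C1 W1 : Type u} [CommRing Λ] [CommRing D] [CommRing R1] [CommRing Rh]
    [CommRing B] [CommRing C] [CommRing C1] [CommRing W1] [IsNoetherianRing Λ] [Algebra Λ R1] [Algebra D R1]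
    [Algebra Λ Rh] [Algebra D Rh] [Algebra R1 Rh] [IsScalarTower Λ R1 Rh] [IsScalarTower D R1 Rh]
    [Algebra.FiniteType Λ R1] [Algebra Λ B] [Algebra.FinitePresentation Λ B] [Algebra D C]
    [Algebra.FinitePresentation D C] [Algebra R1 W1] [Algebra.FinitePresentation R1 W1] [Algebra Λ W1]
    [IsScalarTower Λ R1 W1] [Algebra D W1] [IsScalarTower D R1 W1] [Algebra Rh C1]
    (e1 : Rh ⊗[R1] W1 ≃ₐ[Rh] C1) (a0 : B →ₐ[Λ] W1) (b0 : C →ₐ[D] W1)
    (ha1 : (Algebra.TensorProduct.map (AlgHom.id R1 Rh)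
      (Algebra.TensorProduct.lift (Algebra.ofId R1 W1) a0 fun _ _ => Commute.all _ _)).toRingHom.Etale)
    (hb1 : (Algebra.TensorProduct.map (AlgHom.id R1 Rh)
      (Algebra.TensorProduct.lift (Algebra.ofId R1 W1) b0 fun _ _ => Commute.all _ _)).toRingHom.Etale) :
    ∃ (R2 : Type u) (_ : CommRing R2) (_ : Algebra Λ R2) (_ : Algebra D R2) (W : Type u) (_ : CommRing W)
      (_ : Algebra R2 W) (_ : Algebra Λ W) (_ : Algebra D W) (_ : IsScalarTower Λ R2 W) (_ : IsScalarTower D R2 W)
      (aW : B →ₐ[Λ] W) (bW : C →ₐ[D] W) (ι : R2 →+* Rh) (j : W →+* C1),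
      Algebra.FinitePresentation Λ R2 ∧
      (Algebra.TensorProduct.lift (Algebra.ofId R2 W) aW fun _ _ => Commute.all _ _).toRingHom.Etale ∧
      (Algebra.TensorProduct.lift (Algebra.ofId R2 W) bW fun _ _ => Commute.all _ _).toRingHom.Etale ∧
      ι.comp (algebraMap Λ R2) = algebraMap Λ Rh ∧ ι.comp (algebraMap D R2) = algebraMap D Rh ∧
      j.comp (algebraMap R2 W) = (algebraMap Rh C1).comp ι ∧
      j.comp aW.toRingHom = e1.toRingEquiv.toRingHom.comp
        ((Algebra.TensorProduct.includeRight : W1 →ₐ[R1] Rh ⊗[R1] W1).toRingHom.comp a0.toRingHom) ∧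
      j.comp bW.toRingHom = e1.toRingEquiv.toRingHom.comp
        ((Algebra.TensorProduct.includeRight : W1 →ₐ[R1] Rh ⊗[R1] W1).toRingHom.comp b0.toRingHom) := by
  classical
  obtain ⟨TA, hTA⟩ := exists_map_etale _ ha1
  obtain ⟨TB, hTB⟩ := exists_map_etale _ hb1
  let R2 := Algebra.adjoin R1 ((TA ∪ TB : Finset Rh) : Set Rh)
  have hA2 := hTA (TA ∪ TB) Finset.subset_union_left
  have hB2 := hTB (TA ∪ TB) Finset.subset_union_right
  haveI : Algebra.FiniteType R1 R2 := (Subalgebra.fg_iff_finiteType R2).mp ⟨TA ∪ TB, rfl⟩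
  haveI : Algebra.FiniteType Λ R2 :=
    Algebra.FiniteType.trans (inferInstance : Algebra.FiniteType Λ R1) (inferInstance : Algebra.FiniteType R1 R2)
  let inR : W1 →ₐ[R1] R2 ⊗[R1] W1 := Algebra.TensorProduct.includeRight
  let aW : B →ₐ[Λ] R2 ⊗[R1] W1 :=
    { toRingHom := inR.toRingHom.comp a0.toRingHom
      commutes' := fun l => by
        show inR (a0 (algebraMap Λ B l)) = algebraMap R2 _ (algebraMap Λ R2 l)
        rw [AlgHom.commutes, IsScalarTower.algebraMap_apply Λ R1 W1, AlgHom.commutes,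
          IsScalarTower.algebraMap_apply R1 R2 (R2 ⊗[R1] W1), ← IsScalarTower.algebraMap_apply Λ R1 R2] }
  let bW : C →ₐ[D] R2 ⊗[R1] W1 :=
    { toRingHom := inR.toRingHom.comp b0.toRingHom
      commutes' := fun l => by
        show inR (b0 (algebraMap D C l)) = algebraMap R2 _ (algebraMap D R2 l)
        rw [AlgHom.commutes, IsScalarTower.algebraMap_apply D R1 W1, AlgHom.commutes,
          IsScalarTower.algebraMap_apply R1 R2 (R2 ⊗[R1] W1), ← IsScalarTower.algebraMap_apply D R1 R2] }
  refine ⟨R2, inferInstance, inferInstance, inferInstance, R2 ⊗[R1] W1, inferInstance, inferInstance, inferInstance,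
    inferInstance, inferInstance, inferInstance, aW, bW, R2.val.toRingHom,
    e1.toRingEquiv.toRingHom.comp (Algebra.TensorProduct.map R2.val (AlgHom.id R1 W1)).toRingHom,
    Algebra.FinitePresentation.of_finiteType.mp inferInstance,
    lift_etale_of_map a0 aW (fun x => rfl) hA2, lift_etale_of_map b0 bW (fun x => rfl) hB2,
    RingHom.ext fun l => rfl,
    RingHom.ext fun l => rfl, ?_, RingHom.ext fun _ => rfl,
    RingHom.ext fun _ => rfl⟩
  refine RingHom.ext fun r => ?_
  show e1 ((r : Rh) ⊗ₜ[R1] (1 : W1)) = algebraMap Rh C1 r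
  rw [← AlgEquiv.commutes e1]
  rfl

set_option maxHeartbeats 800000 in
/-- Two étale maps into a finitely presented algebra over `Rh` come from a finitely generated stage. -/
theorem exists_stage {Λ D Rh B C C1 : Type u} [CommRing Λ] [CommRing D] [CommRing Rh] [CommRing B] [CommRing C]
    [CommRing C1] [IsNoetherianRing Λ] [Algebra Λ Rh] [Algebra D Rh] [Algebra.FiniteType ℤ D]
    [Algebra Λ B] [Algebra.FinitePresentation Λ B] [Algebra D C] [Algebra.FinitePresentation D C]
    [Algebra Rh C1] [Algebra.FinitePresentation Rh C1] [Algebra Λ C1] [IsScalarTower Λ Rh C1]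
    [Algebra D C1] [IsScalarTower D Rh C1] (a : B →ₐ[Λ] C1) (b : C →ₐ[D] C1)
    (ha : (Algebra.TensorProduct.lift (Algebra.ofId Rh C1) a fun _ _ => Commute.all _ _).toRingHom.Etale)
    (hb : (Algebra.TensorProduct.lift (Algebra.ofId Rh C1) b fun _ _ => Commute.all _ _).toRingHom.Etale) :
    ∃ (R1 : Type u) (_ : CommRing R1) (_ : Algebra Λ R1) (_ : Algebra D R1) (W : Type u) (_ : CommRing W)
      (_ : Algebra R1 W) (_ : Algebra Λ W) (_ : Algebra D W) (_ : IsScalarTower Λ R1 W) (_ : IsScalarTower D R1 W)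
      (a1 : B →ₐ[Λ] W) (b1 : C →ₐ[D] W) (ι : R1 →+* Rh) (j : W →+* C1),
      Algebra.FinitePresentation Λ R1 ∧
      (Algebra.TensorProduct.lift (Algebra.ofId R1 W) a1 fun _ _ => Commute.all _ _).toRingHom.Etale ∧
      (Algebra.TensorProduct.lift (Algebra.ofId R1 W) b1 fun _ _ => Commute.all _ _).toRingHom.Etale ∧
      ι.comp (algebraMap Λ R1) = algebraMap Λ Rh ∧ ι.comp (algebraMap D R1) = algebraMap D Rh ∧
      j.comp (algebraMap R1 W) = (algebraMap Rh C1).comp ι ∧
      j.comp a1.toRingHom = a.toRingHom ∧ j.comp b1.toRingHom = b.toRingHom := by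
  classical
  obtain ⟨s, hs⟩ := Algebra.FiniteType.out (R := ℤ) (A := D)
  obtain ⟨R0, W0, _, _, _, hT, _, ⟨e⟩⟩ := exists_model (Λ := Λ) (C1 := C1) (s.image (algebraMap D Rh))
  have hD : ∀ d : D, algebraMap D Rh d ∈ R0 := by
    intro d
    have hle : Algebra.adjoin ℤ (s : Set D) ≤ (R0.restrictScalars ℤ).comap (algebraMap D Rh).toIntAlgHom := by
      rw [Algebra.adjoin_le_iff]
      intro x hx
      exact hT (Finset.mem_coe.mpr (Finset.mem_image_of_mem _ hx))
    rw [hs] at hle
    exact hle (Algebra.mem_top : d ∈ (⊤ : Subalgebra ℤ D))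
  letI : Algebra D R0 := ((algebraMap D Rh).codRestrict R0 hD).toAlgebra
  haveI : IsScalarTower D R0 Rh := IsScalarTower.of_algebraMap_eq fun d => rfl
  haveI : IsScalarTower R0 Rh C1 := IsScalarTower.of_algebraMap_eq fun r => rfl
  haveI : IsScalarTower Λ R0 C1 := IsScalarTower.of_algebraMap_eq fun l => IsScalarTower.algebraMap_apply Λ Rh C1 l
  haveI : IsScalarTower D R0 C1 := IsScalarTower.of_algebraMap_eq fun d => IsScalarTower.algebraMap_apply D Rh C1 d
  obtain ⟨R1, W1, _, _, _, _, e1, α, β, _, _, hα, hβ⟩ := exists_homs e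
    (Algebra.TensorProduct.lift (Algebra.ofId R0 C1) a fun _ _ => Commute.all _ _ : R0 ⊗[Λ] B →ₐ[R0] C1)
    (Algebra.TensorProduct.lift (Algebra.ofId R0 C1) b fun _ _ => Commute.all _ _ : R0 ⊗[D] C →ₐ[R0] C1)
  letI : Algebra Λ W1 := ((algebraMap R1 W1).comp (algebraMap Λ R1)).toAlgebra
  haveI : IsScalarTower Λ R1 W1 := IsScalarTower.of_algebraMap_eq' rfl
  letI : Algebra D R1 := ((algebraMap R0 R1).comp (algebraMap D R0)).toAlgebra
  haveI : IsScalarTower D R0 R1 := IsScalarTower.of_algebraMap_eq' rfl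
  haveI : IsScalarTower D R1 Rh := IsScalarTower.of_algebraMap_eq fun d => rfl
  letI : Algebra D W1 := ((algebraMap R1 W1).comp (algebraMap D R1)).toAlgebra
  haveI : IsScalarTower D R1 W1 := IsScalarTower.of_algebraMap_eq' rfl
  haveI : IsScalarTower Λ R0 W1 := IsScalarTower.of_algebraMap_eq fun l => by
    show algebraMap R1 W1 (algebraMap Λ R1 l) = _
    rw [IsScalarTower.algebraMap_apply R0 R1 W1]
    rfl
  haveI : IsScalarTower D R0 W1 := IsScalarTower.of_algebraMap_eq fun d => by
    show algebraMap R1 W1 (algebraMap R0 R1 (algebraMap D R0 d)) = _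
    rw [← IsScalarTower.algebraMap_apply R0 R1 W1]
  let a0 : B →ₐ[Λ] W1 := (α.restrictScalars Λ).comp Algebra.TensorProduct.includeRight
  let b0 : C →ₐ[D] W1 := (β.restrictScalars D).comp Algebra.TensorProduct.includeRight
  haveI : Algebra.FiniteType Λ R1 :=
    Algebra.FiniteType.trans (inferInstance : Algebra.FiniteType Λ R0) (inferInstance : Algebra.FiniteType R0 R1)
  have ha1 := map_etale_of_model e1 a0 a (fun x => (hα _).trans (by simp)) ha
  have hb1 := map_etale_of_model e1 b0 b (fun x => (hβ _).trans (by simp)) hb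
  obtain ⟨R2, _, _, _, W, _, _, _, _, _, _, aW, bW, ι, j, h1, h2, h3, h4, h5, h6, h7, h8⟩ :=
    exists_stage_etale e1 a0 b0 ha1 hb1
  refine ⟨R2, inferInstance, inferInstance, inferInstance, W, inferInstance, inferInstance, inferInstance,
    inferInstance, inferInstance, inferInstance, aW, bW, ι, j, h1, h2, h3, h4, h5, h6, h7.trans ?_, h8.trans ?_⟩
  · exact RingHom.ext fun x => (hα _).trans (by simp)
  · exact RingHom.ext fun x => (hβ _).trans (by simp)

end Groth.Agent.PopescuLib.Stage
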