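import Groth.Agent.MorLib.RingUnivHomeo
import Groth.Agent.MorLib.ElemEtaleFinite
import Groth.Agent.PopescuLib.StageDescent
import Groth.Agent.ZetaLib.SchemeCount
import Mathlib

/-!
# Affine charts, points and residue fields
-/

set_option autoImplicit false
set_option linter.style.haveILetI false

universe u

open AlgebraicGeometry CategoryTheory Limits TensorProduct

namespace Groth.Agent.PopescuLib

/-- Affine opens of a scheme locally of finite type over `ℤ` have finitely generated rings. -/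
theorem finiteType_int_sections {T : Scheme.{u}} [LocallyOfFiniteType (specULiftZIsTerminal.from T)]
    {U : T.Opens} (hU : IsAffineOpen U) : Algebra.FiniteType ℤ Γ(T, U) :=
  ZetaLib.finiteType_int_of_spec (A := Γ(T, U)) (hU.fromSpec ≫ specULiftZIsTerminal.from T)

/-- The affine chart of a pullback. -/
theorem exists_chart {Y T : Scheme.{u}} (q : Y ⟶ T) {UT : T.Opens} (hUT : IsAffineOpen UT) {UB : Y.Opens}
    (hUB : IsAffineOpen UB) (hle : UB ≤ q ⁻¹ᵁ UT) [Algebra Γ(T, UT) Γ(Y, UB)]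
    (hC : algebraMap Γ(T, UT) Γ(Y, UB) = (q.appLE UT UB hle).hom)
    {R' : Type u} [CommRing R'] [Algebra Γ(T, UT) R'] (g : Spec (CommRingCat.of R') ⟶ T)
    (hg : g = Spec.map (CommRingCat.ofHom (algebraMap Γ(T, UT) R')) ≫ hUT.fromSpec) :
    ∃ j : Spec (CommRingCat.of (R' ⊗[Γ(T, UT)] Γ(Y, UB))) ⟶ pullback q g,
      IsOpenImmersion j ∧
      j ≫ pullback.fst q g =
        Spec.map (CommRingCat.ofHom (Algebra.TensorProduct.includeRight : Γ(Y, UB) →ₐ[Γ(T, UT)] R' ⊗[Γ(T, UT)] Γ(Y, UB)).toRingHom) ≫ hUB.fromSpec ∧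
      j ≫ pullback.snd q g = Spec.map (CommRingCat.ofHom (algebraMap R' (R' ⊗[Γ(T, UT)] Γ(Y, UB)))) ∧
      ∀ z, (pullback.fst q g) z ∈ UB → z ∈ Set.range j := by
  subst hg
  let a := Spec.map (CommRingCat.ofHom (algebraMap Γ(T, UT) R'))
  let b := Spec.map (CommRingCat.ofHom (algebraMap Γ(T, UT) Γ(Y, UB)))
  have e1 : b ≫ hUT.fromSpec = hUB.fromSpec ≫ q := by
    show Spec.map (CommRingCat.ofHom (algebraMap Γ(T, UT) Γ(Y, UB))) ≫ _ = _
    rw [hC]
    exact IsAffineOpen.SpecMap_appLE_fromSpec q hUT hUB hle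
  let m : pullback b a ⟶ pullback q (a ≫ hUT.fromSpec) :=
    pullback.map b a q (a ≫ hUT.fromSpec) hUB.fromSpec (𝟙 _) hUT.fromSpec e1 (Category.id_comp _).symm
  let J := (pullbackSpecIso Γ(T, UT) R' Γ(Y, UB)).inv ≫ (pullbackSymmetry a b).hom ≫ m
  refine ⟨J, inferInstance, ?_, ?_, fun z hz => ?_⟩
  · have hm : m ≫ pullback.fst q (a ≫ hUT.fromSpec) = pullback.fst b a ≫ hUB.fromSpec := pullback.lift_fst _ _ _
    show ((pullbackSpecIso Γ(T, UT) R' Γ(Y, UB)).inv ≫ (pullbackSymmetry a b).hom ≫ m) ≫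
      pullback.fst q (a ≫ hUT.fromSpec) = _
    rw [Category.assoc, Category.assoc, hm, pullbackSymmetry_hom_comp_fst_assoc, ← Category.assoc]
    exact congrArg (· ≫ hUB.fromSpec) (pullbackSpecIso_inv_snd Γ(T, UT) R' Γ(Y, UB))
  · have hm : m ≫ pullback.snd q (a ≫ hUT.fromSpec) = pullback.snd b a ≫ 𝟙 _ := pullback.lift_snd _ _ _
    show ((pullbackSpecIso Γ(T, UT) R' Γ(Y, UB)).inv ≫ (pullbackSymmetry a b).hom ≫ m) ≫
      pullback.snd q (a ≫ hUT.fromSpec) = _
    rw [Category.assoc, Category.assoc, hm, Category.comp_id, pullbackSymmetry_hom_comp_snd]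
    exact pullbackSpecIso_inv_fst' Γ(T, UT) R' Γ(Y, UB)
  · have h1 : z ∈ Set.range m := by
      rw [Scheme.Pullback.range_map]
      refine ⟨?_, ⟨(pullback.snd q (a ≫ hUT.fromSpec)) z, rfl⟩⟩
      show _ ∈ Set.range hUB.fromSpec
      rw [hUB.range_fromSpec]
      exact hz
    obtain ⟨w, rfl⟩ := h1
    exact ⟨(pullbackSpecIso Γ(T, UT) R' Γ(Y, UB)).hom ((pullbackSymmetry a b).inv w), by
      show J _ = m w
      simp only [J, ← Scheme.Hom.comp_apply, Category.assoc, Iso.inv_hom_id_assoc, Iso.hom_inv_id_assoc]⟩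

/-- Residue fields along an affine map followed by an open immersion, tested on a point in a field. -/
theorem bijective_rfm_affine {A W K : Type u} [CommRing A] [CommRing W] [Field K] (φ : A →+* W) {X : Scheme.{u}}
    (j : Spec (CommRingCat.of A) ⟶ X) [IsOpenImmersion j] (w : Spec (CommRingCat.of W)) (χ : W →+* K)
    (hw : w.asIdeal = RingHom.ker χ) (h : ∀ z, χ z ∈ Subfield.closure (Set.range (χ.comp φ))) :
    Function.Bijective ((Spec.map (CommRingCat.ofHom φ) ≫ j).residueFieldMap w) := by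
  refine MorLib.EEF.bijective_rfm_comp _ j w ⟨RingHom.injective _, ?_⟩ (MorLib.EEF.bijective_rfm_isOpenImmersion j _)
  refine (MorLib.RUH.residueFieldMap_surjective_iff (CommRingCat.ofHom φ).hom w).2 fun z => ?_
  obtain ⟨_, hy, _, hs, hz⟩ := Subfield.mem_closure_iff.mp (h z)
  rw [← RingHom.coe_range, Subring.closure_eq, RingHom.mem_range] at hy hs
  obtain ⟨b, rfl⟩ := hy
  obtain ⟨s, rfl⟩ := hs
  by_cases h0 : χ (φ s) = 0
  · refine ⟨0, 1, fun hh => ?_, ?_⟩
    · rw [hw, RingHom.mem_ker, map_one, map_one] at hh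
      exact one_ne_zero hh
    · rw [hw, RingHom.mem_ker, map_one, one_mul, map_zero, sub_zero, ← hz]
      show χ (φ b) / χ (φ s) = 0
      rw [h0, div_zero]
  · refine ⟨b, s, fun hh => h0 (by rwa [hw] at hh), ?_⟩
    rw [hw, RingHom.mem_ker, map_sub, map_mul, ← hz, sub_eq_zero]
    show χ (φ s) * (χ (φ b) / χ (φ s)) = χ (φ b)
    rw [mul_div_cancel₀ _ h0]

/-- Images of fractions. -/
theorem mem_closure_of_eq {B K : Type u} [CommRing B] [Field K] (F : Subfield K) (θ : B →+* K)
    (hθ : ∀ b, θ b ∈ F) (k : K) (b s : B) (hs : θ s ≠ 0) (h : k * θ s = θ b) : k ∈ F := by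
  rw [eq_div_of_mul_eq hs h]
  exact F.div_mem (hθ b) (hθ s)

/-- Base change of an étale map is étale. -/
theorem map_etale_of_etale {R B W : Type u} [CommRing R] [CommRing B] [CommRing W] [Algebra R B] [Algebra R W]
    (a : B →ₐ[R] W) (ha : a.toRingHom.Etale) (S : Type u) [CommRing S] [Algebra R S] :
    (Algebra.TensorProduct.map (AlgHom.id R S) a).toRingHom.Etale := by
  rw [Stage.map_id_etale_iff]
  letI := a.toRingHom.toAlgebra
  haveI : Algebra.Etale B W := RingHom.etale_algebraMap.mp (by rwa [RingHom.algebraMap_toAlgebra])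
  infer_instance

/-- The inclusion into a base change along an étale algebra is étale. -/
theorem includeRight_etale (R S B : Type u) [CommRing R] [CommRing S] [CommRing B] [Algebra R S] [Algebra R B]
    [Algebra.Etale R S] : (Algebra.TensorProduct.includeRight : B →ₐ[R] S ⊗[R] B).toRingHom.Etale := by
  have h2 : (Algebra.TensorProduct.includeRight : B →ₐ[R] S ⊗[R] B).toRingHom =
      (Algebra.TensorProduct.comm R B S).toRingEquiv.toRingHom.comp (algebraMap B (B ⊗[R] S)) :=
    RingHom.ext fun b => by simp [Algebra.TensorProduct.algebraMap_apply]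
  rw [h2]
  exact RingHom.Etale.stableUnderComposition _ _ (RingHom.etale_algebraMap.mpr inferInstance)
    (RingHom.Etale.of_bijective (Algebra.TensorProduct.comm R B S).toRingEquiv.bijective)

/-- Stalk computations on a spectrum. -/
theorem stalkMap_germ_top {A R : CommRingCat.{u}} {Z : Scheme.{u}} (h : Spec A ⟶ Z) (k : Z ⟶ Spec R) (f : R ⟶ A)
    (e : h ≫ k = Spec.map f) (z : Spec A) (r : R) :
    (h.stalkMap z).hom ((k.stalkMap (h z)).hom
        (((Spec R).presheaf.germ ⊤ (k (h z)) trivial).hom ((Scheme.ΓSpecIso R).inv.hom r))) =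
      ((Spec A).presheaf.germ ⊤ z trivial).hom ((Scheme.ΓSpecIso A).inv.hom (f.hom r)) := by
  have e2 : (h ≫ k).appTop ((Scheme.ΓSpecIso R).inv r) = (Scheme.ΓSpecIso A).inv (f r) := by
    rw [e]
    exact (congr($(Scheme.ΓSpecIso_inv_naturality f) r)).symm
  erw [Scheme.Hom.germ_stalkMap_apply k ⊤ (h z) trivial, Scheme.Hom.germ_stalkMap_apply h (k ⁻¹ᵁ ⊤) z trivial]
  exact congrArg _ e2

/-- The stalk of a spectrum is the localization. -/
theorem isLocalization_germ_top (A : CommRingCat.{u}) (z : PrimeSpectrum A) :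
    letI := (((Spec A).presheaf.germ ⊤ z trivial).hom.comp (Scheme.ΓSpecIso A).inv.hom).toAlgebra
    IsLocalization.AtPrime ((Spec A).presheaf.stalk z) z.asIdeal := by
  have h := StructureSheaf.IsLocalization.to_stalk (R := A) z
  convert h using 1
  all_goals first
    | rfl
    | exact Algebra.algebra_ext _ _ fun r => rfl

end Groth.Agent.PopescuLib
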