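import Mathlib

/-!
# Filtered colimits of formally smooth algebras

Lifting along square-zero ideals killed by a maximal ideal, and flatness.
-/

set_option linter.style.haveILetI false

namespace Groth.Agent.PopescuLib

universe u

/-- A linear system over a field is solvable as soon as it has no contradiction. -/
theorem exists_solution {K V W κ : Type*} [Field K] [AddCommGroup V] [Module K V] [AddCommGroup W] [Module K W]
    (v : κ → V) (w : κ → W)
    (h : ∀ l : κ →₀ K, Finsupp.linearCombination K v l = 0 → Finsupp.linearCombination K w l = 0) :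
    ∃ L : V →ₗ[K] W, ∀ k, L (v k) = w k := by
  let φ := Finsupp.linearCombination K v
  let g : LinearMap.range φ →ₗ[K] W :=
    ((LinearMap.ker φ).liftQ (Finsupp.linearCombination K w) fun l hl => h l hl).comp
      φ.quotKerEquivRange.symm.toLinearMap
  obtain ⟨L, hL⟩ := g.exists_extend
  refine ⟨L, fun k => ?_⟩
  have h1 := LinearMap.congr_fun hL ⟨φ (Finsupp.single k 1), LinearMap.mem_range_self φ _⟩
  simp only [LinearMap.comp_apply, Submodule.subtype_apply, g, LinearEquiv.coe_toLinearMap,
    LinearMap.quotKerEquivRange_symm_apply_image, Submodule.mkQ_apply, Submodule.liftQ_apply] at h1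
  rw [show v k = φ (Finsupp.single k 1) by simp [φ]]
  refine h1.trans ?_
  change Finsupp.linearCombination K w (Finsupp.single k 1) = w k
  simp

section

variable {R : Type u} [CommRing R] {ι : Type u} [Preorder ι] [IsDirectedOrder ι] [Nonempty ι]
  {G : ι → Type u} [∀ i, CommRing (G i)] [∀ i, Algebra R (G i)]
  (f : ∀ i j : ι, i ≤ j → (G i →ₐ[R] G j)) [DirectedSystem G (fun i j h => f i j h)]

/-- A filtered colimit of flat algebras is flat. -/
theorem flat_directLimit (h : ∀ i, Module.Flat R (G i)) : Module.Flat R (DirectLimit G f) := by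
  classical
  refine Module.Flat.of_forall_isTrivialRelation fun {l} {c} {x} hx => ?_
  choose i y hy using fun a => DirectLimit.exists_eq_mk f (x a)
  obtain ⟨j, hj⟩ := Finset.exists_le (Finset.univ.image i)
  let of' := DirectLimit.Algebra.of G f (R := R)
  have hij : ∀ a, i a ≤ j := fun a => hj _ (Finset.mem_image_of_mem _ (Finset.mem_univ a))
  have hy' : ∀ a, of' j (f _ _ (hij a) (y a)) = x a := fun a =>
    (DirectLimit.Algebra.of_f (f := f) (hij a) (y a)).trans (hy a).symm
  have h0 : of' j (∑ a, c a • f _ _ (hij a) (y a)) = of' j 0 := by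
    rw [map_sum, map_zero, ← hx]
    exact Finset.sum_congr rfl fun a _ => by rw [map_smul, hy' a]
  obtain ⟨m, h1, h2, hm⟩ := Quotient.eq.mp h0
  dsimp only at h1 h2 hm
  rw [map_zero, map_sum] at hm
  simp only [map_smul] at hm
  haveI := h m
  obtain ⟨k, a, z, hz, ha⟩ := Module.Flat.isTrivialRelation_of_sum_smul_eq_zero (R := R) (M := G m) hm
  refine ⟨k, a, fun b => of' m (z b), fun b => ?_, ha⟩
  rw [← hy' b, ← DirectLimit.Algebra.of_f (f := f) h1 (f _ _ (hij b) (y b))]
  show of' m _ = _
  have hzb := hz b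
  dsimp only at hzb
  rw [hzb, map_sum]
  simp only [map_smul]

/-- A filtered colimit of formally smooth algebras lifts along a square-zero ideal killed by a maximal ideal. -/
theorem exists_lift_directLimit (hs : ∀ i, Algebra.FormallySmooth R (G i))
    {E : Type u} [CommRing E] [Algebra R E] (J : Ideal E) (hJ : J ^ 2 = ⊥) (M : Ideal E) [M.IsMaximal]
    (hM : ∀ m ∈ M, ∀ x ∈ J, m * x = 0) (ψ : DirectLimit G f →ₐ[R] E ⧸ J) :
    ∃ χ : DirectLimit G f →ₐ[R] E, (Ideal.Quotient.mkₐ R J).comp χ = ψ := by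
  classical
  set D := DirectLimit G f with hD
  let of' := DirectLimit.Algebra.of G f (R := R)
  letI : Field (E ⧸ M) := Ideal.Quotient.field M
  have htor : Module.IsTorsionBySet E J (M : Set E) := fun x m => Subtype.ext (hM m.1 m.2 x.1 x.2)
  letI : Module (E ⧸ M) J := htor.module
  have hsmul : ∀ (a : E) (x : J), Ideal.Quotient.mk M a • x = a • x := fun a x => rfl
  have hJJ : ∀ u ∈ J, ∀ v ∈ J, u * v = 0 := fun u hu v hv => by
    have := Ideal.mul_mem_mul hu hv
    rwa [← sq, hJ] at this
  choose c0 hc0 using fun a => Ideal.Quotient.mk_surjective (I := J) (ψ a)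
  let δ : D → (D →₀ E ⧸ M) := fun a => Finsupp.single a 1
  let κ := (D × D) ⊕ (D × D) ⊕ R
  let v : κ → (D →₀ E ⧸ M) :=
    Sum.elim (fun p => δ (p.1 + p.2) - δ p.1 - δ p.2)
      (Sum.elim (fun p => δ (p.1 * p.2) - Ideal.Quotient.mk M (c0 p.2) • δ p.1 -
          Ideal.Quotient.mk M (c0 p.1) • δ p.2)
        (fun r => δ (algebraMap R D r)))
  have hwmem : ∀ (a : D) (e : E), ψ a = Ideal.Quotient.mk J e → e - c0 a ∈ J := fun a e he =>
    Ideal.Quotient.eq.mp (he.symm.trans (hc0 a).symm)
  let w : κ → J :=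
    Sum.elim (fun p => ⟨c0 p.1 + c0 p.2 - c0 (p.1 + p.2), hwmem _ _ (by rw [map_add, map_add, hc0, hc0])⟩)
      (Sum.elim (fun p => ⟨c0 p.1 * c0 p.2 - c0 (p.1 * p.2), hwmem _ _ (by rw [map_mul, map_mul, hc0, hc0])⟩)
        (fun r => ⟨algebraMap R E r - c0 (algebraMap R D r), hwmem _ _ (by rw [AlgHom.commutes]; rfl)⟩))
  -- representatives at a stage
  choose ia xa hxa using fun a : D => DirectLimit.exists_eq_mk f a
  let s : ∀ j, D → G j := fun j a => if h : ia a ≤ j then f _ _ h (xa a) else 0
  have hs_of : ∀ j a, ia a ≤ j → of' j (s j a) = a := fun j a h => by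
    simp only [s, dif_pos h]
    exact (DirectLimit.Algebra.of_f (f := f) h (xa a)).trans (hxa a).symm
  have hs_map : ∀ j k (hjk : j ≤ k) a, ia a ≤ j → f j k hjk (s j a) = s k a := fun j k hjk a h => by
    simp only [s, dif_pos h, dif_pos (h.trans hjk)]
    exact DirectedSystem.map_map (f := fun i j h => f i j h) h hjk (xa a)
  have hev : ∀ j (u u' : G j), of' j u = of' j u' → ∃ k, ∃ hjk : j ≤ k, f j k hjk u = f j k hjk u' :=
    fun j u u' h => by
      obtain ⟨k, h1, _, hk⟩ := Quotient.eq.mp h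
      exact ⟨k, h1, hk⟩
  let Good : κ → ∀ j, Prop := fun k j =>
    Sum.elim (fun p => ia p.1 ≤ j ∧ ia p.2 ≤ j ∧ ia (p.1 + p.2) ≤ j ∧ s j (p.1 + p.2) = s j p.1 + s j p.2)
      (Sum.elim (fun p => ia p.1 ≤ j ∧ ia p.2 ≤ j ∧ ia (p.1 * p.2) ≤ j ∧ s j (p.1 * p.2) = s j p.1 * s j p.2)
        (fun r => ia (algebraMap R D r) ≤ j ∧ s j (algebraMap R D r) = algebraMap R (G j) r)) k
  have hgood : ∀ k, ∃ m, ∀ j, m ≤ j → Good k j := by
    rintro (⟨a, b⟩ | ⟨a, b⟩ | r)
    · obtain ⟨j₀, h0⟩ := Finset.exists_le {ia a, ia b, ia (a + b)}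
      have ha := h0 (ia a) (by simp)
      have hb := h0 (ia b) (by simp)
      have hc := h0 (ia (a + b)) (by simp)
      obtain ⟨m, hm, he⟩ := hev j₀ (s j₀ (a + b)) (s j₀ a + s j₀ b)
        (by rw [map_add, hs_of _ _ ha, hs_of _ _ hb, hs_of _ _ hc])
      refine ⟨m, fun j hj => ⟨ha.trans (hm.trans hj), hb.trans (hm.trans hj), hc.trans (hm.trans hj), ?_⟩⟩
      have := congrArg (f m j hj) he
      simpa only [map_add, hs_map _ _ _ _ ha, hs_map _ _ _ _ hb, hs_map _ _ _ _ hc,
        hs_map _ _ _ _ (ha.trans hm), hs_map _ _ _ _ (hb.trans hm), hs_map _ _ _ _ (hc.trans hm)] using this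
    · obtain ⟨j₀, h0⟩ := Finset.exists_le {ia a, ia b, ia (a * b)}
      have ha := h0 (ia a) (by simp)
      have hb := h0 (ia b) (by simp)
      have hc := h0 (ia (a * b)) (by simp)
      obtain ⟨m, hm, he⟩ := hev j₀ (s j₀ (a * b)) (s j₀ a * s j₀ b)
        (by rw [map_mul, hs_of _ _ ha, hs_of _ _ hb, hs_of _ _ hc])
      refine ⟨m, fun j hj => ⟨ha.trans (hm.trans hj), hb.trans (hm.trans hj), hc.trans (hm.trans hj), ?_⟩⟩
      have := congrArg (f m j hj) he
      simpa only [map_mul, hs_map _ _ _ _ ha, hs_map _ _ _ _ hb, hs_map _ _ _ _ hc,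
        hs_map _ _ _ _ (ha.trans hm), hs_map _ _ _ _ (hb.trans hm), hs_map _ _ _ _ (hc.trans hm)] using this
    · obtain ⟨m, hm, he⟩ := hev _ (s _ (algebraMap R D r)) (algebraMap R (G (ia (algebraMap R D r))) r)
        (by rw [hs_of _ _ le_rfl, AlgHom.commutes])
      refine ⟨m, fun j hj => ⟨hm.trans hj, ?_⟩⟩
      have := congrArg (f m j hj) he
      simpa only [hs_map _ _ _ _ (le_refl _), hs_map _ _ _ _ hm, AlgHom.commutes] using this
  choose m hm using hgood
  -- solve
  obtain ⟨L, hL⟩ := exists_solution (K := E ⧸ M) v w fun l hl => by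
    obtain ⟨j, hj⟩ := Finset.exists_le (l.support.image m)
    haveI := hs j
    let χ : G j →ₐ[R] E := Algebra.FormallySmooth.lift J ⟨2, hJ⟩ (ψ.comp (of' j))
    have hχ : ∀ u, Ideal.Quotient.mk J (χ u) = ψ (of' j u) :=
      Algebra.FormallySmooth.mk_lift J ⟨2, hJ⟩ (ψ.comp (of' j))
    let dd : D → J := fun a => if h : ia a ≤ j then ⟨χ (s j a) - c0 a, hwmem a _ (by rw [hχ, hs_of j a h])⟩ else 0
    let L₀ := Finsupp.linearCombination (E ⧸ M) dd
    have key : ∀ k ∈ l.support, L₀ (v k) = w k := by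
      intro k hk
      have hg := hm k j (hj _ (Finset.mem_image_of_mem _ hk))
      rcases k with ⟨a, b⟩ | ⟨a, b⟩ | r
      · obtain ⟨ha, hb, hc, he⟩ := hg
        refine Subtype.ext ?_
        simp only [v, w, δ, L₀, Sum.elim_inl, map_sub, Finsupp.linearCombination_single, one_smul, dd,
          dif_pos ha, dif_pos hb, dif_pos hc, Submodule.coe_sub, he, map_add]
        ring
      · obtain ⟨ha, hb, hc, he⟩ := hg
        refine Subtype.ext ?_
        simp only [v, w, δ, L₀, Sum.elim_inr, Sum.elim_inl, map_sub, map_smul, Finsupp.linearCombination_single,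
          one_smul, dd, dif_pos ha, dif_pos hb, dif_pos hc, hsmul, Submodule.coe_sub, Submodule.coe_smul_of_tower,
          smul_eq_mul, he, map_mul]
        linear_combination hJJ _ (hwmem a (χ (s j a)) (by rw [hχ, hs_of j a ha])) _
          (hwmem b (χ (s j b)) (by rw [hχ, hs_of j b hb]))
      · obtain ⟨ha, he⟩ := hg
        refine Subtype.ext ?_
        simp only [v, w, δ, L₀, Sum.elim_inr, Finsupp.linearCombination_single, one_smul, dd, dif_pos ha, he,
          AlgHom.commutes]
    rw [Finsupp.linearCombination_apply] at hl ⊢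
    have h1 := congrArg L₀ hl
    rw [map_zero, Finsupp.sum, map_sum] at h1
    rw [Finsupp.sum]
    refine (Finset.sum_congr rfl fun k hk => ?_).trans h1
    rw [map_smul, key k hk]
  let d : D → E := fun a => (L (δ a) : E)
  have hd : ∀ a, d a ∈ J := fun a => (L (δ a)).2
  have hadd : ∀ a b, c0 (a + b) + d (a + b) = c0 a + d a + (c0 b + d b) := fun a b => by
    have := congrArg Subtype.val (hL (Sum.inl (a, b)))
    simp only [v, w, Sum.elim_inl, map_sub, Submodule.coe_sub] at this
    linear_combination this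
  have hmul : ∀ a b, c0 (a * b) + d (a * b) = (c0 a + d a) * (c0 b + d b) := fun a b => by
    have := congrArg Subtype.val (hL (Sum.inr (Sum.inl (a, b))))
    simp only [v, w, Sum.elim_inr, Sum.elim_inl, map_sub, map_smul, hsmul, Submodule.coe_sub,
      Submodule.coe_smul_of_tower, smul_eq_mul] at this
    linear_combination this - hJJ _ (hd a) _ (hd b)
  have halg : ∀ r, c0 (algebraMap R D r) + d (algebraMap R D r) = algebraMap R E r := fun r => by
    have := congrArg Subtype.val (hL (Sum.inr (Sum.inr r)))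
    simp only [v, w, Sum.elim_inr] at this
    linear_combination this
  refine ⟨{ toFun := fun a => c0 a + d a
            map_one' := by simpa using halg 1
            map_mul' := hmul
            map_zero' := by simpa using halg 0
            map_add' := hadd
            commutes' := halg }, AlgHom.ext fun a => ?_⟩
  show Ideal.Quotient.mk J (c0 a + d a) = ψ a
  rw [map_add, hc0, Ideal.Quotient.eq_zero_iff_mem.mpr (hd a), add_zero]

end


open TensorProduct in
/-- The lifting property passes to iterated base changes. -/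
theorem exists_lift_baseChange {R K L D : Type u} [CommRing R] [CommRing K] [CommRing L] [CommRing D]
    [Algebra R K] [Algebra K L] [Algebra R D]
    {A : Type u} [CommRing A] [Algebra L A] (J : Ideal A)
    (hlift : ∀ [Algebra R A] (θ : D →ₐ[R] A ⧸ J), ∃ χ : D →ₐ[R] A, (Ideal.Quotient.mkₐ R J).comp χ = θ)
    (θ : L ⊗[K] (K ⊗[R] D) →ₐ[L] A ⧸ J) :
    ∃ χ : L ⊗[K] (K ⊗[R] D) →ₐ[L] A, (Ideal.Quotient.mkₐ L J).comp χ = θ := by
  letI : Algebra K A := ((algebraMap L A).comp (algebraMap K L)).toAlgebra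
  haveI : IsScalarTower K L A := IsScalarTower.of_algebraMap_eq' rfl
  letI : Algebra R A := ((algebraMap K A).comp (algebraMap R K)).toAlgebra
  haveI : IsScalarTower R K A := IsScalarTower.of_algebraMap_eq' rfl
  let θK : K ⊗[R] D →ₐ[K] A ⧸ J := (θ.restrictScalars K).comp Algebra.TensorProduct.includeRight
  let θD : D →ₐ[R] A ⧸ J := (θK.restrictScalars R).comp Algebra.TensorProduct.includeRight
  obtain ⟨χ0, hχ0⟩ := hlift θD
  refine ⟨Algebra.TensorProduct.lift (Algebra.ofId L A)
    (Algebra.TensorProduct.lift (Algebra.ofId K A) χ0 fun _ _ => Commute.all _ _) fun _ _ => Commute.all _ _, ?_⟩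
  refine Algebra.TensorProduct.ext (Subsingleton.elim _ _) (Algebra.TensorProduct.ext (Subsingleton.elim _ _) ?_)
  ext d
  have := AlgHom.congr_fun hχ0 d
  simp only [θD, θK, AlgHom.comp_apply, AlgHom.restrictScalars_apply, Algebra.TensorProduct.includeRight_apply,
    Ideal.Quotient.mkₐ_eq_mk] at this ⊢
  simpa using this

end Groth.Agent.PopescuLib
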