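import Groth.Agent.PopescuLib.FPColim
import Mathlib

/-!
# Elements of functors on algebras preserving filtered colimits
-/

set_option autoImplicit false

universe u

open CategoryTheory Limits

namespace Groth.Agent.PopescuLib

variable (A B : Type u) [CommRing A] [CommRing B] [Algebra A B]

/-- The diagram of models, in algebras. -/
noncomputable def fpDiagram' : FPModel A B ⥤ CommAlgCat.{u} A where
  obj X := CommAlgCat.of A X.Alg
  map f := CommAlgCat.ofHom f.1

/-- Its cocone to `B`. -/
noncomputable def fpCocone' : Cocone (fpDiagram' A B) where
  pt := CommAlgCat.of A B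
  ι :=
    { app := fun X => CommAlgCat.ofHom X.toB
      naturality := fun X Y f => by
        ext b
        exact congr($(f.2) b) }

/-- `B` is the filtered colimit of the models, in algebras. -/
noncomputable def fpIsColimit' : IsColimit (fpCocone' A B) :=
  isColimitOfReflects (commAlgCatEquivUnder (CommRingCat.of A)).functor (fpIsColimit A B)

/-- Elements of a functor on algebras commuting with filtered colimits come from finitely presented algebras. -/
theorem exists_fp_preimage' (F : CommAlgCat.{u} A ⥤ Type u) [PreservesFilteredColimitsOfSize.{u, u} F]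
    (ξ : F.obj (CommAlgCat.of A B)) :
    ∃ (P : Type u) (_ : CommRing P) (_ : Algebra A P), Algebra.FinitePresentation A P ∧
      ∃ (f : P →ₐ[A] B) (ξ₀ : F.obj (CommAlgCat.of A P)), F.map (CommAlgCat.ofHom f) ξ₀ = ξ := by
  haveI := PreservesFilteredColimitsOfSize.preserves_filtered_colimits (F := F) (FPModel A B)
  obtain ⟨X, ξ₀, h⟩ := Types.jointly_surjective_of_isColimit (isColimitOfPreserves F (fpIsColimit' A B)) ξ
  exact ⟨X.Alg, inferInstance, inferInstance, inferInstance, X.toB, ξ₀, h⟩

end Groth.Agent.PopescuLib
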