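import Groth.Agent.PopescuLib.SchemePoint
import Groth.Agent.PopescuLib.FormalIso
import Groth.Agent.EtLoc7.Basic
import Mathlib

/-!
# A common étale neighbourhood of two formally isomorphic points, ring form
-/

set_option autoImplicit false
set_option linter.style.haveILetI false

universe u

open IsLocalRing TensorProduct

namespace Groth.Agent.PopescuLib

/-- Residue-surjective local homomorphism with the same maximal ideal hits everything modulo the square. -/
theorem exists_sub_mem_sq {L P : Type u} [CommRing L] [CommRing P] [IsLocalRing L] [IsLocalRing P] (ι : L →+* P)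
    (hm : (maximalIdeal L).map ι = maximalIdeal P) (hs : ∀ z, ∃ l, z - ι l ∈ maximalIdeal P) (z : P) :
    ∃ l, z - ι l ∈ maximalIdeal P ^ 2 := by
  have h1 : ∀ w ∈ (maximalIdeal L).map ι, ∃ l, w - ι l ∈ maximalIdeal P ^ 2 := by
    intro w hw
    induction hw using Submodule.span_induction with
    | mem x hx => obtain ⟨l, -, rfl⟩ := hx; exact ⟨l, by rw [sub_self]; exact zero_mem _⟩
    | zero => exact ⟨0, by rw [map_zero, sub_zero]; exact zero_mem _⟩
    | add a b _ _ ha hb =>
      obtain ⟨la, ha⟩ := ha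
      obtain ⟨lb, hb⟩ := hb
      exact ⟨la + lb, by rw [map_add, add_sub_add_comm]; exact add_mem ha hb⟩
    | smul c x hx ih =>
      obtain ⟨lx, hlx⟩ := ih
      obtain ⟨lc, hlc⟩ := hs c
      refine ⟨lc * lx, ?_⟩
      have hxm : x ∈ maximalIdeal P := hm ▸ hx
      have hlxm : ι lx ∈ maximalIdeal P := by
        simpa using sub_mem hxm (Ideal.pow_le_self two_ne_zero hlx)
      have e : c • x - ι (lc * lx) = c * (x - ι lx) + (c - ι lc) * ι lx := by rw [smul_eq_mul, map_mul]; ring
      rw [e]
      exact add_mem (Ideal.mul_mem_left _ c hlx) (pow_two (maximalIdeal P) ▸ Ideal.mul_mem_mul hlc hlxm)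
  obtain ⟨l0, h0⟩ := hs z
  obtain ⟨l1, hl1⟩ := h1 _ (hm ▸ h0)
  exact ⟨l0 + l1, by rw [map_add, ← sub_sub]; exact hl1⟩

set_option maxHeartbeats 1000000 in
/-- Two points with isomorphic completions have a common étale neighbourhood. -/
theorem exists_common_etale {Rh A C L O : Type u} [CommRing Rh] [CommRing A] [CommRing C] [CommRing L] [CommRing O]
    [IsNoetherianRing Rh] [IsLocalRing L] [IsLocalRing O] [Algebra Rh A] [Algebra.FiniteType Rh A] [Algebra Rh C]
    [Algebra.FiniteType Rh C] [Algebra A L] [Algebra Rh L] [IsScalarTower Rh A L] [Algebra C O] [Algebra Rh O]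
    [IsScalarTower Rh C O] (Q : Ideal A) [Q.IsPrime] [IsLocalization.AtPrime L Q] (PC : Ideal C) [PC.IsPrime]
    [IsLocalization.AtPrime O PC] (hreg : CAlg.IsRegularHom L (AdicCompletion (maximalIdeal L) L))
    (φ : AdicCompletion (maximalIdeal O) O ≃+* AdicCompletion (maximalIdeal L) L)
    (hφ : ∀ r : Rh, φ (algebraMap O (AdicCompletion (maximalIdeal O) O) (algebraMap Rh O r)) =
      algebraMap L (AdicCompletion (maximalIdeal L) L) (algebraMap Rh L r)) :
    ∃ (C1 : Type u) (_ : CommRing C1) (_ : Algebra Rh C1) (a : A →ₐ[Rh] C1) (b : C →ₐ[Rh] C1) (P : Ideal C1)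
      (_ : P.IsPrime), a.toRingHom.Etale ∧ b.toRingHom.Etale ∧ P.comap a.toRingHom = Q ∧ P.comap b.toRingHom = PC ∧
      (∀ z : C1, ∃ x s : A, s ∉ Q ∧ z * a s - a x ∈ P) ∧
      (∀ z : C1, ∃ x s : C, s ∉ PC ∧ z * b s - b x ∈ P) := by
  haveI : IsNoetherianRing A := Algebra.FiniteType.isNoetherianRing Rh A
  haveI : IsNoetherianRing C := Algebra.FiniteType.isNoetherianRing Rh C
  haveI : Algebra.FinitePresentation Rh C := Algebra.FinitePresentation.of_finiteType.mp inferInstance
  haveI : IsNoetherianRing L := IsLocalization.isNoetherianRing Q.primeCompl L inferInstance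
  haveI : IsNoetherianRing O := IsLocalization.isNoetherianRing PC.primeCompl O inferInstance
  haveI := FlatLoc6.isLocalRing_cpl L
  haveI := FlatLoc6.isLocalRing_cpl O
  haveI : IsLocalRing (AdicCompletion (maximalIdeal L) L) := FlatLoc6.isLocalRing_cpl L
  haveI : IsLocalRing (AdicCompletion (maximalIdeal O) O) := FlatLoc6.isLocalRing_cpl O
  let f₀ : C →ₐ[Rh] AdicCompletion (maximalIdeal L) L :=
    { toRingHom := φ.toRingHom.comp ((algebraMap O (AdicCompletion (maximalIdeal O) O)).comp (algebraMap C O))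
      commutes' := fun r => by
        show φ (algebraMap O _ (algebraMap C O (algebraMap Rh C r))) = _
        rw [← IsScalarTower.algebraMap_apply Rh C O, hφ, ← IsScalarTower.algebraMap_apply] }
  obtain ⟨A', _, _, hA', π, β, hπ, hβR, hπβ⟩ :=
    exists_etale_algebra_approx (R := Rh) (A := A) (B := C) (L := L) Q.primeCompl hreg f₀ 2 one_le_two
  haveI := hA'
  let ev := (AdicCompletion.evalₐ (maximalIdeal L) 2).toRingHom
  have hevs : Function.Surjective ev := fun y => by
    obtain ⟨l, rfl⟩ := Ideal.Quotient.mk_surjective y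
    exact ⟨algebraMap L _ l, (AdicCompletion.evalₐ (maximalIdeal L) 2).commutes l⟩
  haveI : Nontrivial (L ⧸ maximalIdeal L ^ 2) := Ideal.Quotient.nontrivial_iff.mpr fun h =>
    (maximalIdeal.isMaximal L).ne_top (top_le_iff.1 (h ▸ Ideal.pow_le_self two_ne_zero))
  haveI : IsLocalRing (L ⧸ maximalIdeal L ^ 2) := IsLocalRing.of_surjective' _ Ideal.Quotient.mk_surjective
  haveI : IsLocalHom ev := IsLocalHom.of_surjective ev hevs
  haveI hmkloc : IsLocalHom (Ideal.Quotient.mk (maximalIdeal L ^ 2)) :=
    IsLocalHom.of_surjective _ Ideal.Quotient.mk_surjective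
  let P' : Ideal A' := (maximalIdeal (L ⧸ maximalIdeal L ^ 2)).comap π
  haveI : P'.IsPrime := Ideal.comap_isPrime π _
  let Pl := Localization.AtPrime P'
  have hu : ∀ s : P'.primeCompl, IsUnit (π s) := fun s => by
    by_contra hn
    exact s.2 hn
  let πl : Pl →+* L ⧸ maximalIdeal L ^ 2 := IsLocalization.lift hu
  have hπl : ∀ x, πl (algebraMap A' Pl x) = π x := fun x => IsLocalization.lift_eq hu x
  have hunit : ∀ x : A', IsUnit (π x) → IsUnit (algebraMap A' Pl x) := fun x hx =>
    IsLocalization.map_units Pl (⟨x, fun h => h hx⟩ : P'.primeCompl)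
  haveI hπlloc : IsLocalHom πl := ⟨fun z hz => by
    obtain ⟨⟨x, s⟩, rfl⟩ := IsLocalization.mk'_surjective P'.primeCompl z
    dsimp only at hz ⊢
    have h1 : IsUnit (π x) := by
      rw [← hπl, ← IsLocalization.mk'_spec Pl x s, map_mul]
      exact hz.mul ((IsLocalization.map_units Pl s).map πl)
    exact (IsLocalization.mk'_spec Pl x s ▸ hunit x h1 : IsUnit (_ * _)) |> isUnit_of_mul_isUnit_left⟩
  -- the map from L
  have huι : ∀ s : Q.primeCompl, IsUnit (algebraMap A Pl s) := fun s => by
    rw [IsScalarTower.algebraMap_apply A A' Pl]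
    refine hunit _ ?_
    rw [← RingHom.comp_apply, hπ]
    exact (IsLocalization.map_units L s).map (Ideal.Quotient.mk (maximalIdeal L ^ 2))
  let ι : L →+* Pl := IsLocalization.lift huι
  letI : Algebra L Pl := ι.toAlgebra
  haveI : IsScalarTower A L Pl := IsScalarTower.of_algebraMap_eq fun x => (IsLocalization.lift_eq huι x).symm
  have hπι : ∀ l, πl (ι l) = Ideal.Quotient.mk _ l := by
    intro l
    refine RingHom.congr_fun (IsLocalization.ringHom_ext Q.primeCompl (j := πl.comp ι) (k := Ideal.Quotient.mk _) ?_) l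
    refine RingHom.ext fun x => ?_
    show πl (ι (algebraMap A L x)) = _
    rw [show ι (algebraMap A L x) = algebraMap A Pl x from IsLocalization.lift_eq huι x,
      IsScalarTower.algebraMap_apply A A' Pl, hπl, ← RingHom.comp_apply, hπ]
  haveI hιloc : IsLocalHom (algebraMap L Pl) := ⟨fun l hl => by
    have h1 : IsUnit (πl (ι l)) := IsUnit.map πl hl
    rw [hπι] at h1
    exact isUnit_of_map_unit (Ideal.Quotient.mk (maximalIdeal L ^ 2)) l h1⟩
  haveI : Module.Flat L Pl := (Module.flat_iff_of_isLocalization L Q.primeCompl Pl).2 (Module.Flat.trans A A' Pl)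
  haveI : Algebra.EssFiniteType L Pl := Algebra.EssFiniteType.of_comp A L Pl
  haveI : Algebra.FormallyUnramified A Pl :=
    haveI : Algebra.FormallyUnramified A' Pl := Algebra.FormallyUnramified.of_isLocalization P'.primeCompl
    Algebra.FormallyUnramified.comp A A' Pl
  haveI : Algebra.FormallyUnramified L Pl := Algebra.FormallyUnramified.of_restrictScalars A L Pl
  have hLm : (maximalIdeal L).map (algebraMap L Pl) = maximalIdeal Pl := Algebra.FormallyUnramified.map_maximalIdeal
  have hLs : ∀ z : Pl, ∃ l, z - ι l ∈ maximalIdeal Pl := fun z => by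
    obtain ⟨l, hl⟩ := Ideal.Quotient.mk_surjective (πl z)
    refine ⟨l, fun h => ?_⟩
    have h1 : IsUnit (πl (z - ι l)) := h.map πl
    rw [map_sub, hπι, hl, sub_self] at h1
    exact not_isUnit_zero h1
  have hLq := exists_sub_mem_sq ι hLm hLs
  have hker : ∀ z, πl z = 0 → z ∈ maximalIdeal Pl ^ 2 := by
    intro z hz
    obtain ⟨l, hl⟩ := hLq z
    have h0 : ∀ w ∈ maximalIdeal Pl ^ 2, πl w = 0 := by
      intro w hw
      have h1 : (maximalIdeal Pl ^ 2).map πl ≤ (maximalIdeal L).map (Ideal.Quotient.mk (maximalIdeal L ^ 2)) ^ 2 := by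
        rw [Ideal.map_pow, IsLocalRing.map_maximalIdeal_of_surjective _ Ideal.Quotient.mk_surjective]
        exact Ideal.pow_right_mono (((local_hom_TFAE πl).out 0 2).mp hπlloc) 2
      have h2 := h1 (Ideal.mem_map_of_mem πl hw)
      rwa [← Ideal.map_pow, Ideal.map_quotient_self, Ideal.mem_bot] at h2
    have h3 : Ideal.Quotient.mk (maximalIdeal L ^ 2) l = 0 := by
      rw [← hπι]
      have := h0 _ hl
      rwa [map_sub, hz, zero_sub, neg_eq_zero] at this
    have h4 : ι l ∈ maximalIdeal Pl ^ 2 := by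
      have := Ideal.mem_map_of_mem ι (Ideal.Quotient.eq_zero_iff_mem.mp h3)
      rwa [Ideal.map_pow, show (maximalIdeal L).map ι = maximalIdeal Pl from hLm] at this
    simpa using add_mem hl h4
  -- the map from O
  letI : Algebra C A' := β.toAlgebra
  haveI : IsScalarTower C A' Pl := inferInstance
  have hug : ∀ s : PC.primeCompl, IsUnit (algebraMap C Pl s) := fun s => by
    rw [IsScalarTower.algebraMap_apply C A' Pl]
    refine hunit _ ?_
    rw [show π (algebraMap C A' (s : C)) = ev (f₀ s) from hπβ s]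
    exact (((IsLocalization.map_units O s).map (algebraMap O (AdicCompletion (maximalIdeal O) O))).map φ).map ev
  let g : O →+* Pl := IsLocalization.lift hug
  letI : Algebra O Pl := g.toAlgebra
  haveI : IsScalarTower C O Pl := IsScalarTower.of_algebraMap_eq fun x => (IsLocalization.lift_eq hug x).symm
  have hπg : ∀ o, πl (g o) = ev (φ (algebraMap O _ o)) := by
    intro o
    refine RingHom.congr_fun (IsLocalization.ringHom_ext PC.primeCompl (j := πl.comp g)
      (k := ev.comp (φ.toRingHom.comp (algebraMap O (AdicCompletion (maximalIdeal O) O)))) ?_) o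
    refine RingHom.ext fun x => ?_
    show πl (g (algebraMap C O x)) = _
    rw [show g (algebraMap C O x) = algebraMap C Pl x from IsLocalization.lift_eq hug x,
      IsScalarTower.algebraMap_apply C A' Pl, hπl]
    exact hπβ x
  haveI hgloc : IsLocalHom (algebraMap O Pl) := ⟨fun o ho => by
    have h1 : IsUnit (πl (g o)) := IsUnit.map πl ho
    rw [hπg] at h1
    have h2 : IsUnit (algebraMap O (AdicCompletion (maximalIdeal O) O) o) :=
      (isUnit_map_iff φ _).mp (isUnit_of_map_unit ev _ h1)
    haveI : IsLocalHom (algebraMap O (AdicCompletion (maximalIdeal O) O)) :=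
      ((local_hom_TFAE _).out 0 2).mpr (AdicCompletion.maximalIdeal_eq_map_of_fg (IsNoetherian.noetherian _)).ge
    exact isUnit_of_map_unit _ o h2⟩
  have hgq : ∀ z : Pl, ∃ o, z - g o ∈ maximalIdeal Pl ^ 2 := by
    intro z
    obtain ⟨l, hl⟩ := hLq z
    obtain ⟨o, ho⟩ := CplFib6.exists_sub_mem_pow O 2 (φ.symm (algebraMap L _ l))
    refine ⟨o, ?_⟩
    have h1 : ev (φ (φ.symm (algebraMap L _ l) - algebraMap O _ o)) = 0 := by
      have h2 : φ (φ.symm (algebraMap L _ l) - algebraMap O _ o) ∈
          (maximalIdeal L ^ 2).map (algebraMap L (AdicCompletion (maximalIdeal L) L)) := by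
        rw [Ideal.map_pow, ← AdicCompletion.maximalIdeal_eq_map_of_fg (IsNoetherian.noetherian _)]
        rw [Ideal.map_pow, ← AdicCompletion.maximalIdeal_eq_map_of_fg (IsNoetherian.noetherian _)] at ho
        have h3 := Ideal.mem_map_of_mem φ.toRingHom ho
        rwa [Ideal.map_pow, show Ideal.map φ.toRingHom _ = _ from IsLocalRing.map_ringEquiv_maximalIdeal φ] at h3
      refine (Ideal.map_le_iff_le_comap.2 (fun w hw => ?_) : _ ≤ RingHom.ker ev) h2
      show AdicCompletion.evalₐ (maximalIdeal L) 2 (algebraMap L _ w) = 0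
      rw [AlgHom.commutes]; exact Ideal.Quotient.eq_zero_iff_mem.2 hw
    have h4 : πl (g o - ι l) = 0 := by
      rw [map_sub, hπg, hπι, sub_eq_zero]
      rw [map_sub, map_sub, RingEquiv.apply_symm_apply, sub_eq_zero] at h1
      rw [← h1]
      exact (AdicCompletion.evalₐ (maximalIdeal L) 2).commutes l
    have := sub_mem hl (hker _ h4)
    simpa using this
  have hgres : ∀ z : Pl, ∃ o, z - g o ∈ maximalIdeal Pl := fun z =>
    (hgq z).imp fun o ho => Ideal.pow_le_self two_ne_zero ho
  haveI : IsNoetherianRing A' := Algebra.FiniteType.isNoetherianRing A A'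
  haveI : IsNoetherianRing Pl := IsLocalization.isNoetherianRing P'.primeCompl _ inferInstance
  have hgm : (maximalIdeal O).map (algebraMap O Pl) = maximalIdeal Pl := by
    have hle : (maximalIdeal O).map (algebraMap O Pl) ≤ maximalIdeal Pl := ((local_hom_TFAE _).out 0 2).mp hgloc
    refine le_antisymm hle ?_
    refine Submodule.le_of_le_smul_of_le_jacobson_bot (IsNoetherian.noetherian (maximalIdeal Pl))
      (IsLocalRing.maximalIdeal_le_jacobson (⊥ : Ideal Pl)) fun z hz => ?_
    obtain ⟨o, ho⟩ := hgq z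
    have h1 : g o ∈ maximalIdeal Pl := by simpa using sub_mem hz (Ideal.pow_le_self two_ne_zero ho)
    have h2 : o ∈ maximalIdeal O := fun hu => h1 (hu.map g)
    rw [show z = g o + (z - g o) by ring]
    refine Submodule.add_mem_sup (Ideal.mem_map_of_mem (algebraMap O Pl) h2) ?_
    rw [smul_eq_mul, ← pow_two]
    exact ho
  haveI : Module.Flat O Pl := flat_of_formal_iso O Pl L hgm hgres hLm hLs φ
  -- étale over C near P'
  letI : Algebra Rh A' := ((algebraMap A A').comp (algebraMap Rh A)).toAlgebra
  haveI : IsScalarTower Rh A A' := IsScalarTower.of_algebraMap_eq' rfl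
  haveI : IsScalarTower Rh C A' := IsScalarTower.of_algebraMap_eq fun r => (RingHom.congr_fun hβR r).symm
  haveI : Algebra.FiniteType Rh A' :=
    Algebra.FiniteType.trans (inferInstance : Algebra.FiniteType Rh A) (inferInstance : Algebra.FiniteType A A')
  haveI : Algebra.FiniteType C A' := Algebra.FiniteType.of_restrictScalars_finiteType Rh C A'
  haveI : Algebra.FinitePresentation C A' := Algebra.FinitePresentation.of_finiteType.mp inferInstance
  haveI : Algebra.EssFiniteType C Pl := Algebra.EssFiniteType.comp C A' Pl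
  haveI : Algebra.EssFiniteType O Pl := Algebra.EssFiniteType.of_comp C O Pl
  haveI : Algebra.IsSeparable (ResidueField O) (ResidueField Pl) := by
    let er : ResidueField O ≃ₐ[ResidueField O] ResidueField Pl :=
      AlgEquiv.ofBijective (Algebra.ofId _ _) ⟨RingHom.injective _, fun w => by
        obtain ⟨z, rfl⟩ := residue_surjective w
        obtain ⟨o, ho⟩ := hgres z
        exact ⟨residue O o, (Ideal.Quotient.eq.2 ho).symm⟩⟩
    exact Algebra.IsSeparable.of_algHom _ _ er.symm.toAlgHom
  haveI : Algebra.FormallyUnramified O Pl := Algebra.FormallyUnramified.of_map_maximalIdeal hgm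
  haveI : Algebra.FormallyEtale O Pl := EtLoc7.formallyEtale_of_formallyUnramified _ _
  haveI : Algebra.IsEtaleAt C P' :=
    haveI : Algebra.FormallyEtale C O := Algebra.FormallyEtale.of_isLocalization PC.primeCompl
    Algebra.FormallyEtale.comp C O Pl
  obtain ⟨r, hr, hret⟩ := Algebra.exists_etale_of_isEtaleAt (R := C) P'
  let C1 := Localization.Away r
  have hru : IsUnit (algebraMap A' Pl r) := IsLocalization.map_units Pl (⟨r, hr⟩ : P'.primeCompl)
  let ψ : C1 →+* Pl := IsLocalization.Away.lift r hru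
  have hψ : ∀ x, ψ (algebraMap A' C1 x) = algebraMap A' Pl x := fun x => IsLocalization.Away.lift_eq r hru x
  haveI : IsScalarTower Rh A C1 := IsScalarTower.of_algebraMap_eq fun x => by
    rw [IsScalarTower.algebraMap_apply Rh A' C1, IsScalarTower.algebraMap_apply Rh A A',
      ← IsScalarTower.algebraMap_apply A A' C1]
  haveI : IsScalarTower Rh C C1 := IsScalarTower.of_algebraMap_eq fun x => by
    rw [IsScalarTower.algebraMap_apply Rh A' C1, IsScalarTower.algebraMap_apply Rh C A',
      ← IsScalarTower.algebraMap_apply C A' C1]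
  haveI : Algebra.Etale A C1 :=
    haveI : Algebra.Etale A' C1 := .of_isLocalizationAway r
    Algebra.Etale.comp A A' C1
  let P : Ideal C1 := (maximalIdeal Pl).comap ψ
  haveI : P.IsPrime := Ideal.comap_isPrime ψ _
  have hψA : ∀ x : A, ψ (algebraMap A C1 x) = ι (algebraMap A L x) := fun x => by
    rw [IsScalarTower.algebraMap_apply A A' C1, hψ, ← IsScalarTower.algebraMap_apply A A' Pl,
      IsScalarTower.algebraMap_apply A L Pl]
    rfl
  have hψC : ∀ x : C, ψ (algebraMap C C1 x) = g (algebraMap C O x) := fun x => by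
    rw [IsScalarTower.algebraMap_apply C A' C1, hψ, ← IsScalarTower.algebraMap_apply C A' Pl,
      IsScalarTower.algebraMap_apply C O Pl]
    rfl
  refine ⟨C1, inferInstance, inferInstance, IsScalarTower.toAlgHom Rh A C1, IsScalarTower.toAlgHom Rh C C1, P,
    inferInstance, RingHom.etale_algebraMap.mpr inferInstance, RingHom.etale_algebraMap.mpr hret, ?_, ?_, ?_, ?_⟩
  · ext x
    show ψ (algebraMap A C1 x) ∈ maximalIdeal Pl ↔ _
    rw [hψA, mem_maximalIdeal, mem_nonunits_iff]
    show ¬ IsUnit (algebraMap L Pl (algebraMap A L x)) ↔ _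
    rw [isUnit_map_iff (algebraMap L Pl),
      IsLocalization.AtPrime.isUnit_to_map_iff L Q]
    exact not_not
  · ext x
    show ψ (algebraMap C C1 x) ∈ maximalIdeal Pl ↔ _
    rw [hψC, mem_maximalIdeal, mem_nonunits_iff]
    show ¬ IsUnit (algebraMap O Pl (algebraMap C O x)) ↔ _
    rw [isUnit_map_iff (algebraMap O Pl),
      IsLocalization.AtPrime.isUnit_to_map_iff O PC]
    exact not_not
  · intro z
    obtain ⟨l, hl⟩ := hLs (ψ z)
    obtain ⟨⟨x, s⟩, rfl⟩ := IsLocalization.mk'_surjective Q.primeCompl l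
    refine ⟨x, s, s.2, ?_⟩
    show ψ (z * algebraMap A C1 s - algebraMap A C1 x) ∈ maximalIdeal Pl
    rw [map_sub, map_mul, hψA, hψA, ← IsLocalization.mk'_spec L x s, map_mul, ← sub_mul]
    exact Ideal.mul_mem_right _ _ hl
  · intro z
    obtain ⟨o, ho⟩ := hgres (ψ z)
    obtain ⟨⟨x, s⟩, rfl⟩ := IsLocalization.mk'_surjective PC.primeCompl o
    refine ⟨x, s, s.2, ?_⟩
    show ψ (z * algebraMap C C1 s - algebraMap C C1 x) ∈ maximalIdeal Pl
    rw [map_sub, map_mul, hψC, hψC, ← IsLocalization.mk'_spec O x s, map_mul, ← sub_mul]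
    exact Ideal.mul_mem_right _ _ ho

end Groth.Agent.PopescuLib
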