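import Groth.Agent.PopescuLib.SchemePoint
import Groth.Agent.PopescuLib.HenzGRing
import Mathlib

/-!
# Base change to the completed base at a point
-/

set_option autoImplicit false
set_option linter.style.haveILetI false

universe u

open IsLocalRing TensorProduct

namespace Groth.Agent.PopescuLib

/-- Two local maps out of a completion agreeing on the ring are equal. -/
theorem cpl_hom_ext {R T : Type u} [CommRing R] [IsLocalRing R] [IsNoetherianRing R] [CommRing T] [IsLocalRing T]
    [IsHausdorff (maximalIdeal T) T] (f g : AdicCompletion (maximalIdeal R) R →+* T)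
    (hloc : ∀ r ∈ maximalIdeal R, f (algebraMap R _ r) ∈ maximalIdeal T)
    (h : f.comp (algebraMap R _) = g.comp (algebraMap R _)) : f = g := by
  refine RingHom.ext fun x => sub_eq_zero.mp (IsHausdorff.haus' (I := maximalIdeal T) _ fun n => ?_)
  rw [SModEq.zero, smul_eq_mul, Ideal.mul_top]
  obtain ⟨a, ha⟩ := CplFib6.exists_sub_mem_pow R n x
  have key : ∀ f' : AdicCompletion (maximalIdeal R) R →+* T,
      (∀ r ∈ maximalIdeal R, f' (algebraMap R _ r) ∈ maximalIdeal T) →
        f' x - f' (algebraMap R _ a) ∈ maximalIdeal T ^ n := by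
    intro f' hf'
    rw [← map_sub]
    have h1 := Ideal.mem_map_of_mem f' ha
    rw [Ideal.map_map, Ideal.map_pow] at h1
    exact Ideal.pow_right_mono (Ideal.map_le_iff_le_comap.mpr hf') n h1
  have h2 := key f hloc
  have h3 := key g fun r hr => by
    have := RingHom.congr_fun h r
    simp only [RingHom.comp_apply] at this
    rw [← this]
    exact hloc r hr
  have h4 : f (algebraMap R _ a) = g (algebraMap R _ a) := RingHom.congr_fun h a
  rw [h4] at h2
  have := sub_mem h2 h3
  rwa [sub_sub_sub_cancel_right] at this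

/-- The residue map of a completion. -/
theorem exists_residue_map (R : Type u) [CommRing R] [IsLocalRing R] :
    ∃ κ : AdicCompletion (maximalIdeal R) R →+* ResidueField R,
      ∀ r, κ (algebraMap R _ r) = residue R r := by
  refine ⟨(Ideal.Quotient.factor (show maximalIdeal R ^ 1 ≤ maximalIdeal R by rw [pow_one])).comp
    (AdicCompletion.evalₐ (maximalIdeal R) 1).toRingHom, fun r => ?_⟩
  change Ideal.Quotient.factor (show maximalIdeal R ^ 1 ≤ maximalIdeal R by rw [pow_one]) (AdicCompletion.evalₐ (maximalIdeal R) 1 (algebraMap R _ r)) = _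
  rw [AlgHom.commutes]
  rfl

set_option maxHeartbeats 1000000 in
/-- The point over `P` in the base change to the completed base has the same completion, general form. -/
theorem exists_cpl_iso_baseChange {Λ R B Bh O AL : Type u} [CommRing Λ] [CommRing R] [CommRing B] [CommRing Bh]
    [CommRing O] [CommRing AL] [IsNoetherianRing Λ] [IsLocalRing R] [Algebra Λ R] (ps : Ideal Λ) [ps.IsPrime]
    [IsLocalization.AtPrime R ps] [Algebra Λ B] [Algebra.FiniteType Λ B] (P : Ideal B) [P.IsPrime] [Algebra B O]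
    [IsLocalRing O] [IsLocalization.AtPrime O P] (hP : P.comap (algebraMap Λ B) = ps)
    [Algebra (AdicCompletion (maximalIdeal R) R) Bh] [Algebra.FiniteType (AdicCompletion (maximalIdeal R) R) Bh]
    (inB : B →+* Bh) (hflat : inB.Flat)
    (hcompat : ∀ l, inB (algebraMap Λ B l) =
      algebraMap (AdicCompletion (maximalIdeal R) R) Bh (algebraMap Λ (AdicCompletion (maximalIdeal R) R) l))
    (hgen : Algebra.adjoin (AdicCompletion (maximalIdeal R) R) (Set.range inB) = ⊤)
    (Px : Ideal Bh) [Px.IsPrime] (hB : Px.comap inB = P)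
    [Algebra Bh AL] [IsLocalRing AL] [IsLocalization.AtPrime AL Px] :
    CAlg.IsRegularHom AL (EGA4.Cpl AL) ∧ ∃ e : EGA4.Cpl O ≃+* EGA4.Cpl AL,
      ∀ b, e (algebraMap O _ (algebraMap B O b)) = algebraMap AL _ (algebraMap Bh AL (inB b)) := by
  haveI : IsNoetherianRing R := IsLocalization.isNoetherianRing ps.primeCompl R inferInstance
  haveI : IsNoetherianRing B := Algebra.FiniteType.isNoetherianRing Λ B
  haveI : IsNoetherianRing O := IsLocalization.isNoetherianRing P.primeCompl O inferInstance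
  let Rh := AdicCompletion (maximalIdeal R) R
  have fg : (maximalIdeal R).FG := IsNoetherian.noetherian _
  haveI : IsNoetherianRing Rh := noetherian_completion (maximalIdeal R)
  haveI : IsLocalRing Rh := AdicCompletion.isLocalRing_of_fg fg
  haveI : IsAdicComplete (maximalIdeal Rh) Rh := AdicCompletion.isAdicComplete_of_fg fg
  letI : Algebra Λ O := ((algebraMap B O).comp (algebraMap Λ B)).toAlgebra
  haveI : IsScalarTower Λ B O := IsScalarTower.of_algebraMap_eq' rfl
  have hur : ∀ s : ps.primeCompl, IsUnit (algebraMap Λ O s) := fun s => by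
    rw [IsScalarTower.algebraMap_apply Λ B O]
    exact IsLocalization.map_units O (⟨algebraMap Λ B s, fun h => s.2 (hP ▸ h)⟩ : P.primeCompl)
  let ρ : R →+* O := IsLocalization.lift hur
  have hρ : ∀ l, ρ (algebraMap Λ R l) = algebraMap Λ O l := fun l => IsLocalization.lift_eq hur l
  haveI hρloc : IsLocalHom ρ := ⟨fun r hr => by
    obtain ⟨⟨x, s⟩, rfl⟩ := IsLocalization.mk'_surjective ps.primeCompl r
    dsimp only at hr ⊢
    have h1 : IsUnit (algebraMap Λ O x) := by
      rw [← hρ, ← IsLocalization.mk'_spec R x s, map_mul, hρ]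
      exact hr.mul (hur s)
    rw [IsScalarTower.algebraMap_apply Λ B O, IsLocalization.AtPrime.isUnit_to_map_iff O P] at h1
    rw [IsLocalization.AtPrime.isUnit_mk'_iff R ps]
    exact fun h => h1 (show algebraMap Λ B x ∈ P from Ideal.mem_comap.mp (hP.symm ▸ h))⟩
  haveI : IsNoetherianRing Bh := Algebra.FiniteType.isNoetherianRing Rh Bh
  haveI : IsNoetherianRing AL := IsLocalization.isNoetherianRing Px.primeCompl _ inferInstance
  have hreg : CAlg.IsRegularHom AL (AdicCompletion (maximalIdeal AL) AL) := by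
    haveI : IsLocalization.AtPrime Rh (maximalIdeal Rh) :=
      IsLocalization.self fun x hx => by
        by_contra hn
        exact hx hn
    exact regular_cpl_of_essFiniteType (R := Rh) (maximalIdeal Rh) Rh (CplFib6.isGRing_of_complete Rh) Px
      (IsLocalRing.le_maximalIdeal (Ideal.comap_ne_top _ (Ideal.IsPrime.ne_top inferInstance)))
  refine ⟨hreg, ?_⟩
  letI : Algebra B AL := ((algebraMap Bh AL).comp inB).toAlgebra
  have hBA : ∀ b, algebraMap B AL b = algebraMap Bh AL (inB b) := fun b => rfl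
  have huo : ∀ s : P.primeCompl, IsUnit (algebraMap B AL s) := fun s => by
    rw [hBA]
    exact IsLocalization.map_units AL (⟨inB s, fun h => s.2 (hB ▸ (h : inB s ∈ Px))⟩ : Px.primeCompl)
  let ι : O →+* AL := IsLocalization.lift huo
  letI : Algebra O AL := ι.toAlgebra
  haveI : IsScalarTower B O AL := IsScalarTower.of_algebraMap_eq fun b => (IsLocalization.lift_eq huo b).symm
  haveI hιloc : IsLocalHom (algebraMap O AL) := ⟨fun o ho => by
    obtain ⟨⟨b, s⟩, rfl⟩ := IsLocalization.mk'_surjective P.primeCompl o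
    dsimp only at ho ⊢
    have h1 : IsUnit (algebraMap B AL b) := by
      rw [IsScalarTower.algebraMap_apply B O AL, ← IsLocalization.mk'_spec O b s, map_mul,
        ← IsScalarTower.algebraMap_apply B O AL]
      exact ho.mul (huo s)
    rw [hBA, IsLocalization.AtPrime.isUnit_to_map_iff AL Px] at h1
    rw [IsLocalization.AtPrime.isUnit_mk'_iff O P]
    exact fun h => h1 (show inB b ∈ Px from (hB.symm ▸ h : b ∈ Px.comap inB))⟩
  haveI : Module.Flat B AL := by
    rw [← RingHom.flat_algebraMap_iff]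
    exact RingHom.Flat.comp hflat (RingHom.flat_algebraMap_iff.mpr (IsLocalization.flat AL Px.primeCompl))
  haveI : Module.Flat O AL := (Module.flat_iff_of_isLocalization O P.primeCompl AL).2 inferInstance
  -- residue and ramification
  have hR : ∀ r : R, algebraMap Bh AL (algebraMap Rh Bh (algebraMap R Rh r)) = ι (ρ r) := by
    intro r
    refine RingHom.congr_fun (IsLocalization.ringHom_ext ps.primeCompl
      (j := (algebraMap Bh AL).comp ((algebraMap Rh Bh).comp (algebraMap R Rh)))
      (k := ι.comp ρ) (RingHom.ext fun l => ?_)) r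
    show algebraMap Bh AL (algebraMap Rh Bh (algebraMap R Rh (algebraMap Λ R l))) = ι (ρ (algebraMap Λ R l))
    rw [hρ, ← IsScalarTower.algebraMap_apply Λ R Rh, IsScalarTower.algebraMap_apply Λ B O,
      show ι (algebraMap B O (algebraMap Λ B l)) = algebraMap B AL (algebraMap Λ B l) from IsLocalization.lift_eq huo _,
      hBA, hcompat]
  have hmap : (maximalIdeal O).map (algebraMap O AL) ≤ maximalIdeal AL := ((local_hom_TFAE _).out 0 2).mp hιloc
  have happ : ∀ z : Bh, ∃ o, algebraMap Bh AL z - ι o ∈ (maximalIdeal O).map (algebraMap O AL) := by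
    intro z
    have hz : z ∈ Algebra.adjoin Rh (Set.range inB) := hgen ▸ Algebra.mem_top
    induction hz using Algebra.adjoin_induction with
    | mem x hx =>
      obtain ⟨b, rfl⟩ := hx
      refine ⟨algebraMap B O b, ?_⟩
      rw [show ι (algebraMap B O b) = algebraMap B AL b from IsLocalization.lift_eq huo b, hBA, sub_self]
      exact zero_mem _
    | algebraMap r =>
      obtain ⟨c, hc⟩ := CplFib6.exists_sub_mem_pow R 1 r
      rw [pow_one] at hc
      refine ⟨ρ c, ?_⟩
      have h2 : ((maximalIdeal R).map (algebraMap R Rh)).map ((algebraMap Bh AL).comp (algebraMap Rh Bh)) ≤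
          (maximalIdeal O).map (algebraMap O AL) := by
        rw [Ideal.map_map, Ideal.map_le_iff_le_comap]
        intro x hx
        show algebraMap Bh AL (algebraMap Rh Bh (algebraMap R Rh x)) ∈ (maximalIdeal O).map (algebraMap O AL)
        rw [hR]
        exact Ideal.mem_map_of_mem _ (map_nonunit ρ x hx)
      rw [← hR, ← map_sub, ← map_sub]
      exact h2 (Ideal.mem_map_of_mem _ hc)
    | add x y _ _ hx hy =>
      obtain ⟨ox, hx⟩ := hx
      obtain ⟨oy, hy⟩ := hy
      exact ⟨ox + oy, by rw [map_add, map_add, add_sub_add_comm]; exact add_mem hx hy⟩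
    | mul x y _ _ hx hy =>
      obtain ⟨ox, hx⟩ := hx
      obtain ⟨oy, hy⟩ := hy
      refine ⟨ox * oy, ?_⟩
      rw [map_mul, map_mul, show algebraMap Bh AL x * algebraMap Bh AL y - ι ox * ι oy =
        (algebraMap Bh AL x - ι ox) * algebraMap Bh AL y + ι ox * (algebraMap Bh AL y - ι oy) by ring]
      exact add_mem (Ideal.mul_mem_right _ _ hx) (Ideal.mul_mem_left _ _ hy)
  have hOm : (maximalIdeal O).map (algebraMap O AL) = maximalIdeal AL := by
    refine le_antisymm hmap fun a ha => ?_
    obtain ⟨⟨z, t⟩, rfl⟩ := IsLocalization.mk'_surjective Px.primeCompl a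
    dsimp only at ha ⊢
    obtain ⟨o, ho⟩ := happ z
    have hz : algebraMap Bh AL z ∈ maximalIdeal AL := by
      rw [← IsLocalization.mk'_spec AL z t]
      exact Ideal.mul_mem_right _ _ ha
    have hom : o ∈ maximalIdeal O := by
      have h1 : ι o ∈ maximalIdeal AL := by simpa using sub_mem hz (hmap ho)
      exact fun hu => h1 (hu.map ι)
    rw [IsLocalization.mk'_eq_mul_mk'_one]
    refine Ideal.mul_mem_right _ _ ?_
    have h5 := add_mem ho (show ι o ∈ (maximalIdeal O).map (algebraMap O AL) from Ideal.mem_map_of_mem (algebraMap O AL) hom)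
    rwa [sub_add_cancel] at h5
  have hOs : ∀ a : AL, ∃ o, a - algebraMap O AL o ∈ maximalIdeal AL := by
    intro a
    obtain ⟨⟨z, t⟩, rfl⟩ := IsLocalization.mk'_surjective Px.primeCompl a
    obtain ⟨o, ho⟩ := happ z
    obtain ⟨ot, hot⟩ := happ (t : Bh)
    have hotu : IsUnit ot := by
      by_contra hn
      have h1 : algebraMap Bh AL t ∈ maximalIdeal AL := by
        simpa using add_mem (hmap hot) (show ι ot ∈ maximalIdeal AL from hmap (Ideal.mem_map_of_mem _ hn))
      exact h1 (IsLocalization.map_units AL t)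
    obtain ⟨w, rfl⟩ := hotu
    refine ⟨o * ↑w⁻¹, ?_⟩
    dsimp only
    have ht : IsUnit (algebraMap Bh AL t) := IsLocalization.map_units AL t
    refine (Ideal.mul_unit_mem_iff_mem _ ht).mp ?_
    rw [sub_mul, IsLocalization.mk'_spec, map_mul]
    have h3 : ι ↑w * ι ↑w⁻¹ = 1 := by rw [← map_mul, Units.mul_inv, map_one]
    have e : algebraMap Bh AL z - ι o * ι ↑w⁻¹ * algebraMap Bh AL t =
        (algebraMap Bh AL z - ι o) - ι o * ι ↑w⁻¹ * (algebraMap Bh AL t - ι ↑w) := by
      linear_combination -(ι o) * h3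
    show algebraMap Bh AL z - ι o * ι ↑w⁻¹ * algebraMap Bh AL t ∈ maximalIdeal AL
    rw [e]
    exact sub_mem (hmap ho) (Ideal.mul_mem_left _ _ (hmap hot))
  obtain ⟨_, _, hbij⟩ := exists_cpl_iso O AL hOm hOs
  refine ⟨RingEquiv.ofBijective (algebraMap (EGA4.Cpl O) (EGA4.Cpl AL)) hbij, fun b => ?_⟩
  show algebraMap (EGA4.Cpl O) (EGA4.Cpl AL) (algebraMap O (EGA4.Cpl O) (algebraMap B O b)) = _
  rw [← IsScalarTower.algebraMap_apply O (EGA4.Cpl O) (EGA4.Cpl AL), IsScalarTower.algebraMap_apply O AL (EGA4.Cpl AL),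
    ← IsScalarTower.algebraMap_apply B O AL, hBA]


set_option maxHeartbeats 1000000 in
/-- The point over `P` in the base change to the completed base. -/
theorem exists_cpl_transfer {Λ R B O : Type u} [CommRing Λ] [CommRing R] [CommRing B] [CommRing O]
    [IsNoetherianRing Λ] [IsLocalRing R] [Algebra Λ R] (ps : Ideal Λ) [ps.IsPrime] [IsLocalization.AtPrime R ps]
    [Algebra Λ B] [Algebra.FiniteType Λ B] (P : Ideal B) [P.IsPrime] [Algebra B O] [IsLocalRing O]
    [IsLocalization.AtPrime O P] (hP : P.comap (algebraMap Λ B) = ps) :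
    ∃ (Px : Ideal (AdicCompletion (maximalIdeal R) R ⊗[Λ] B)) (_ : Px.IsPrime) (AL : Type u) (_ : CommRing AL)
      (_ : IsLocalRing AL) (_ : Algebra (AdicCompletion (maximalIdeal R) R ⊗[Λ] B) AL),
      IsLocalization.AtPrime AL Px ∧
      CAlg.IsRegularHom AL (EGA4.Cpl AL) ∧
      Px.comap (Algebra.TensorProduct.includeRight : B →ₐ[Λ] _).toRingHom = P ∧
      (∀ r ∈ maximalIdeal R, (algebraMap R (AdicCompletion (maximalIdeal R) R) r) ⊗ₜ[Λ] (1 : B) ∈ Px) ∧
      (∀ z, ∃ b s : B, s ∉ P ∧ z * (1 ⊗ₜ s) - 1 ⊗ₜ b ∈ Px) ∧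
      ∃ e : EGA4.Cpl O ≃+* EGA4.Cpl AL, ∀ b, e (algebraMap O _ (algebraMap B O b)) =
        algebraMap AL _ (algebraMap (AdicCompletion (maximalIdeal R) R ⊗[Λ] B) AL (1 ⊗ₜ b)) := by
  haveI : IsNoetherianRing R := IsLocalization.isNoetherianRing ps.primeCompl R inferInstance
  haveI : IsNoetherianRing B := Algebra.FiniteType.isNoetherianRing Λ B
  haveI : IsNoetherianRing O := IsLocalization.isNoetherianRing P.primeCompl O inferInstance
  let Rh := AdicCompletion (maximalIdeal R) R
  have fg : (maximalIdeal R).FG := IsNoetherian.noetherian _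
  haveI : IsNoetherianRing Rh := noetherian_completion (maximalIdeal R)
  haveI : IsLocalRing Rh := AdicCompletion.isLocalRing_of_fg fg
  haveI : IsAdicComplete (maximalIdeal Rh) Rh := AdicCompletion.isAdicComplete_of_fg fg
  letI : Algebra Λ O := ((algebraMap B O).comp (algebraMap Λ B)).toAlgebra
  haveI : IsScalarTower Λ B O := IsScalarTower.of_algebraMap_eq' rfl
  have hur : ∀ s : ps.primeCompl, IsUnit (algebraMap Λ O s) := fun s => by
    rw [IsScalarTower.algebraMap_apply Λ B O]
    exact IsLocalization.map_units O (⟨algebraMap Λ B s, fun h => s.2 (hP ▸ h)⟩ : P.primeCompl)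
  let ρ : R →+* O := IsLocalization.lift hur
  have hρ : ∀ l, ρ (algebraMap Λ R l) = algebraMap Λ O l := fun l => IsLocalization.lift_eq hur l
  haveI hρloc : IsLocalHom ρ := ⟨fun r hr => by
    obtain ⟨⟨x, s⟩, rfl⟩ := IsLocalization.mk'_surjective ps.primeCompl r
    dsimp only at hr ⊢
    have h1 : IsUnit (algebraMap Λ O x) := by
      rw [← hρ, ← IsLocalization.mk'_spec R x s, map_mul, hρ]
      exact hr.mul (hur s)
    rw [IsScalarTower.algebraMap_apply Λ B O, IsLocalization.AtPrime.isUnit_to_map_iff O P] at h1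
    rw [IsLocalization.AtPrime.isUnit_mk'_iff R ps]
    exact fun h => h1 (show algebraMap Λ B x ∈ P from Ideal.mem_comap.mp (hP.symm ▸ h))⟩
  obtain ⟨κ, hκ⟩ := exists_residue_map R
  let κO : Rh →+* ResidueField O := (ResidueField.map ρ).comp κ
  have hκO : ∀ r, κO (algebraMap R Rh r) = residue O (ρ r) := fun r => by
    show ResidueField.map ρ (κ _) = _
    rw [hκ]
    rfl
  let θl : Rh →ₐ[Λ] ResidueField O :=
    { toRingHom := κO
      commutes' := fun l => by
        show κO (algebraMap Λ Rh l) = _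
        rw [IsScalarTower.algebraMap_apply Λ R Rh, hκO, hρ, IsScalarTower.algebraMap_apply Λ O (ResidueField O)]
        rfl }
  let θ : Rh ⊗[Λ] B →ₐ[Λ] ResidueField O :=
    Algebra.TensorProduct.lift θl (IsScalarTower.toAlgHom Λ B (ResidueField O)) fun _ _ => Commute.all _ _
  have hθr : ∀ b, θ (1 ⊗ₜ b) = residue O (algebraMap B O b) := fun b => by
    rw [Algebra.TensorProduct.lift_tmul, map_one, one_mul]
    rfl
  let Px : Ideal (Rh ⊗[Λ] B) := RingHom.ker θ
  haveI : Px.IsPrime := RingHom.ker_isPrime _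
  have hB : Px.comap (Algebra.TensorProduct.includeRight : B →ₐ[Λ] _).toRingHom = P := by
    ext b
    show θ (1 ⊗ₜ b) = 0 ↔ _
    rw [hθr, residue_eq_zero_iff, IsLocalization.AtPrime.to_map_mem_maximal_iff O P]
  have hclause : ∀ z, ∃ b s : B, s ∉ P ∧ z * (1 ⊗ₜ s) - 1 ⊗ₜ b ∈ Px := by
    intro z
    obtain ⟨o, ho⟩ := residue_surjective (θ z)
    obtain ⟨⟨b, s⟩, rfl⟩ := IsLocalization.mk'_surjective P.primeCompl o
    refine ⟨b, s, s.2, ?_⟩
    show θ (z * (1 ⊗ₜ (s : B)) - 1 ⊗ₜ b) = 0
    rw [map_sub, map_mul, hθr, hθr, ← ho, ← map_mul, IsLocalization.mk'_spec, sub_self]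
  have hm : ∀ r ∈ maximalIdeal R, (algebraMap R Rh r) ⊗ₜ[Λ] (1 : B) ∈ Px := fun r hr => by
    show θ ((algebraMap R Rh r) ⊗ₜ[Λ] (1 : B)) = 0
    rw [Algebra.TensorProduct.lift_tmul, map_one, mul_one]
    show κO _ = 0
    rw [hκO, residue_eq_zero_iff]
    exact map_nonunit ρ r hr
  haveI : Module.Flat Λ R := IsLocalization.flat R ps.primeCompl
  haveI : Module.Flat R Rh := AdicCompletion.flat_of_isNoetherian _
  haveI : Module.Flat Λ Rh := Module.Flat.trans Λ R Rh
  have h1 : (Algebra.TensorProduct.includeRight : B →ₐ[Λ] Rh ⊗[Λ] B).toRingHom.Flat := by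
    have h2 : (Algebra.TensorProduct.includeRight : B →ₐ[Λ] Rh ⊗[Λ] B).toRingHom =
        (Algebra.TensorProduct.comm Λ B Rh).toRingEquiv.toRingHom.comp (algebraMap B (B ⊗[Λ] Rh)) :=
      RingHom.ext fun b => by simp [Algebra.TensorProduct.algebraMap_apply]
    rw [h2]
    exact RingHom.Flat.comp (RingHom.flat_algebraMap_iff.mpr inferInstance)
      (RingHom.Flat.of_bijective (Algebra.TensorProduct.comm Λ B Rh).toRingEquiv.bijective)
  have hgen : Algebra.adjoin Rh (Set.range (Algebra.TensorProduct.includeRight : B →ₐ[Λ] Rh ⊗[Λ] B).toRingHom) = ⊤ := by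
    refine eq_top_iff.mpr fun z _ => ?_
    induction z using TensorProduct.induction_on with
    | zero => exact zero_mem _
    | add x y hx hy => exact add_mem (hx Algebra.mem_top) (hy Algebra.mem_top)
    | tmul r b =>
      rw [show (r ⊗ₜ[Λ] b : Rh ⊗[Λ] B) = algebraMap Rh (Rh ⊗[Λ] B) r * ((1 : Rh) ⊗ₜ[Λ] b) by
        rw [Algebra.TensorProduct.algebraMap_apply, Algebra.TensorProduct.tmul_mul_tmul, one_mul]; simp]
      exact mul_mem (Subalgebra.algebraMap_mem _ r) (Algebra.subset_adjoin ⟨b, rfl⟩)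
  obtain ⟨hreg, e, he⟩ := exists_cpl_iso_baseChange (O := O) (AL := Localization.AtPrime Px) ps P hP
    (Algebra.TensorProduct.includeRight : B →ₐ[Λ] Rh ⊗[Λ] B).toRingHom h1 (fun l => by
      show (1 : Rh) ⊗ₜ[Λ] algebraMap Λ B l = algebraMap Rh (Rh ⊗[Λ] B) (algebraMap Λ Rh l)
      rw [Algebra.TensorProduct.algebraMap_apply, Algebra.algebraMap_eq_smul_one (A := B),
        ← TensorProduct.smul_tmul, ← Algebra.algebraMap_eq_smul_one]
      rfl) hgen Px hB
  exact ⟨Px, inferInstance, Localization.AtPrime Px, inferInstance, inferInstance, inferInstance, inferInstance,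
    hreg, hB, hm, hclause, e, he⟩

end Groth.Agent.PopescuLib
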