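import Groth.Agent.PopescuLib.HenzGRing
import Groth.Agent.CplFib6.Excellent
import Groth.Agent.FlatLoc6.GeomRed
import Mathlib

/-!
# Excellent discrete valuation rings
-/

set_option autoImplicit false
set_option linter.style.haveILetI false

universe u

open IsLocalRing TensorProduct

namespace Groth.Agent.PopescuLib

variable (R : Type u) [CommRing R] [IsDomain R] [IsDiscreteValuationRing R]

/-- The only prime of the completion over the zero ideal is zero. -/
theorem cpl_prime_over_bot (Q : Ideal (EGA4.Cpl R)) [Q.IsPrime] (hQ : Q.comap (algebraMap R (EGA4.Cpl R)) = ⊥) :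
    Q = ⊥ := by
  haveI := FlatLoc6.isLocalRing_cpl R
  haveI := FlatLoc6.isNoetherianRing_cpl R
  obtain ⟨π, hπ⟩ := IsDiscreteValuationRing.exists_irreducible R
  let ϖ := algebraMap R (EGA4.Cpl R) π
  have hmax : maximalIdeal (EGA4.Cpl R) = Ideal.span {ϖ} := by
    refine (AdicCompletion.maximalIdeal_eq_map_of_fg (IsNoetherian.noetherian (maximalIdeal R))).trans ?_
    exact (congrArg (Ideal.map (algebraMap R (EGA4.Cpl R))) hπ.maximalIdeal_eq).trans
      (by rw [Ideal.map_span, Set.image_singleton])
  have hϖ : ϖ ∉ Q := fun h => hπ.ne_zero (by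
    have h' : π ∈ Q.comap (algebraMap R (EGA4.Cpl R)) := h
    rwa [hQ, Ideal.mem_bot] at h')
  refine Submodule.eq_bot_of_le_smul_of_le_jacobson_bot (maximalIdeal (EGA4.Cpl R)) Q (IsNoetherian.noetherian Q) ?_
    (IsLocalRing.maximalIdeal_le_jacobson _)
  intro x hx
  have hxm : x ∈ maximalIdeal (EGA4.Cpl R) := IsLocalRing.le_maximalIdeal (Ideal.IsPrime.ne_top ‹_›) hx
  rw [hmax, Ideal.mem_span_singleton] at hxm
  obtain ⟨y, rfl⟩ := hxm
  have hy : y ∈ Q := ((Ideal.IsPrime.mem_or_mem ‹Q.IsPrime› hx)).resolve_left hϖ
  rw [smul_eq_mul, hmax]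
  exact Ideal.mul_mem_mul (Ideal.mem_span_singleton_self ϖ) hy

/-- The generic formal fibre is Artinian. -/
theorem isArtinian_generic : IsArtinianRing (EGA4.formalFibre R (⊥ : Ideal R)) := by
  haveI := FlatLoc6.isNoetherianRing_cpl R
  haveI := FlatLoc6.isNoetherianRing_fiber (B := EGA4.Cpl R) (⊥ : Ideal R)
  haveI : Subsingleton (PrimeSpectrum (EGA4.formalFibre R (⊥ : Ideal R))) := by
    refine ⟨fun a b => (PrimeSpectrum.primesOverOrderIsoFiber R (EGA4.Cpl R) (⊥ : Ideal R)).symm.injective (Subtype.ext ?_)⟩
    have key : ∀ c : (⊥ : Ideal R).primesOver (EGA4.Cpl R), c.1 = ⊥ := fun c => by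
      haveI := c.2.1
      exact cpl_prime_over_bot R c.1 c.2.2.over.symm
    rw [key, key]
  haveI : Ring.KrullDimLE 0 (EGA4.formalFibre R (⊥ : Ideal R)) := Ring.krullDimLE_zero_iff.mpr fun I hI => by
    obtain ⟨M, hM, hle⟩ := Ideal.exists_le_maximal I hI.ne_top
    have h := congrArg PrimeSpectrum.asIdeal (Subsingleton.elim (⟨I, hI⟩ : PrimeSpectrum _) ⟨M, hM.isPrime⟩)
    have h' : I = M := h
    exact h' ▸ hM
  exact isArtinianRing_iff_isNoetherianRing_krullDimLE_zero.mpr ⟨inferInstance, inferInstance⟩

/-- A discrete valuation ring with geometrically reduced generic formal fibre has regular completion map. -/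
theorem regular_cpl_of_generic
    (h : Algebra.IsGeometricallyReduced (⊥ : Ideal R).ResidueField (EGA4.formalFibre R (⊥ : Ideal R))) :
    CAlg.IsRegularHom R (EGA4.Cpl R) := by
  haveI := FlatLoc6.isNoetherianRing_cpl R
  haveI := FlatLoc6.faithfullyFlat_cpl R
  haveI := isArtinian_generic R
  refine ⟨inferInstance, fun Q _ => ⟨FlatLoc6.isNoetherianRing_fiber (B := EGA4.Cpl R) Q, fun L _ _ hL => ?_⟩⟩
  haveI := hL
  rcases eq_or_ne Q ⊥ with rfl | hQ
  · let F := EGA4.formalFibre R (⊥ : Ideal R)
    let K := (⊥ : Ideal R).ResidueField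
    haveI : IsArtinianRing (L ⊗[K] F) := by
      haveI : IsArtinianRing (F ⊗[K] L) := IsArtinianRing.of_finite F (F ⊗[K] L)
      exact Function.Surjective.isArtinianRing (f := (Algebra.TensorProduct.comm K F L).toRingEquiv.toRingHom)
        (Algebra.TensorProduct.comm K F L).toRingEquiv.surjective
    haveI : IsReduced (L ⊗[K] F) := by
      haveI : IsReduced (AlgebraicClosure K ⊗[K] F) := (Algebra.isGeometricallyReduced_field_iff K F).mp h
      haveI : Algebra.IsAlgebraic K L := Algebra.IsAlgebraic.of_finite K L
      let ι : L →ₐ[K] AlgebraicClosure K := IsAlgClosed.lift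
      exact isReduced_of_injective (Algebra.TensorProduct.map ι (AlgHom.id K F))
        (Module.Flat.rTensor_preserves_injective_linearMap ι.toLinearMap ι.toRingHom.injective)
    exact isRegularRing_of_artinian_reduced _
  · haveI : Q.IsMaximal := Ideal.IsPrime.isMaximal inferInstance hQ
    have hQm : Q = maximalIdeal R := IsLocalRing.eq_maximalIdeal inferInstance
    let F := Q.Fiber (EGA4.Cpl R)
    have hsurj : Function.Surjective (algebraMap Q.ResidueField F) := by
      intro z
      induction z using TensorProduct.induction_on with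
      | zero => exact ⟨0, map_zero _⟩
      | add x y hx hy =>
        obtain ⟨a, rfl⟩ := hx
        obtain ⟨b, rfl⟩ := hy
        exact ⟨a + b, map_add _ _ _⟩
      | tmul c x =>
        obtain ⟨a, ha⟩ := CplFib6.exists_sub_mem_pow R 1 x
        rw [pow_one] at ha
        have h0 : (1 : Q.ResidueField) ⊗ₜ[R] (x - algebraMap R (EGA4.Cpl R) a) = 0 := by
          refine (Ideal.map_le_iff_le_comap.mpr ?_ :
            (maximalIdeal R).map (algebraMap R (EGA4.Cpl R)) ≤
              RingHom.ker (Algebra.TensorProduct.includeRight : EGA4.Cpl R →ₐ[R] F).toRingHom) ha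
          intro r hr
          show (Algebra.TensorProduct.includeRight : EGA4.Cpl R →ₐ[R] F) (algebraMap R _ r) = 0
          rw [AlgHom.commutes, IsScalarTower.algebraMap_apply R Q.ResidueField F,
            (Ideal.algebraMap_residueField_eq_zero).mpr (hQm ▸ hr), map_zero]
        refine ⟨c * algebraMap R Q.ResidueField a, ?_⟩
        rw [TensorProduct.tmul_sub, sub_eq_zero] at h0
        have h1 : (c ⊗ₜ[R] x : F) = algebraMap Q.ResidueField F c * ((1 : Q.ResidueField) ⊗ₜ[R] x) := by
          rw [Algebra.TensorProduct.algebraMap_apply, Algebra.TensorProduct.tmul_mul_tmul, one_mul]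
          simp
        rw [h1, h0, map_mul]
        congr 1
        rw [← IsScalarTower.algebraMap_apply R Q.ResidueField F]
        exact ((Algebra.TensorProduct.includeRight : EGA4.Cpl R →ₐ[R] F).commutes a).symm
    haveI : Nontrivial F := Module.FaithfullyFlat.rTensor_nontrivial R (EGA4.Cpl R) Q.ResidueField
    let e : Q.ResidueField ≃ₐ[Q.ResidueField] F :=
      AlgEquiv.ofBijective (Algebra.ofId _ _) ⟨RingHom.injective _, hsurj⟩
    let E := ((Algebra.TensorProduct.rid Q.ResidueField Q.ResidueField L).symm.trans
      (Algebra.TensorProduct.congr (AlgEquiv.refl (R := Q.ResidueField) (A₁ := L)) e)).toRingEquiv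
    haveI : IsArtinianRing (L ⊗[Q.ResidueField] F) := Function.Surjective.isArtinianRing (f := E.toRingHom) E.surjective
    haveI : IsReduced (L ⊗[Q.ResidueField] F) := isReduced_of_injective E.symm E.symm.injective
    exact isRegularRing_of_artinian_reduced _

/-- A discrete valuation ring is excellent iff its generic formal fibre is geometrically reduced. -/
theorem dvr_excellent_iff : EGA4.IsExcellent R ↔
    Algebra.IsGeometricallyReduced (⊥ : Ideal R).ResidueField (EGA4.formalFibre R (⊥ : Ideal R)) := by
  constructor
  · rintro ⟨-, -, hG, -⟩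
    haveI : IsNoetherianRing (Localization.AtPrime (maximalIdeal R)) :=
      IsLocalization.isNoetherianRing (maximalIdeal R).primeCompl _ inferInstance
    have h := regular_cpl_of_ringEquiv (IsLocalization.atUnits R (maximalIdeal R).primeCompl
      (fun u hu => IsLocalRing.notMem_maximalIdeal.mp hu) : R ≃ₐ[R] Localization.AtPrime (maximalIdeal R)).symm.toRingEquiv
      (hG.2 (maximalIdeal R))
    exact FlatLoc6.geomReduced_of_geometricallyRegular (h.2 ⊥).2
  · intro h
    haveI := FlatLoc6.isCM_of_isRegularRing R
    refine ⟨inferInstance, S0603.result R, isGRing_of_maximal fun m hm => ?_, fun S _ _ _ => ?_⟩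
    · obtain rfl := IsLocalRing.eq_maximalIdeal hm
      haveI : IsNoetherianRing (Localization.AtPrime (maximalIdeal R)) :=
        IsLocalization.isNoetherianRing (maximalIdeal R).primeCompl _ inferInstance
      exact regular_cpl_of_ringEquiv (IsLocalization.atUnits R (maximalIdeal R).primeCompl
        (fun u hu => IsLocalRing.notMem_maximalIdeal.mp hu) : R ≃ₐ[R] Localization.AtPrime (maximalIdeal R)).toRingEquiv
        (regular_cpl_of_generic R h)
    · refine RegLoc6.isOpen_regular_of_finite_j0 R (fun A' _ _ _ hfin => ?_) S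
      haveI := hfin
      haveI : Algebra.IsIntegral R A' := Algebra.IsIntegral.of_finite R A'
      obtain ⟨π, hπ⟩ := IsDiscreteValuationRing.exists_irreducible R
      by_cases h0 : algebraMap R A' π = 0
      · have hker : RingHom.ker (algebraMap R A') ≠ ⊥ := fun hk => hπ.ne_zero (by
          have : π ∈ RingHom.ker (algebraMap R A') := h0
          rwa [hk, Ideal.mem_bot] at this)
        let P := RingHom.ker (algebraMap R A')
        haveI : P.IsPrime := RingHom.ker_isPrime _
        haveI : P.IsMaximal := Ideal.IsPrime.isMaximal inferInstance hker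
        letI := Ideal.Quotient.field P
        letI : Algebra (R ⧸ P) A' := (RingHom.kerLift (algebraMap R A')).toAlgebra
        haveI : IsScalarTower R (R ⧸ P) A' := IsScalarTower.of_algebraMap_eq fun _ => rfl
        haveI : Module.Finite (R ⧸ P) A' := Module.Finite.of_restrictScalars_finite R _ _
        haveI : Algebra.IsIntegral (R ⧸ P) A' := Algebra.IsIntegral.of_finite _ _
        have hF : IsField A' := isField_of_isIntegral_of_isField' (R := R ⧸ P) (Field.toIsField _)
        letI := hF.toField
        exact ⟨1, one_ne_zero, fun Q _ _ => (isRegularRing_of_artinian_reduced A').isRegularLocalRing_localization Q⟩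
      · refine ⟨algebraMap R A' π, h0, fun Q _ hQ => ?_⟩
        have hQR : Q.comap (algebraMap R A') = ⊥ := by
          by_contra hne
          haveI : (Q.comap (algebraMap R A')).IsMaximal := Ideal.IsPrime.isMaximal inferInstance hne
          exact hQ (show π ∈ Q.comap (algebraMap R A') by
            rw [IsLocalRing.eq_maximalIdeal (‹(Q.comap (algebraMap R A')).IsMaximal›), hπ.maximalIdeal_eq]
            exact Ideal.mem_span_singleton_self π)
        have hQ0 : Q = ⊥ := Ideal.eq_bot_of_comap_eq_bot hQR
        subst hQ0
        haveI : IsField (Localization.AtPrime (⊥ : Ideal A')) := by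
          haveI : IsFractionRing A' (Localization.AtPrime (⊥ : Ideal A')) := by
            have hc : (⊥ : Ideal A').primeCompl = nonZeroDivisors A' := by
              ext x; simp [Ideal.primeCompl, mem_nonZeroDivisors_iff_ne_zero]
            show IsLocalization _ _
            rw [← hc]; infer_instance
          exact (IsFractionRing.toField A').toIsField
        letI := this.toField
        infer_instance

end Groth.Agent.PopescuLib
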