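import Groth.Agent.PopescuLib.Approx
import Groth.Agent.SmoothingLib.Descend
import Mathlib

/-!
# Approximate étale points of smooth algebras, and ind-smoothness of composites with localizations
-/

set_option autoImplicit false
set_option linter.style.haveILetI false

universe u

open TensorProduct IsLocalRing

namespace Groth.Agent.PopescuLib

/-- An ind-smooth algebra over a localization is ind-smooth. -/
theorem indSmooth_of_localization {R : Type u} (L : Type u) {Λ : Type u} [CommRing R] [CommRing L] [CommRing Λ]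
    [Algebra R L] (S : Submonoid R) [IsLocalization S L] [Algebra L Λ] [Algebra R Λ] [IsScalarTower R L Λ]
    (h : Smoothing.IndSmooth L Λ) : Smoothing.IndSmooth R Λ := by
  intro A _ _ hA f
  haveI := hA
  let fL : L ⊗[R] A →ₐ[L] Λ := Algebra.TensorProduct.lift (Algebra.ofId L Λ) f fun _ _ => Commute.all _ _
  obtain ⟨B', _, _, hB', g, k, hgk⟩ := h (L ⊗[R] A) inferInstance fL
  haveI := hB'
  let e : L ⊗[R] Λ →ₐ[L] Λ := Algebra.TensorProduct.lift (Algebra.ofId L Λ) (AlgHom.id R Λ) fun _ _ => Commute.all _ _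
  let inc : Λ →ₐ[R] L ⊗[R] Λ := Algebra.TensorProduct.includeRight
  have hinc : ∀ l : L, inc (algebraMap L Λ l) = algebraMap L (L ⊗[R] Λ) l := fun l => by
    have h1 : inc.toRingHom.comp (algebraMap L Λ) = algebraMap L (L ⊗[R] Λ) := by
      refine IsLocalization.ringHom_ext S (RingHom.ext fun r => ?_)
      show inc (algebraMap L Λ (algebraMap R L r)) = algebraMap L (L ⊗[R] Λ) (algebraMap R L r)
      rw [← IsScalarTower.algebraMap_apply, inc.commutes, ← IsScalarTower.algebraMap_apply]
    exact RingHom.congr_fun h1 l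
  let incL : Λ →ₐ[L] L ⊗[R] Λ := ⟨inc.toRingHom, hinc⟩
  have hcomp : (incL.comp k).comp g = Algebra.TensorProduct.map (AlgHom.id L L) f := by
    rw [AlgHom.comp_assoc, hgk]
    refine AlgHom.ext fun z => ?_
    induction z using TensorProduct.induction_on with
    | zero => simp
    | add a b ha hb => simp only [map_add, ha, hb]
    | tmul l a =>
      show inc (fL (l ⊗ₜ a)) = l ⊗ₜ f a
      simp only [fL, Algebra.TensorProduct.lift_tmul, Algebra.ofId_apply, map_mul, hinc]
      show algebraMap L (L ⊗[R] Λ) l * ((1 : L) ⊗ₜ[R] f a) = l ⊗ₜ f a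
      simp
  obtain ⟨B, _, _, α, β, hβα, s, hs, helem⟩ :=
    SmoothingLib.exists_elementary_factor_of_smooth f S g (incL.comp k) hcomp
  haveI : Algebra.FinitePresentation R B := by
    obtain ⟨P, -, -⟩ := helem
    refine Algebra.FinitePresentation.of_surjective (f := P.hom) P.surj ?_
    show (RingHom.ker P.hom.toRingHom).FG
    rw [P.ker_eq]
    exact Submodule.fg_span (Set.finite_range _)
  have htop : Smoothing.singRad R β = ⊤ := by
    refine Ideal.eq_top_of_isUnit_mem _ (Ideal.le_radical (Ideal.mem_map_of_mem β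
      (SmoothingLib.mem_singularIdeal_of_smooth (SmoothingLib.smooth_and_stablyFree _
        (SmoothingLib.isStrictlyStandard_of_isElementaryStandard helem)).1))) ?_
    rw [β.commutes, IsScalarTower.algebraMap_apply R L Λ]
    exact (IsLocalization.map_units L (⟨s, hs⟩ : S)).map _
  obtain ⟨S', _, _, hS', g', k', hk'⟩ := exists_smooth_of_singRad_eq_top β htop
  exact ⟨S', inferInstance, inferInstance, hS', g'.comp α, k', by rw [← AlgHom.comp_assoc, hk', hβα]⟩

set_option maxHeartbeats 1000000 in
/-- A point of a smooth algebra in a henselian local ring is approximated by étale points. -/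
theorem exists_etale_point {R B T : Type u} [CommRing R] [CommRing B] [Algebra R B] [Algebra.Smooth R B]
    [CommRing T] [IsLocalRing T] [HenselianRing T (maximalIdeal T)] [Algebra R T] (h : B →ₐ[R] T) {N : ℕ}
    (hN : 0 < N)
    (happ : ∀ (l : ℕ) (t : Fin l → T), ∃ (R₀ : Type u) (_ : CommRing R₀) (_ : Algebra R R₀), Algebra.Etale R R₀ ∧
      ∃ (ι : R₀ →ₐ[R] T) (r : Fin l → R₀), ∀ i, t i - ι (r i) ∈ maximalIdeal T ^ N) :
    ∃ (R' : Type u) (_ : CommRing R') (_ : Algebra R R'), Algebra.Etale R R' ∧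
      ∃ (ψ : R' →ₐ[R] T) (β : B →ₐ[R] R'), ∀ y, h y - ψ (β y) ∈ maximalIdeal T ^ N := by
  classical
  let q : Ideal B := (maximalIdeal T).comap h.toRingHom
  haveI : Algebra.IsSmoothAt R q :=
    (Algebra.smoothLocus_eq_univ_iff.2 (inferInstance : Algebra.FormallySmooth R B)).symm.le
      (Set.mem_univ (⟨q, inferInstance⟩ : PrimeSpectrum B))
  obtain ⟨f, hf, l, _, htower, hstd⟩ := Algebra.IsSmoothAt.exists_isStandardEtale_mvPolynomial (R := R) (p := q)
  haveI := htower
  haveI := hstd
  let P := MvPolynomial (Fin l) R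
  let Bf := Localization.Away f
  have hfu : IsUnit (h f) := IsLocalRing.notMem_maximalIdeal.1 hf
  let hB : Bf →ₐ[R] T := ⟨IsLocalization.Away.lift f (g := h.toRingHom) hfu, fun c => by
    show IsLocalization.Away.lift f (g := h.toRingHom) hfu (algebraMap R Bf c) = _
    rw [IsScalarTower.algebraMap_apply R B Bf, IsLocalization.Away.lift_eq]
    exact h.commutes c⟩
  obtain ⟨R₀, _, _, hR₀, ι, r, hr⟩ := happ l fun i => hB (algebraMap P Bf (MvPolynomial.X i))
  haveI := hR₀
  letI : Algebra P R₀ := (MvPolynomial.aeval r : P →ₐ[R] R₀).toRingHom.toAlgebra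
  haveI : IsScalarTower R P R₀ := IsScalarTower.of_algebraMap_eq fun c => ((MvPolynomial.aeval r).commutes c).symm
  let R' := R₀ ⊗[P] Bf
  haveI : Algebra.Etale R₀ R' := inferInstance
  haveI : Algebra.Etale R R' := Algebra.Etale.comp R R₀ R'
  letI : Algebra R₀ T := ι.toRingHom.toAlgebra
  haveI : IsScalarTower R R₀ T := IsScalarTower.of_algebraMap_eq fun c => (ι.commutes c).symm
  let TN := T ⧸ maximalIdeal T ^ N
  letI : CommRing TN := Ideal.Quotient.commRing _
  let σ₁ : P →+* TN := ((Ideal.Quotient.mk _).comp ι.toRingHom).comp (algebraMap P R₀)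
  letI : Algebra P TN := σ₁.toAlgebra
  have hagree : ∀ v : P, Ideal.Quotient.mk (maximalIdeal T ^ N) (hB (algebraMap P Bf v)) = σ₁ v := by
    have : ((Ideal.Quotient.mk (maximalIdeal T ^ N)).comp hB.toRingHom).comp (algebraMap P Bf) = σ₁ := by
      refine MvPolynomial.ringHom_ext (fun c => ?_) fun i => ?_
      · show Ideal.Quotient.mk _ (hB (algebraMap P Bf (algebraMap R P c))) =
          Ideal.Quotient.mk _ (ι (algebraMap P R₀ (algebraMap R P c)))
        rw [← IsScalarTower.algebraMap_apply, ← IsScalarTower.algebraMap_apply, hB.commutes, ι.commutes]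
      · refine Ideal.Quotient.eq.2 ?_
        show _ - ι ((MvPolynomial.aeval r) (MvPolynomial.X i)) ∈ _
        rw [MvPolynomial.aeval_X]
        exact hr i
    exact RingHom.congr_fun this
  haveI : IsScalarTower P R₀ TN := IsScalarTower.of_algebraMap_eq fun v => rfl
  let gB : Bf →ₐ[P] TN := ⟨(Ideal.Quotient.mk _).comp hB.toRingHom, hagree⟩
  let σ : R' →ₐ[R₀] TN := Algebra.TensorProduct.lift (Algebra.ofId R₀ TN) gB fun _ _ => Commute.all _ _
  haveI : HenselianRing T (maximalIdeal T ^ N) :=
    (Groth.Agent.S0525.result T (maximalIdeal T ^ N) (maximalIdeal T) ((maximalIdeal T).radical_pow (by omega))).2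
      inferInstance
  obtain ⟨ψ, hψ⟩ := Groth.Agent.S0536.result R₀ R' T (maximalIdeal T ^ N) σ
  let β₀ : B →+* R' := (Algebra.TensorProduct.includeRight : Bf →ₐ[P] R').toRingHom.comp (algebraMap B Bf)
  let β : B →ₐ[R] R' := ⟨β₀, fun c => by
    show (Algebra.TensorProduct.includeRight : Bf →ₐ[P] R') (algebraMap B Bf (algebraMap R B c)) = _
    rw [← IsScalarTower.algebraMap_apply R B Bf, IsScalarTower.algebraMap_apply R P Bf, AlgHom.commutes,
      IsScalarTower.algebraMap_apply P R₀ R', ← IsScalarTower.algebraMap_apply R P R₀]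
    rfl⟩
  refine ⟨R', inferInstance, inferInstance, inferInstance, ψ.restrictScalars R, β, fun y => ?_⟩
  refine Ideal.Quotient.eq.1 ?_
  show _ = (Ideal.Quotient.mkₐ R₀ (maximalIdeal T ^ N)).comp ψ ((1 : R₀) ⊗ₜ[P] algebraMap B Bf y)
  rw [hψ]
  show _ = Algebra.TensorProduct.lift _ _ _ ((1 : R₀) ⊗ₜ[P] algebraMap B Bf y)
  rw [Algebra.TensorProduct.lift_tmul, map_one, one_mul]
  show _ = Ideal.Quotient.mk _ (IsLocalization.Away.lift f (g := h.toRingHom) hfu (algebraMap B Bf y))
  rw [IsLocalization.Away.lift_eq]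
  rfl

end Groth.Agent.PopescuLib
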