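import Groth.Agent.PopescuLib.Smooth
import Groth.Agent.SmoothingLib.GeomResolve
import Groth.Agent.GrpSchLib.FieldReduced
import Mathlib

/-!
# Geometrically regular algebras over fields are ind-smooth
-/

set_option autoImplicit false
set_option linter.style.haveILetI false

universe u

open TensorProduct

namespace Groth.Agent.PopescuLib

open SmoothingLib

/-- The local problem over a field can always be resolved. -/
theorem resolvable {k A Λ : Type u} [Field k] [CommRing A] [Algebra k A] [Algebra.FinitePresentation k A]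
    [CommRing Λ] [Algebra k Λ] [IsNoetherianRing Λ] (hreg : CAlg.IsGeometricallyRegular k Λ) (φ : A →ₐ[k] Λ)
    (𝔮 : Ideal Λ) [𝔮.IsPrime] (hmin : 𝔮 ∈ (Smoothing.singRad k φ).minimalPrimes) :
    Smoothing.Resolvable k φ 𝔮 := by
  rcases CharP.exists k with ⟨p, hp⟩
  rcases CharP.char_is_prime_or_zero k p with hprime | rfl
  · haveI := Fact.mk hprime
    exact GeomDiff.resolvable p hreg φ 𝔮 hmin
  · haveI : CharZero k := CharP.charP_to_charZero k
    haveI : IsRegularRing Λ := by
      haveI := hreg k inferInstance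
      exact IsRegularRing.of_ringEquiv (Algebra.TensorProduct.lid k Λ).toRingEquiv
    haveI : IsRegularLocalRing (Localization.AtPrime 𝔮) := IsRegularRing.isRegularLocalRing_localization 𝔮
    haveI : Algebra.IsGeometricallyReduced k 𝔮.ResidueField :=
      (Algebra.isGeometricallyReduced_field_iff k 𝔮.ResidueField).2
        (GrpSchLib.isReduced_tensor_of_perfectField (K := k) (A := AlgebraicClosure k) (B := 𝔮.ResidueField))
    exact RegRes.resolvable φ 𝔮 hmin

/-- Geometrically regular Noetherian algebras over a field are ind-smooth. -/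
theorem indSmooth_field {k Λ : Type u} [Field k] [CommRing Λ] [Algebra k Λ] [IsNoetherianRing Λ]
    (hreg : CAlg.IsGeometricallyRegular k Λ) : Smoothing.IndSmooth k Λ := by
  intro A _ _ hA f
  haveI := hA
  let T : Set (Ideal Λ) := {J | ∃ (B : Type u) (_ : CommRing B) (_ : Algebra k B), Algebra.FinitePresentation k B ∧
    ∃ (g : A →ₐ[k] B) (h : B →ₐ[k] Λ), h.comp g = f ∧ Smoothing.singRad k h = J}
  obtain ⟨J, hJ, hmax⟩ := set_has_maximal_iff_noetherian.2 (inferInstance : IsNoetherian Λ Λ) T
    ⟨_, A, inferInstance, inferInstance, hA, AlgHom.id k A, f, f.comp_id, rfl⟩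
  obtain ⟨B, _, _, hB, g, h, hgh, rfl⟩ := hJ
  haveI := hB
  have htop : Smoothing.singRad k h = ⊤ := by
    by_contra hne
    obtain ⟨𝔮, hq⟩ := Ideal.nonempty_minimalPrimes hne
    haveI := hq.1.1
    obtain ⟨B', _, _, hB', g', h', hgh', hle, hnot⟩ := resolvable hreg h 𝔮 hq
    refine hmax (Smoothing.singRad k h') ⟨B', inferInstance, inferInstance, hB', g'.comp g, h',
      by rw [← AlgHom.comp_assoc, hgh', hgh], rfl⟩ (lt_of_le_of_ne hle fun heq => ?_)
    exact hnot (heq ▸ hq.1.2)
  obtain ⟨S, _, _, hS, g', k', hk'⟩ := exists_smooth_of_singRad_eq_top h htop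
  exact ⟨S, inferInstance, inferInstance, hS, g'.comp g, k', by rw [← AlgHom.comp_assoc, hk', hgh]⟩

end Groth.Agent.PopescuLib
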