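import Groth.Agent.PopescuLib.AffineChart
import Groth.Agent.PopescuLib.CommonEtale
import Groth.Agent.PopescuLib.CplTransfer
import Groth.Agent.PopescuLib.StageDescent
import Mathlib

/-!
# A common étale neighbourhood for a formal isomorphism over different bases, ring form
-/

set_option autoImplicit false
set_option linter.style.haveILetI false

universe u

open IsLocalRing TensorProduct

namespace Groth.Agent.PopescuLib

/-- If a subfield contains the images of a ring then it contains the images of its localization. -/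
theorem mem_subfield_of_localization {Λ R K : Type u} [CommRing Λ] [CommRing R] [Algebra Λ R] [Field K]
    (M : Submonoid Λ) [IsLocalization M R] (f : R →+* K) (F : Subfield K) (h : ∀ l, f (algebraMap Λ R l) ∈ F)
    (r : R) : f r ∈ F := by
  obtain ⟨⟨l, s⟩, rfl⟩ := IsLocalization.mk'_surjective M r
  exact mem_closure_of_eq F (f.comp (algebraMap Λ R)) h _ l s
    ((IsLocalization.map_units R s).map f).ne_zero
    (by rw [RingHom.comp_apply, RingHom.comp_apply, ← map_mul, IsLocalization.mk'_spec])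

set_option maxHeartbeats 1600000 in
/-- The ring-theoretic core. -/
theorem exists_formal_nbhd_core {Λ D R B C O OY : Type u} [CommRing Λ] [CommRing D] [CommRing R] [CommRing B]
    [CommRing C] [CommRing O] [CommRing OY]
    [IsNoetherianRing Λ] [IsLocalRing R] [Algebra Λ R] (ps : Ideal Λ) [ps.IsPrime] [IsLocalization.AtPrime R ps]
    (hG : CAlg.IsRegularHom R (AdicCompletion (maximalIdeal R) R))
    [Algebra.FiniteType ℤ D] [Algebra D (AdicCompletion (maximalIdeal R) R)]
    [Algebra Λ B] [Algebra.FiniteType Λ B] (P : Ideal B) [P.IsPrime] [Algebra B O] [IsLocalRing O]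
    [IsLocalization.AtPrime O P] (hP : P.comap (algebraMap Λ B) = ps)
    [Algebra D C] [Algebra.FiniteType D C]
    (PC : Ideal (AdicCompletion (maximalIdeal R) R ⊗[D] C)) [PC.IsPrime]
    [Algebra (AdicCompletion (maximalIdeal R) R ⊗[D] C) OY] [IsLocalRing OY] [IsLocalization.AtPrime OY PC]
    (hPC : ∀ r ∈ maximalIdeal R,
      algebraMap (AdicCompletion (maximalIdeal R) R) (AdicCompletion (maximalIdeal R) R ⊗[D] C) (algebraMap R _ r) ∈ PC)
    (φ : AdicCompletion (maximalIdeal O) O ≃+* AdicCompletion (maximalIdeal OY) OY)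
    (hφ : ∀ l : Λ, φ (algebraMap O _ (algebraMap B O (algebraMap Λ B l))) =
      algebraMap OY _ (algebraMap (AdicCompletion (maximalIdeal R) R ⊗[D] C) OY
        (algebraMap (AdicCompletion (maximalIdeal R) R) (AdicCompletion (maximalIdeal R) R ⊗[D] C)
          (algebraMap Λ (AdicCompletion (maximalIdeal R) R) l)))) :
    ∃ (A' : Type u) (_ : CommRing A') (_ : Algebra Λ A') (_ : Algebra D A') (W' : Type u) (_ : CommRing W')
      (γ : A' →+* W') (aW : B →+* W') (bW : A' ⊗[D] C →+* W') (K : Type u) (_ : Field K) (χ : W' →+* K),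
      Algebra.Etale Λ A' ∧ aW.Etale ∧ bW.Etale ∧
      bW.comp (algebraMap A' (A' ⊗[D] C)) = γ ∧
      aW.comp (algebraMap Λ B) = γ.comp (algebraMap Λ A') ∧
      RingHom.ker (χ.comp aW) = P ∧
      RingHom.ker (χ.comp (bW.comp (Algebra.TensorProduct.includeRight : C →ₐ[D] A' ⊗[D] C).toRingHom)) =
        PC.comap (Algebra.TensorProduct.includeRight : C →ₐ[D] AdicCompletion (maximalIdeal R) R ⊗[D] C).toRingHom ∧
      RingHom.ker ((χ.comp γ).comp (algebraMap Λ A')) = ps ∧
      (∀ z, χ (γ z) ∈ Subfield.closure (Set.range ((χ.comp γ).comp (algebraMap Λ A')))) ∧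
      (∀ z, χ z ∈ Subfield.closure (Set.range (χ.comp aW))) ∧
      (∀ z, χ z ∈ Subfield.closure (Set.range (χ.comp bW))) := by
  haveI : IsNoetherianRing R := IsLocalization.isNoetherianRing ps.primeCompl R inferInstance
  haveI : IsNoetherianRing D := Algebra.FiniteType.isNoetherianRing ℤ D
  let Rh := AdicCompletion (maximalIdeal R) R
  have fg : (maximalIdeal R).FG := IsNoetherian.noetherian _
  haveI : IsNoetherianRing Rh := noetherian_completion (maximalIdeal R)
  haveI : IsLocalRing Rh := AdicCompletion.isLocalRing_of_fg fg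
  -- transfer of the completion at the point over P
  obtain ⟨Px, _, AL, _, _, _, _, hregL, hB, hm, hclause, e, he⟩ :=
    exists_cpl_transfer (R := R) (O := O) ps P hP
  haveI : IsNoetherianRing (Rh ⊗[Λ] B) := Algebra.FiniteType.isNoetherianRing Rh _
  haveI : IsNoetherianRing AL := IsLocalization.isNoetherianRing Px.primeCompl AL inferInstance
  haveI : IsLocalRing (AdicCompletion (maximalIdeal AL) AL) := FlatLoc6.isLocalRing_cpl AL
  haveI : IsAdicComplete (maximalIdeal (AdicCompletion (maximalIdeal AL) AL)) (AdicCompletion (maximalIdeal AL) AL) :=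
    AdicCompletion.isAdicComplete_of_fg (IsNoetherian.noetherian _)
  letI : Algebra Rh AL := ((algebraMap (Rh ⊗[Λ] B) AL).comp (algebraMap Rh (Rh ⊗[Λ] B))).toAlgebra
  haveI : IsScalarTower Rh (Rh ⊗[Λ] B) AL :=
    IsScalarTower.of_algebraMap_eq (R := Rh) (S := Rh ⊗[Λ] B) (A := AL) fun r => rfl
  letI : Algebra Rh OY := ((algebraMap (Rh ⊗[D] C) OY).comp (algebraMap Rh (Rh ⊗[D] C))).toAlgebra
  haveI : IsScalarTower Rh (Rh ⊗[D] C) OY :=
    IsScalarTower.of_algebraMap_eq (R := Rh) (S := Rh ⊗[D] C) (A := OY) fun r => rfl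
  let ψ : AdicCompletion (maximalIdeal OY) OY ≃+* AdicCompletion (maximalIdeal AL) AL := φ.symm.trans e
  let f1 : Rh →+* AdicCompletion (maximalIdeal AL) AL := (algebraMap AL _).comp (algebraMap Rh AL)
  let f2 : Rh →+* AdicCompletion (maximalIdeal AL) AL :=
    ψ.toRingHom.comp ((algebraMap OY (AdicCompletion (maximalIdeal OY) OY)).comp (algebraMap Rh OY))
  have hf12 : f1 = f2 := by
    refine cpl_hom_ext f1 f2 (fun r hr => ?_) (IsLocalization.ringHom_ext ps.primeCompl (RingHom.ext fun l => ?_))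
    · show algebraMap AL _ (algebraMap (Rh ⊗[Λ] B) AL (algebraMap Rh (Rh ⊗[Λ] B) (algebraMap R Rh r))) ∈ _
      rw [AdicCompletion.maximalIdeal_eq_map_of_fg (IsNoetherian.noetherian (maximalIdeal AL))]
      refine Ideal.mem_map_of_mem _ ((IsLocalization.AtPrime.to_map_mem_maximal_iff AL Px _).2 ?_)
      simpa [Algebra.TensorProduct.algebraMap_apply] using hm r hr
    · show f1 (algebraMap R Rh (algebraMap Λ R l)) = f2 (algebraMap R Rh (algebraMap Λ R l))
      rw [← IsScalarTower.algebraMap_apply Λ R Rh]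
      show algebraMap AL _ (algebraMap (Rh ⊗[Λ] B) AL (algebraMap Rh (Rh ⊗[Λ] B) (algebraMap Λ Rh l))) =
        e (φ.symm (algebraMap OY _ (algebraMap (Rh ⊗[D] C) OY (algebraMap Rh (Rh ⊗[D] C) (algebraMap Λ Rh l)))))
      rw [← hφ, RingEquiv.symm_apply_apply, he, ← IsScalarTower.algebraMap_apply Λ Rh (Rh ⊗[Λ] B),
        ← (Algebra.TensorProduct.includeRight : B →ₐ[Λ] Rh ⊗[Λ] B).commutes l]
      rfl
  haveI : Algebra.FiniteType Rh (Rh ⊗[Λ] B) := inferInstance
  haveI : Algebra.FiniteType Rh (Rh ⊗[D] C) := inferInstance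
  obtain ⟨C1, _, _, a, b, P1, _, ha, hb, hPa, hPb, hcA, hcC⟩ :=
    exists_common_etale (L := AL) (O := OY) Px PC hregL ψ (fun r => (RingHom.congr_fun hf12 r).symm)
  letI : Algebra Λ C1 := ((algebraMap Rh C1).comp (algebraMap Λ Rh)).toAlgebra
  haveI : IsScalarTower Λ Rh C1 := IsScalarTower.of_algebraMap_eq' rfl
  letI : Algebra D C1 := ((algebraMap Rh C1).comp (algebraMap D Rh)).toAlgebra
  haveI : IsScalarTower D Rh C1 := IsScalarTower.of_algebraMap_eq' rfl
  haveI : Algebra.FiniteType Rh C1 := by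
    letI := a.toRingHom.toAlgebra
    haveI : IsScalarTower Rh (Rh ⊗[Λ] B) C1 :=
      IsScalarTower.of_algebraMap_eq (R := Rh) (S := Rh ⊗[Λ] B) (A := C1) fun r => (a.commutes r).symm
    haveI : Algebra.Etale (Rh ⊗[Λ] B) C1 := RingHom.etale_algebraMap.mp (by rwa [RingHom.algebraMap_toAlgebra])
    exact Algebra.FiniteType.trans (inferInstance : Algebra.FiniteType Rh (Rh ⊗[Λ] B))
      (inferInstance : Algebra.FiniteType (Rh ⊗[Λ] B) C1)
  haveI : Algebra.FinitePresentation Rh C1 := Algebra.FinitePresentation.of_finiteType.mp inferInstance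
  haveI : Algebra.FinitePresentation Λ B := Algebra.FinitePresentation.of_finiteType.mp inferInstance
  haveI : Algebra.FinitePresentation D C := Algebra.FinitePresentation.of_finiteType.mp inferInstance
  let a0 : B →ₐ[Λ] C1 := (a.restrictScalars Λ).comp Algebra.TensorProduct.includeRight
  let b0 : C →ₐ[D] C1 := (b.restrictScalars D).comp Algebra.TensorProduct.includeRight
  have hla : Algebra.TensorProduct.lift (Algebra.ofId Rh C1) a0 (fun _ _ => Commute.all _ _) = a :=
    Algebra.TensorProduct.ext' fun r x => by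
      show algebraMap Rh C1 r * a ((1 : Rh) ⊗ₜ[Λ] x) = a (r ⊗ₜ[Λ] x)
      rw [← a.commutes, ← map_mul, Algebra.TensorProduct.algebraMap_apply, Algebra.TensorProduct.tmul_mul_tmul]
      rw [one_mul, mul_one]
      rfl
  have hlb : Algebra.TensorProduct.lift (Algebra.ofId Rh C1) b0 (fun _ _ => Commute.all _ _) = b :=
    Algebra.TensorProduct.ext' fun r x => by
      show algebraMap Rh C1 r * b ((1 : Rh) ⊗ₜ[D] x) = b (r ⊗ₜ[D] x)
      rw [← b.commutes, ← map_mul, Algebra.TensorProduct.algebraMap_apply, Algebra.TensorProduct.tmul_mul_tmul]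
      rw [one_mul, mul_one]
      rfl
  obtain ⟨R1, _, _, _, W1, _, _, _, _, _, _, a1, b1, ι, j, hfp, ha1, hb1, hιΛ, hιD, hjι, hja, hjb⟩ :=
    Stage.exists_stage a0 b0 (by rw [hla]; exact ha) (by rw [hlb]; exact hb)
  haveI := hfp
  obtain ⟨A', _, _, hA', π, β, hπ, hβR, hπβ⟩ :=
    exists_etale_algebra_approx (R := Λ) (A := Λ) (B := R1) (L := R) ps.primeCompl hG
      ({ toRingHom := ι, commutes' := fun l => RingHom.congr_fun hιΛ l } : R1 →ₐ[Λ] Rh) 1 le_rfl
  haveI := hA'
  letI : Algebra D A' := (β.comp (algebraMap D R1)).toAlgebra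
  letI : Algebra R1 A' := β.toAlgebra
  haveI : IsScalarTower Λ R1 A' := IsScalarTower.of_algebraMap_eq fun l => (RingHom.congr_fun hβR l).symm
  haveI : IsScalarTower D R1 A' := IsScalarTower.of_algebraMap_eq' rfl
  -- the maps to the stage over A'
  let inW : W1 →ₐ[R1] A' ⊗[R1] W1 := Algebra.TensorProduct.includeRight
  let aW : B →ₐ[Λ] A' ⊗[R1] W1 := (inW.restrictScalars Λ).comp a1
  let bW : C →ₐ[D] A' ⊗[R1] W1 := (inW.restrictScalars D).comp b1
  let bWl : A' ⊗[D] C →ₐ[A'] A' ⊗[R1] W1 :=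
    Algebra.TensorProduct.lift (Algebra.ofId A' _) bW fun _ _ => Commute.all _ _
  have haE : (Algebra.TensorProduct.lift (Algebra.ofId A' (A' ⊗[R1] W1)) aW fun _ _ => Commute.all _ _).toRingHom.Etale :=
    Stage.lift_etale_of_map a1 aW (fun x => rfl) (map_etale_of_etale _ ha1 A')
  have hbE : bWl.toRingHom.Etale := Stage.lift_etale_of_map b1 bW (fun x => rfl) (map_etale_of_etale _ hb1 A')
  have haWE : aW.toRingHom.Etale := by
    have h1 := RingHom.Etale.stableUnderComposition _ _ (includeRight_etale Λ A' B) haE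
    convert h1 using 1
    exact RingHom.ext fun x => by simp [aW, ← Algebra.TensorProduct.one_def]
  -- the point
  let K := P1.ResidueField
  let κ : C1 →+* K := algebraMap C1 K
  have hκ : ∀ c, κ c = 0 ↔ c ∈ P1 := fun c => Ideal.algebraMap_residueField_eq_zero
  let κR : Rh →+* K := κ.comp (algebraMap Rh C1)
  have hκRm : ∀ r ∈ maximalIdeal R, κR (algebraMap R Rh r) = 0 := fun r hr => by
    show κ (algebraMap Rh C1 (algebraMap R Rh r)) = 0
    rw [← a.commutes, hκ]
    show algebraMap Rh (Rh ⊗[Λ] B) (algebraMap R Rh r) ∈ P1.comap a.toRingHom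
    rw [hPa]
    simpa [Algebra.TensorProduct.algebraMap_apply] using hm r hr
  let q1 : R ⧸ maximalIdeal R ^ 1 →+* K :=
    Ideal.Quotient.lift _ (κR.comp (algebraMap R Rh)) fun r hr => hκRm r (by simpa using hr)
  have hq1 : ∀ t, κR t = q1 (AdicCompletion.evalₐ (maximalIdeal R) 1 t) := by
    intro t
    obtain ⟨r, hr⟩ := CplFib6.exists_sub_mem_pow R 1 t
    have h1 : (maximalIdeal R ^ 1).map (algebraMap R Rh) ≤
        RingHom.ker κR ⊓ RingHom.ker (q1.comp (AdicCompletion.evalₐ (maximalIdeal R) 1).toRingHom) := by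
      refine Ideal.map_le_iff_le_comap.mpr fun x hx => ⟨hκRm x (by simpa using hx), ?_⟩
      show q1 (AdicCompletion.evalₐ (maximalIdeal R) 1 (algebraMap R Rh x)) = 0
      rw [AlgHom.commutes]
      exact hκRm x (by simpa using hx)
    obtain ⟨h2, h3⟩ := h1 hr
    have h2' : κR (t - algebraMap R Rh r) = 0 := h2
    have h3' : q1 (AdicCompletion.evalₐ (maximalIdeal R) 1 (t - algebraMap R Rh r)) = 0 := h3
    rw [map_sub, sub_eq_zero] at h2'
    rw [map_sub, map_sub, sub_eq_zero, AlgHom.commutes] at h3'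
    rw [h2', h3']
    rfl
  let ω : A' →+* K := q1.comp π
  have hωβ : ∀ r, ω (β r) = κR (ι r) := fun r => by
    show q1 (π (β r)) = _
    rw [hπβ, hq1]
    rfl
  have hωΛ : ∀ l, ω (algebraMap Λ A' l) = κR (algebraMap Λ Rh l) := fun l => by
    show q1 (π (algebraMap Λ A' l)) = _
    rw [← RingHom.comp_apply π, hπ, IsScalarTower.algebraMap_apply Λ R Rh]
    rfl
  have hω : ∀ z, ∃ t, ω z = κR t := fun z => by
    obtain ⟨r, hr⟩ := Ideal.Quotient.mk_surjective (π z)
    exact ⟨algebraMap R Rh r, by show q1 (π z) = _; rw [← hr]; rfl⟩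
  letI : Algebra R1 K := (ω.comp β).toAlgebra
  let ω' : A' →ₐ[R1] K := { toRingHom := ω, commutes' := fun r => rfl }
  let χ1 : W1 →ₐ[R1] K :=
    { toRingHom := κ.comp j
      commutes' := fun r => by
        show κ (j (algebraMap R1 W1 r)) = ω (β r)
        rw [hωβ, ← RingHom.comp_apply j, hjι]
        rfl }
  let χ : A' ⊗[R1] W1 →+* K := (Algebra.TensorProduct.lift ω' χ1 fun _ _ => Commute.all _ _).toRingHom
  have hχ : ∀ x w, χ (x ⊗ₜ[R1] w) = ω x * κ (j w) := fun x w => Algebra.TensorProduct.lift_tmul ..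
  have hχγ : ∀ x, χ (algebraMap A' (A' ⊗[R1] W1) x) = ω x := fun x => by
    rw [Algebra.TensorProduct.algebraMap_apply, hχ, map_one, map_one, mul_one]
    rfl
  have hχa : ∀ x, χ (aW x) = κ (a ((1 : Rh) ⊗ₜ[Λ] x)) := fun x => by
    show χ ((1 : A') ⊗ₜ[R1] a1 x) = _
    rw [hχ, map_one, one_mul]
    exact congrArg κ (RingHom.congr_fun hja x)
  have hχb : ∀ x, χ (bWl ((1 : A') ⊗ₜ[D] x)) = κ (b ((1 : Rh) ⊗ₜ[D] x)) := fun x => by
    rw [Algebra.TensorProduct.lift_tmul, map_one, one_mul]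
    show χ ((1 : A') ⊗ₜ[R1] b1 x) = _
    rw [hχ, map_one, one_mul]
    exact congrArg κ (RingHom.congr_fun hjb x)
  have hmemR : ∀ (F : Subfield K), (∀ l, κR (algebraMap Λ Rh l) ∈ F) → ∀ t, κR t ∈ F := by
    intro F hF t
    obtain ⟨r, hr⟩ := Ideal.Quotient.mk_surjective (AdicCompletion.evalₐ (maximalIdeal R) 1 t)
    rw [hq1, ← hr]
    show (κR.comp (algebraMap R Rh)) r ∈ F
    refine mem_subfield_of_localization ps.primeCompl (κR.comp (algebraMap R Rh)) F (fun l => ?_) r
    rw [RingHom.comp_apply, ← IsScalarTower.algebraMap_apply Λ R Rh]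
    exact hF l
  have hmemχ : ∀ (F : Subfield K), (∀ t, κR t ∈ F) → (∀ c, κ c ∈ F) → ∀ z, χ z ∈ F := by
    intro F h1 h2 z
    induction z using TensorProduct.induction_on with
    | zero => rw [map_zero]; exact F.zero_mem
    | add x y hx hy => rw [map_add]; exact F.add_mem hx hy
    | tmul x w =>
      rw [hχ]
      obtain ⟨t, ht⟩ := hω x
      exact F.mul_mem (ht ▸ h1 t) (h2 _)
  refine ⟨A', inferInstance, inferInstance, inferInstance, A' ⊗[R1] W1, inferInstance,
    algebraMap A' (A' ⊗[R1] W1), aW.toRingHom, bWl.toRingHom, K, inferInstance, χ, hA', haWE, hbE,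
    RingHom.ext fun x => bWl.commutes x, RingHom.ext fun l => ?_, ?_, ?_, ?_, fun z => ?_, fun z => ?_, fun z => ?_⟩
  · show aW (algebraMap Λ B l) = _
    rw [AlgHom.commutes, IsScalarTower.algebraMap_apply Λ A' (A' ⊗[R1] W1)]
    rfl
  · ext x
    show χ (aW x) = 0 ↔ _
    rw [hχa, hκ, ← hB, Ideal.mem_comap, ← hPa, Ideal.mem_comap]
    rfl
  · ext x
    show χ (bWl ((1 : A') ⊗ₜ[D] x)) = 0 ↔ _
    rw [hχb, hκ, Ideal.mem_comap, ← hPb, Ideal.mem_comap]
    rfl
  · ext l
    show χ (algebraMap A' (A' ⊗[R1] W1) (algebraMap Λ A' l)) = 0 ↔ _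
    rw [hχγ, hωΛ, IsScalarTower.algebraMap_apply Λ R Rh]
    have h1 : RingHom.ker (κR.comp (algebraMap R Rh)) = maximalIdeal R :=
      ((maximalIdeal.isMaximal R).eq_of_le (RingHom.ker_ne_top _) fun r hr => RingHom.mem_ker.mpr (hκRm r hr)).symm
    rw [← RingHom.comp_apply κR, ← RingHom.mem_ker, h1, IsLocalization.AtPrime.to_map_mem_maximal_iff R ps]
  · rw [hχγ]
    obtain ⟨t, ht⟩ := hω z
    rw [ht]
    refine hmemR _ (fun l => ?_) t
    refine Subfield.subset_closure ⟨l, ?_⟩
    show χ (algebraMap A' (A' ⊗[R1] W1) (algebraMap Λ A' l)) = _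
    rw [hχγ, hωΛ]
  · let F := Subfield.closure (Set.range (χ.comp aW.toRingHom))
    have hl : ∀ t, κR t ∈ F := hmemR F fun l => Subfield.subset_closure ⟨algebraMap Λ B l, by
      show χ (aW (algebraMap Λ B l)) = _
      rw [AlgHom.commutes, IsScalarTower.algebraMap_apply Λ A' (A' ⊗[R1] W1), hχγ, hωΛ]⟩
    have hA : ∀ z, κ (a z) ∈ F := by
      intro z
      obtain ⟨x, s, hs, hz⟩ := hclause z
      refine mem_closure_of_eq F (χ.comp aW.toRingHom) (fun x => Subfield.subset_closure ⟨x, rfl⟩) _ x s ?_ ?_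
      · show χ (aW s) ≠ 0
        rw [hχa, Ne, hκ]
        exact fun h => hs (by rw [← hB, ← hPa]; exact h)
      · show κ (a z) * χ (aW s) = χ (aW x)
        rw [hχa, hχa, ← map_mul, ← map_mul, ← sub_eq_zero, ← map_sub, ← map_sub, hκ]
        show _ ∈ P1.comap a.toRingHom
        rw [hPa]
        exact hz
    refine hmemχ F hl (fun c => ?_) z
    obtain ⟨x, s, hs, hz⟩ := hcA c
    refine mem_closure_of_eq F (κ.comp a.toRingHom) hA _ x s ?_ ?_
    · show κ (a s) ≠ 0
      rw [Ne, hκ]
      exact fun h => hs (by rw [← hPa]; exact h)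
    · show κ c * κ (a s) = κ (a x)
      rw [← map_mul, ← sub_eq_zero, ← map_sub, hκ]
      exact hz
  · let F := Subfield.closure (Set.range (χ.comp bWl.toRingHom))
    have hl : ∀ t, κR t ∈ F := hmemR F fun l => Subfield.subset_closure
      ⟨algebraMap A' (A' ⊗[D] C) (algebraMap Λ A' l), by
        show χ (bWl (algebraMap A' (A' ⊗[D] C) (algebraMap Λ A' l))) = _
        rw [AlgHom.commutes, hχγ, hωΛ]⟩
    have hA : ∀ z, κ (b z) ∈ F := by
      intro z
      induction z using TensorProduct.induction_on with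
      | zero => rw [map_zero, map_zero]; exact F.zero_mem
      | add x y hx hy => rw [map_add, map_add]; exact F.add_mem hx hy
      | tmul t x =>
        rw [show (t ⊗ₜ[D] x : Rh ⊗[D] C) = algebraMap Rh (Rh ⊗[D] C) t * ((1 : Rh) ⊗ₜ[D] x) by
          rw [Algebra.TensorProduct.algebraMap_apply, Algebra.TensorProduct.tmul_mul_tmul, one_mul]; simp,
          map_mul, map_mul, AlgHom.commutes, ← hχb]
        exact F.mul_mem (hl t) (Subfield.subset_closure ⟨_, rfl⟩)
    refine hmemχ F hl (fun c => ?_) z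
    obtain ⟨x, s, hs, hz⟩ := hcC c
    refine mem_closure_of_eq F (κ.comp b.toRingHom) hA _ x s ?_ ?_
    · show κ (b s) ≠ 0
      rw [Ne, hκ]
      exact fun h => hs (by rw [← hPb]; exact h)
    · show κ c * κ (b s) = κ (b x)
      rw [← map_mul, ← sub_eq_zero, ← map_sub, hκ]
      exact hz

end Groth.Agent.PopescuLib
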