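import Groth.Agent.PopescuLib.HenzGRing
import Groth.Agent.SmoothReg.GeomRegular
import Groth.Agent.CplFib6.GRingStable
import Mathlib

/-!
# The G-ring property through finite free algebras
-/

set_option autoImplicit false
set_option linter.style.haveILetI false

universe u

open IsLocalRing TensorProduct
open Groth.Agent.FlatLoc6

namespace Groth.Agent.PopescuLib

/-- Regularity of a local ring descends along flat maps. -/
theorem isRegularLocalRing_descend (T B : Type u) [CommRing T] [CommRing B] [Algebra T B] [IsNoetherianRing T]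
    [IsRegularRing B] [Module.Flat T B] (q : Ideal T) [q.IsPrime] (q' : Ideal B) [q'.IsPrime] [q'.LiesOver q] :
    IsRegularLocalRing (Localization.AtPrime q) := by
  letI := Localization.AtPrime.algebraOfLiesOver q q'
  haveI : IsLocalHom (algebraMap (Localization.AtPrime q) (Localization.AtPrime q')) :=
    Localization.isLocalHom_localRingHom q q' (algebraMap T B) _
  haveI : Module.Flat (Localization.AtPrime q) (Localization.AtPrime q') :=
    (Module.flat_iff_of_isLocalization (Localization.AtPrime q) q.primeCompl _).mpr (Module.Flat.trans T B _)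
  haveI := IsRegularRing.isRegularLocalRing_localization (R := B) q'
  exact RegLoc6.isRegularLocalRing_of_flat (B := Localization.AtPrime q')

/-- Finitely many integral elements lie in the image of a finite free algebra. -/
theorem exists_finiteFree_cover (C : Type u) [CommRing C] (L : Type u) [Field L] [Algebra C L] (s : Finset L)
    (hs : ∀ x ∈ s, IsIntegral C x) :
    ∃ (S : Type u) (_ : CommRing S) (_ : Algebra C S) (π : S →ₐ[C] L),
      Module.Finite C S ∧ Module.Free C S ∧ ∀ x ∈ s, x ∈ π.range := by
  classical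
  induction s using Finset.induction with
  | empty => exact ⟨C, inferInstance, inferInstance, Algebra.ofId C L, inferInstance, inferInstance, by simp⟩
  | insert x s hx ih =>
    obtain ⟨S, _, _, π, hfin, hfree, hmem⟩ := ih fun y hy => hs y (Finset.mem_insert_of_mem hy)
    haveI := hfin
    haveI := hfree
    obtain ⟨f, hf, hfx⟩ := hs x (Finset.mem_insert_self x s)
    have hg : (f.map (algebraMap C S)).Monic := hf.map _
    let S' := AdjoinRoot (f.map (algebraMap C S))
    haveI : Module.Finite S S' := hg.finite_adjoinRoot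
    haveI : Module.Free S S' := Module.Free.of_basis (AdjoinRoot.powerBasis' hg).basis
    haveI : Module.Finite C S' := Module.Finite.trans S S'
    haveI : Module.Free C S' := Module.Free.trans (R := C) (S := S) (M := S')
    have he : (f.map (algebraMap C S)).eval₂ π.toRingHom x = 0 := by
      rw [Polynomial.eval₂_map, π.toRingHom_eq_coe, π.comp_algebraMap]
      exact hfx
    refine ⟨S', inferInstance, inferInstance,
      { toRingHom := AdjoinRoot.lift π.toRingHom x he
        commutes' := fun c => by
          show AdjoinRoot.lift π.toRingHom x he (algebraMap C S' c) = _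
          rw [IsScalarTower.algebraMap_apply C S S', AdjoinRoot.algebraMap_eq, AdjoinRoot.lift_of]
          exact π.commutes c }, inferInstance, inferInstance, fun y hy => ?_⟩
    rcases Finset.mem_insert.mp hy with rfl | hy
    · exact ⟨AdjoinRoot.root _, AdjoinRoot.lift_root he⟩
    · obtain ⟨z, rfl⟩ := hmem y hy
      exact ⟨AdjoinRoot.of _ z, AdjoinRoot.lift_of he⟩

/-- A finite extension of a residue field is the residue field of a prime of a finite free algebra. -/
theorem exists_finiteFree_point (C : Type u) [CommRing C] (q : Ideal C) [q.IsPrime] (L : Type u) [Field L]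
    [Algebra q.ResidueField L] [Module.Finite q.ResidueField L] [Algebra C L] [IsScalarTower C q.ResidueField L] :
    ∃ (S : Type u) (_ : CommRing S) (_ : Algebra C S) (π : S →ₐ[C] L),
      Module.Finite C S ∧ Module.Free C S ∧ ∀ z : L, ∃ a b : S, π b ≠ 0 ∧ z * π b = π a := by
  classical
  letI : Algebra (C ⧸ q) L := ((algebraMap q.ResidueField L).comp (algebraMap (C ⧸ q) q.ResidueField)).toAlgebra
  haveI : IsScalarTower (C ⧸ q) q.ResidueField L := IsScalarTower.of_algebraMap_eq' rfl
  haveI : IsScalarTower C (C ⧸ q) L := IsScalarTower.of_algebraMap_eq fun c => by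
    show algebraMap C L c = algebraMap q.ResidueField L (algebraMap (C ⧸ q) q.ResidueField (algebraMap C (C ⧸ q) c))
    rw [← IsScalarTower.algebraMap_apply C (C ⧸ q) q.ResidueField, ← IsScalarTower.algebraMap_apply]
  let b := Module.finBasis q.ResidueField L
  obtain ⟨y, hy0, hy⟩ := exists_integral_multiples (A := C ⧸ q) (K := q.ResidueField) (L := L)
    (Finset.univ.image fun i => b i)
  haveI : Algebra.IsIntegral C (C ⧸ q) := Algebra.IsIntegral.of_finite C (C ⧸ q)
  obtain ⟨S, _, _, π, hfin, hfree, hmem⟩ := exists_finiteFree_cover C L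
    ((Finset.univ.image fun i => b i).image fun x => y • x) (fun x hx => by
      obtain ⟨x, hx', rfl⟩ := Finset.mem_image.mp hx
      exact isIntegral_trans (R := C) _ (hy x hx'))
  refine ⟨S, inferInstance, inferInstance, π, hfin, hfree, fun z => ?_⟩
  have hy' : algebraMap (C ⧸ q) L y ≠ 0 := by
    rw [IsScalarTower.algebraMap_apply (C ⧸ q) q.ResidueField L, map_ne_zero]
    exact (map_ne_zero_iff _ (IsFractionRing.injective (C ⧸ q) q.ResidueField)).mpr hy0
  obtain ⟨y₀, hy₀⟩ := Ideal.Quotient.mk_surjective y
  have hπy : π (algebraMap C S y₀) = algebraMap (C ⧸ q) L y := by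
    rw [π.commutes, IsScalarTower.algebraMap_apply C (C ⧸ q) L, Ideal.Quotient.algebraMap_eq, hy₀]
  have hz : z ∈ Submodule.span q.ResidueField (Set.range b) := b.mem_span z
  induction hz using Submodule.span_induction with
  | mem x hx =>
    obtain ⟨i, rfl⟩ := hx
    obtain ⟨a, ha⟩ := hmem (y • b i) (Finset.mem_image.mpr ⟨b i, by simp, rfl⟩)
    refine ⟨a, algebraMap C S y₀, by rwa [hπy], ?_⟩
    rw [hπy, mul_comm, ← Algebra.smul_def]
    exact ha.symm
  | zero => exact ⟨0, 1, by simp, by simp⟩
  | add x x' _ _ h h' =>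
    obtain ⟨a, d, hd, e⟩ := h
    obtain ⟨a', d', hd', e'⟩ := h'
    refine ⟨a * d' + a' * d, d * d', by simp [hd, hd'], ?_⟩
    rw [map_add, map_mul, map_mul, map_mul, ← e, ← e']
    ring
  | smul k x _ h =>
    obtain ⟨a, d, hd, e⟩ := h
    obtain ⟨k₁, k₂, hk₂, rfl⟩ := IsFractionRing.div_surjective (C ⧸ q) k
    obtain ⟨k₁, rfl⟩ := Ideal.Quotient.mk_surjective k₁
    obtain ⟨k₂, rfl⟩ := Ideal.Quotient.mk_surjective k₂
    have hk : ∀ c : C, π (algebraMap C S c) =
        algebraMap q.ResidueField L (algebraMap (C ⧸ q) q.ResidueField (Ideal.Quotient.mk q c)) := fun c => by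
      rw [π.commutes, IsScalarTower.algebraMap_apply C (C ⧸ q) L]
      rfl
    have hne : π (algebraMap C S k₂) ≠ 0 := by
      rw [hk, map_ne_zero]
      exact (map_ne_zero_iff _ (IsFractionRing.injective (C ⧸ q) q.ResidueField)).mpr
        (nonZeroDivisors.ne_zero hk₂)
    refine ⟨algebraMap C S k₁ * a, algebraMap C S k₂ * d, by simp only [map_mul]; exact mul_ne_zero hne hd, ?_⟩
    rw [map_mul, map_mul, ← e, Algebra.smul_def, map_div₀, ← hk, ← hk]
    field_simp

/-- A field tensor with the completion, from the formal fibre at the kernel. -/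
theorem regular_tensor_cpl_of_fibre {A : Type u} [CommRing A] [IsLocalRing A] [IsNoetherianRing A] (L : Type u)
    [Field L] [Algebra A L] (T : Ideal A) [T.IsPrime] (hT : RingHom.ker (algebraMap A L) = T)
    (hfrac : ∀ z : L, ∃ a b : A, algebraMap A L b ≠ 0 ∧ z * algebraMap A L b = algebraMap A L a)
    (h : IsRegularRing (EGA4.formalFibre A T)) : IsRegularRing (L ⊗[A] EGA4.Cpl A) := by
  let ψ : T.ResidueField →+* L := Ideal.ResidueField.lift T (algebraMap A L) hT.ge fun b hb =>
    IsUnit.mk0 _ fun h0 => hb (by rw [← hT]; exact h0)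
  have hψ : ∀ a, ψ (algebraMap A T.ResidueField a) = algebraMap A L a := fun a =>
    Ideal.ResidueField.lift_algebraMap _ _ _ _ a
  let ψₐ : T.ResidueField →ₐ[A] L := { toRingHom := ψ, commutes' := hψ }
  have hψb : Function.Bijective ψₐ := ⟨ψ.injective, fun z => by
    obtain ⟨a, b, hb, hz⟩ := hfrac z
    refine ⟨algebraMap A T.ResidueField a / algebraMap A T.ResidueField b, ?_⟩
    show ψ _ = z
    rw [map_div₀, hψ, hψ, ← hz, mul_div_assoc, div_self hb, mul_one]⟩
  haveI := h
  exact IsRegularRing.of_ringEquiv (R := T.ResidueField ⊗[A] EGA4.Cpl A)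
    (Algebra.TensorProduct.congr (AlgEquiv.ofBijective ψₐ hψb)
      (AlgEquiv.refl (R := A) (A₁ := EGA4.Cpl A))).toRingEquiv

/-- Every element of the completion at a prime is close to a fraction. -/
theorem exists_mul_sub_mem_cpl {C : Type u} [CommRing C] [IsNoetherianRing C] (p : Ideal C) [p.IsPrime]
    (t : EGA4.Cpl (Localization.AtPrime p)) :
    ∃ c u : C, u ∉ p ∧ algebraMap C (EGA4.Cpl (Localization.AtPrime p)) u * t -
      algebraMap C (EGA4.Cpl (Localization.AtPrime p)) c ∈ p.map (algebraMap C (EGA4.Cpl (Localization.AtPrime p))) := by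
  haveI : IsNoetherianRing (Localization.AtPrime p) := IsLocalization.isNoetherianRing p.primeCompl _ inferInstance
  obtain ⟨z, hz⟩ := CplFib6.exists_sub_mem_pow (Localization.AtPrime p) 1 t
  rw [pow_one] at hz
  replace hz := (congrArg (Ideal.map (algebraMap (Localization.AtPrime p) (EGA4.Cpl (Localization.AtPrime p))))
    (Localization.AtPrime.map_eq_maximalIdeal (I := p))).symm.le hz
  rw [Ideal.map_map, ← IsScalarTower.algebraMap_eq] at hz
  obtain ⟨⟨c, u⟩, rfl⟩ := IsLocalization.mk'_surjective p.primeCompl z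
  refine ⟨c, u, u.2, ?_⟩
  have e : algebraMap C (EGA4.Cpl (Localization.AtPrime p)) c = algebraMap C (EGA4.Cpl (Localization.AtPrime p)) u *
      algebraMap (Localization.AtPrime p) (EGA4.Cpl (Localization.AtPrime p)) (IsLocalization.mk' _ c u) := by
    rw [IsScalarTower.algebraMap_apply C (Localization.AtPrime p) (EGA4.Cpl (Localization.AtPrime p)) u,
      ← map_mul, IsLocalization.mk'_spec', ← IsScalarTower.algebraMap_apply]
  rw [e, ← mul_sub]
  exact Ideal.mul_mem_left _ _ hz

/-- Regularity of a base change at a prime from a faithfully flat algebra of the local ring below it. -/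
theorem isRegularLocalRing_of_flat_cover {S L E EM D : Type u} [CommRing S] [CommRing L] [CommRing E] [CommRing EM]
    [CommRing D] [Algebra S E] [Algebra S L] [Algebra S D] [Algebra E EM] [Algebra EM D] [Algebra E D]
    [IsScalarTower E EM D] [IsScalarTower S E D] (M : Ideal E) [M.IsPrime] [IsLocalization.AtPrime EM M]
    [Module.FaithfullyFlat EM D] [IsNoetherianRing (E ⊗[S] L)] [IsRegularRing (L ⊗[S] D)]
    (Q : Ideal (E ⊗[S] L)) [Q.IsPrime] (hqM : Q.comap (algebraMap E (E ⊗[S] L)) ≤ M) :
    IsRegularLocalRing (Localization.AtPrime Q) := by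
  haveI : IsRegularRing ((E ⊗[S] L) ⊗[E] D) := IsRegularRing.of_ringEquiv (R := L ⊗[S] D)
    ((Algebra.TensorProduct.comm S L D).toRingEquiv.trans
      ((Algebra.TensorProduct.cancelBaseChange S E E D L).symm.toRingEquiv.trans
        (Algebra.TensorProduct.comm E D (E ⊗[S] L)).toRingEquiv))
  haveI : Module.Flat E EM := IsLocalization.flat EM M.primeCompl
  haveI : Module.Flat E D := Module.Flat.trans E EM D
  let κ := Q.ResidueField
  have huκ : ∀ u : M.primeCompl, IsUnit (algebraMap E κ u) := fun u => IsUnit.mk0 _ fun h0 => u.2 (hqM (by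
    rw [IsScalarTower.algebraMap_apply E (E ⊗[S] L) κ, Ideal.algebraMap_residueField_eq_zero] at h0
    exact h0))
  letI : Algebra EM κ := (IsLocalization.lift huκ).toAlgebra
  haveI : IsScalarTower E EM κ := IsScalarTower.of_algebraMap_eq fun x => (IsLocalization.lift_eq huκ x).symm
  haveI : Nontrivial (κ ⊗[EM] D) := Module.FaithfullyFlat.rTensor_nontrivial EM D κ
  let f : (E ⊗[S] L) ⊗[E] D →ₐ[E] κ ⊗[EM] D :=
    Algebra.TensorProduct.lift
      ((Algebra.TensorProduct.includeLeft : κ →ₐ[E] κ ⊗[EM] D).comp (IsScalarTower.toAlgHom E (E ⊗[S] L) κ))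
      ((Algebra.TensorProduct.includeRight : D →ₐ[EM] κ ⊗[EM] D).restrictScalars E)
      fun _ _ => Commute.all _ _
  obtain ⟨m0, hm0⟩ := Ideal.exists_maximal (κ ⊗[EM] D)
  haveI := hm0
  let Q' : Ideal ((E ⊗[S] L) ⊗[E] D) := m0.comap f.toRingHom
  haveI : Q'.IsPrime := Ideal.comap_isPrime _ _
  haveI : Q'.LiesOver Q := ⟨by
    ext x
    show x ∈ Q ↔ f (x ⊗ₜ[E] (1 : D)) ∈ m0
    rw [Algebra.TensorProduct.lift_tmul, map_one, mul_one]
    show _ ↔ algebraMap κ (κ ⊗[EM] D) (algebraMap (E ⊗[S] L) κ x) ∈ m0
    rw [← Ideal.mem_comap,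
      Ideal.eq_bot_of_prime (m0.comap (algebraMap κ (κ ⊗[EM] D))), Ideal.mem_bot,
      Ideal.algebraMap_residueField_eq_zero]⟩
  exact isRegularLocalRing_descend (E ⊗[S] L) ((E ⊗[S] L) ⊗[E] D) Q Q'

set_option maxHeartbeats 1600000 in
/-- Base changed completions are regular when the formal fibres of the finite algebra are. -/
theorem regular_tensor_of_cover (C S : Type u) [CommRing C] [IsNoetherianRing C] [CommRing S] [Algebra C S]
    [Module.Finite C S] (p : Ideal C) [p.IsPrime] (L : Type u) [Field L] [Algebra C L] [Algebra S L]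
    [IsScalarTower C S L] [Algebra.EssFiniteType S L]
    (hfrac : ∀ z : L, ∃ a b : S, algebraMap S L b ≠ 0 ∧ z * algebraMap S L b = algebraMap S L a)
    (h : ∀ (n : Ideal S) [n.IsPrime] (T : Ideal (Localization.AtPrime n)) [T.IsPrime],
      IsRegularRing (EGA4.formalFibre (Localization.AtPrime n) T)) :
    IsRegularRing (L ⊗[C] EGA4.Cpl (Localization.AtPrime p)) := by
  haveI : IsNoetherianRing (Localization.AtPrime p) := IsLocalization.isNoetherianRing p.primeCompl _ inferInstance
  let Ch := EGA4.Cpl (Localization.AtPrime p)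
  haveI := isNoetherianRing_cpl (Localization.AtPrime p)
  haveI := isLocalRing_cpl (Localization.AtPrime p)
  haveI := (faithfullyFlat_cpl (Localization.AtPrime p)).toFlat
  haveI : Module.Flat C (Localization.AtPrime p) := IsLocalization.flat _ p.primeCompl
  haveI : Module.Flat C Ch := Module.Flat.trans C (Localization.AtPrime p) Ch
  haveI : IsNoetherianRing S := Algebra.FiniteType.isNoetherianRing C S
  let E := S ⊗[C] Ch
  haveI : IsNoetherianRing E := by
    haveI : IsNoetherianRing (Ch ⊗[C] S) := Algebra.FiniteType.isNoetherianRing Ch (Ch ⊗[C] S)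
    exact isNoetherianRing_of_ringEquiv _ (Algebra.TensorProduct.comm C Ch S).toRingEquiv
  haveI : IsNoetherianRing (E ⊗[S] L) := by
    haveI := isNoetherianRing_baseChange_ess S E L
    exact isNoetherianRing_of_ringEquiv (L ⊗[S] E) (Algebra.TensorProduct.comm S L E).toRingEquiv
  suffices hT : IsRegularRing (E ⊗[S] L) from
    haveI := hT
    IsRegularRing.of_ringEquiv (R := E ⊗[S] L) ((Algebra.TensorProduct.comm S E L).toRingEquiv.trans
      (Algebra.TensorProduct.cancelBaseChange C S L L Ch).toRingEquiv)
  rw [isRegularRing_iff]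
  intro Q _
  let qE := Q.comap (algebraMap E (E ⊗[S] L))
  haveI : qE.IsPrime := Ideal.comap_isPrime _ _
  obtain ⟨M, hMmax, hqM⟩ := Ideal.exists_le_maximal qE (Ideal.IsPrime.ne_top ‹_›)
  haveI := hMmax
  -- the completed base is integral below
  let inC : Ch →+* E := (Algebra.TensorProduct.includeRight : Ch →ₐ[C] E).toRingHom
  have hMC : M.comap inC = maximalIdeal Ch := by
    letI : Algebra Ch E := inC.toAlgebra
    haveI : IsScalarTower C Ch E := IsScalarTower.of_algebraMap_eq fun c =>
      ((Algebra.TensorProduct.includeRight : Ch →ₐ[C] E).commutes c).symm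
    haveI : Algebra.IsIntegral Ch E := ⟨fun z => by
      induction z using TensorProduct.induction_on with
      | zero => exact isIntegral_zero
      | add a b ha hb => exact ha.add hb
      | tmul s t =>
        rw [show (s ⊗ₜ[C] t : E) = algebraMap S E s * algebraMap Ch E t by
          show _ = (s ⊗ₜ[C] (1 : Ch)) * ((1 : S) ⊗ₜ[C] t)
          rw [Algebra.TensorProduct.tmul_mul_tmul, one_mul, mul_one]]
        exact ((((Algebra.IsIntegral.isIntegral (R := C) s).map (IsScalarTower.toAlgHom C S E))).tower_top
          (A := Ch)).mul isIntegral_algebraMap⟩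
    haveI : (M.comap (algebraMap Ch E)).IsMaximal := Ideal.isMaximal_comap_of_isIntegral_of_isMaximal M
    exact eq_maximalIdeal this
  have hpM : ∀ x ∈ p, algebraMap C E x ∈ M := fun x hx => by
    rw [← (Algebra.TensorProduct.includeRight : Ch →ₐ[C] E).commutes x]
    show algebraMap C Ch x ∈ M.comap inC
    rw [hMC, AdicCompletion.maximalIdeal_eq_map_of_fg (IsNoetherian.noetherian _),
      IsScalarTower.algebraMap_apply C (Localization.AtPrime p) Ch]
    exact Ideal.mem_map_of_mem _ ((IsLocalization.AtPrime.to_map_mem_maximal_iff _ p x).mpr hx)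
  have hMp : ∀ x, algebraMap C E x ∈ M → x ∈ p := fun x hx => by
    rw [← (Algebra.TensorProduct.includeRight : Ch →ₐ[C] E).commutes x] at hx
    have hx' : algebraMap C Ch x ∈ M.comap inC := hx
    rw [hMC, mem_maximalIdeal, mem_nonunits_iff, IsScalarTower.algebraMap_apply C (Localization.AtPrime p) Ch] at hx'
    by_contra hxp
    exact hx' ((IsLocalization.map_units (Localization.AtPrime p) (⟨x, hxp⟩ : p.primeCompl)).map _)
  let n := M.comap (algebraMap S E)
  haveI : n.IsPrime := Ideal.comap_isPrime _ _
  have hπn : ∀ s, algebraMap S L s = 0 → s ∈ n := fun s hs => by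
    refine hqM ?_
    show algebraMap E (E ⊗[S] L) (algebraMap S E s) ∈ Q
    rw [← IsScalarTower.algebraMap_apply S E (E ⊗[S] L),
      ← (Algebra.TensorProduct.includeRight : L →ₐ[S] E ⊗[S] L).commutes s, hs, map_zero]
    exact Q.zero_mem
  let Sn := Localization.AtPrime n
  haveI : IsNoetherianRing Sn := IsLocalization.isNoetherianRing n.primeCompl _ inferInstance
  have huL : ∀ s : n.primeCompl, IsUnit (algebraMap S L s) := fun s => IsUnit.mk0 _ fun h0 => s.2 (hπn _ h0)
  letI : Algebra Sn L := (IsLocalization.lift huL).toAlgebra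
  haveI : IsScalarTower S Sn L := IsScalarTower.of_algebraMap_eq fun s => (IsLocalization.lift_eq huL s).symm
  haveI : (RingHom.ker (algebraMap Sn L)).IsPrime := RingHom.ker_isPrime _
  have hreg1 : IsRegularRing (L ⊗[Sn] EGA4.Cpl Sn) :=
    regular_tensor_cpl_of_fibre L (RingHom.ker (algebraMap Sn L)) rfl (fun z => by
      obtain ⟨a, b, hb, hz⟩ := hfrac z
      exact ⟨algebraMap S Sn a, algebraMap S Sn b, by rwa [← IsScalarTower.algebraMap_apply],
        by rwa [← IsScalarTower.algebraMap_apply, ← IsScalarTower.algebraMap_apply]⟩) (h n _)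
  -- the local ring of E at M has the same completion
  let EM := Localization.AtPrime M
  haveI : IsNoetherianRing EM := IsLocalization.isNoetherianRing M.primeCompl _ inferInstance
  haveI : M.LiesOver n := ⟨rfl⟩
  letI := Localization.AtPrime.algebraOfLiesOver n M
  haveI := isLocalHom_atPrime n M
  haveI : Module.Flat Sn EM :=
    (Module.flat_iff_of_isLocalization Sn n.primeCompl EM).mpr (Module.Flat.trans S E EM)
  have hkey : ∀ x : E, ∃ (u : C) (s : S), u ∉ p ∧ algebraMap C E u * x - algebraMap S E s ∈ n.map (algebraMap S E) := by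
    intro x
    induction x using TensorProduct.induction_on with
    | zero => exact ⟨1, 0, p.primeCompl.one_mem, by simp⟩
    | add x y hx hy =>
      obtain ⟨u, s, hu, h1⟩ := hx
      obtain ⟨v, t, hv, h2⟩ := hy
      refine ⟨u * v, algebraMap C S v * s + algebraMap C S u * t, p.primeCompl.mul_mem hu hv, ?_⟩
      rw [map_add, map_mul, map_mul, map_mul, ← IsScalarTower.algebraMap_apply C S E,
        ← IsScalarTower.algebraMap_apply C S E,
        show algebraMap C E u * algebraMap C E v * (x + y) - (algebraMap C E v * algebraMap S E s +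
          algebraMap C E u * algebraMap S E t) = algebraMap C E v * (algebraMap C E u * x - algebraMap S E s) +
          algebraMap C E u * (algebraMap C E v * y - algebraMap S E t) by ring]
      exact add_mem (Ideal.mul_mem_left _ _ h1) (Ideal.mul_mem_left _ _ h2)
    | tmul s t =>
      obtain ⟨c, u, hu, ht⟩ := exists_mul_sub_mem_cpl p t
      refine ⟨u, algebraMap C S c * s, hu, ?_⟩
      have h1 : inC (algebraMap C Ch u * t - algebraMap C Ch c) ∈ n.map (algebraMap S E) := by
        have h2 := Ideal.mem_map_of_mem inC ht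
        rw [Ideal.map_map, show inC.comp (algebraMap C Ch) = algebraMap C E from
          (Algebra.TensorProduct.includeRight : Ch →ₐ[C] E).comp_algebraMap,
          IsScalarTower.algebraMap_eq C S E, ← Ideal.map_map] at h2
        refine Ideal.map_mono (Ideal.map_le_iff_le_comap.mpr fun x hx => ?_) h2
        show algebraMap S E (algebraMap C S x) ∈ M
        rw [← IsScalarTower.algebraMap_apply]
        exact hpM x hx
      rw [map_sub, map_mul] at h1
      rw [map_mul, show (s ⊗ₜ[C] t : E) = algebraMap S E s * inC t by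
          show _ = (s ⊗ₜ[C] (1 : Ch)) * ((1 : S) ⊗ₜ[C] t)
          rw [Algebra.TensorProduct.tmul_mul_tmul, one_mul, mul_one],
        ← IsScalarTower.algebraMap_apply C S E,
        ← (Algebra.TensorProduct.includeRight : Ch →ₐ[C] E).commutes u,
        ← (Algebra.TensorProduct.includeRight : Ch →ₐ[C] E).commutes c]
      show inC (algebraMap C Ch u) * (algebraMap S E s * inC t) - inC (algebraMap C Ch c) * algebraMap S E s ∈ _
      rw [show inC (algebraMap C Ch u) * (algebraMap S E s * inC t) - inC (algebraMap C Ch c) * algebraMap S E s =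
        algebraMap S E s * (inC (algebraMap C Ch u) * inC t - inC (algebraMap C Ch c)) by ring]
      exact Ideal.mul_mem_left _ _ h1
  have hnM : n.map (algebraMap S E) ≤ M := Ideal.map_comap_le
  have hm : (maximalIdeal Sn).map (algebraMap Sn EM) = maximalIdeal EM := by
    refine le_antisymm (((local_hom_TFAE (algebraMap Sn EM)).out 0 2).mp ‹_›) ?_
    rw [← Localization.AtPrime.map_eq_maximalIdeal (I := n), Ideal.map_map, ← IsScalarTower.algebraMap_eq,
      IsScalarTower.algebraMap_eq S E EM, ← Ideal.map_map, ← Localization.AtPrime.map_eq_maximalIdeal (I := M),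
      Ideal.map_le_iff_le_comap]
    intro x hx
    obtain ⟨u, s, hu, hxs⟩ := hkey x
    have hs : s ∈ n := by
      have := sub_mem (Ideal.mul_mem_left M (algebraMap C E u) hx) (hnM hxs)
      rwa [sub_sub_cancel] at this
    have h1 := Ideal.mem_map_of_mem (algebraMap E EM)
      (add_mem hxs (Ideal.mem_map_of_mem (algebraMap S E) hs))
    rw [sub_add_cancel, map_mul] at h1
    exact (Ideal.unit_mul_mem_iff_mem _
      (IsLocalization.map_units EM (⟨algebraMap C E u, fun h0 => hu (hMp u h0)⟩ : M.primeCompl))).mp h1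
  have hres : ∀ z : EM, ∃ a, z - algebraMap Sn EM a ∈ maximalIdeal EM := by
    intro z
    obtain ⟨⟨x, w⟩, rfl⟩ := IsLocalization.mk'_surjective M.primeCompl z
    obtain ⟨u, s, hu, hxs⟩ := hkey x
    obtain ⟨v, t, hv, hwt⟩ := hkey (w : E)
    have ht : t ∉ n := fun h0 => by
      have h1 := add_mem (hnM hwt) (show algebraMap S E t ∈ M from h0)
      rw [sub_add_cancel] at h1
      exact ((Ideal.IsPrime.mem_or_mem inferInstance h1).elim (fun h => hv (hMp v h)) w.2)
    have hd : algebraMap C S u * t ∈ n.primeCompl := fun h0 =>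
      (Ideal.IsPrime.mem_or_mem inferInstance h0).elim (fun h => hu (hMp u (by
        rw [IsScalarTower.algebraMap_apply C S E]; exact h))) ht
    refine ⟨IsLocalization.mk' Sn (algebraMap C S v * s) ⟨_, hd⟩, ?_⟩
    have hd' : algebraMap S E (algebraMap C S u * t) ∈ M.primeCompl := hd
    have h1 : algebraMap Sn EM (IsLocalization.mk' Sn (algebraMap C S v * s) ⟨_, hd⟩) =
        IsLocalization.mk' EM (algebraMap S E (algebraMap C S v * s)) ⟨_, hd'⟩ := by
      rw [IsLocalization.eq_mk'_iff_mul_eq, ← IsScalarTower.algebraMap_apply S E EM,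
        ← IsScalarTower.algebraMap_apply S E EM, IsScalarTower.algebraMap_apply S Sn EM,
        IsScalarTower.algebraMap_apply S Sn EM, ← map_mul, IsLocalization.mk'_spec]
    dsimp only
    rw [h1, ← IsLocalization.mk'_sub (S := EM), IsLocalization.AtPrime.mk'_mem_maximal_iff (S := EM) M]
    show x * algebraMap S E (algebraMap C S u * t) - algebraMap S E (algebraMap C S v * s) * (w : E) ∈ M
    rw [map_mul, map_mul, ← IsScalarTower.algebraMap_apply C S E, ← IsScalarTower.algebraMap_apply C S E]
    have h2 := sub_mem (Ideal.mul_mem_left M (algebraMap S E t) (hnM hxs))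
      (Ideal.mul_mem_left M (algebraMap S E s) (hnM hwt))
    convert h2 using 1
    ring
  obtain ⟨_, hst, hbij⟩ := exists_cpl_iso Sn EM hm hres
  haveI := hst
  let eCpl : EGA4.Cpl Sn ≃ₐ[Sn] EGA4.Cpl EM :=
    AlgEquiv.ofBijective (IsScalarTower.toAlgHom Sn (EGA4.Cpl Sn) (EGA4.Cpl EM)) hbij
  haveI : IsRegularRing (L ⊗[Sn] EGA4.Cpl EM) := haveI := hreg1
    IsRegularRing.of_ringEquiv (R := L ⊗[Sn] EGA4.Cpl Sn)
      (Algebra.TensorProduct.congr (AlgEquiv.refl (R := Sn) (A₁ := L)) eCpl).toRingEquiv
  haveI : IsRegularRing (L ⊗[S] EGA4.Cpl EM) := IsRegularRing.of_ringEquiv (R := L ⊗[Sn] EGA4.Cpl EM)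
    (IsLocalization.algebraTensorEquiv n.primeCompl Sn L (EGA4.Cpl EM)).toRingEquiv
  haveI := faithfullyFlat_cpl EM
  exact isRegularLocalRing_of_flat_cover (S := S) (L := L) (EM := EM) (D := EGA4.Cpl EM) M Q hqM

/-- A Noetherian ring is a G-ring if its finite free algebras have regular formal fibres. -/
theorem isGRing_of_finiteFree {R : Type u} [CommRing R] [IsNoetherianRing R]
    (h : ∀ (S : Type u) [CommRing S] [Algebra R S] [Module.Finite R S] [Module.Free R S]
      (q : Ideal S) [q.IsPrime] (p : Ideal (Localization.AtPrime q)) [p.IsPrime],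
      IsRegularRing (EGA4.formalFibre (Localization.AtPrime q) p)) : CAlg.IsGRing R := by
  refine ⟨inferInstance, fun p _ => ?_⟩
  let A := Localization.AtPrime p
  haveI : IsNoetherianRing A := IsLocalization.isNoetherianRing p.primeCompl _ inferInstance
  haveI := isNoetherianRing_cpl A
  haveI := (faithfullyFlat_cpl A).toFlat
  refine ⟨inferInstance, fun Q _ => ⟨isNoetherianRing_fiber (B := EGA4.Cpl A) Q, fun L _ _ hL => ?_⟩⟩
  haveI := hL
  letI : Algebra A L := ((algebraMap Q.ResidueField L).comp (algebraMap A Q.ResidueField)).toAlgebra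
  haveI : IsScalarTower A Q.ResidueField L := IsScalarTower.of_algebraMap_eq' rfl
  let q := Q.comap (algebraMap R A)
  haveI : q.IsPrime := Ideal.comap_isPrime _ _
  let ξ : q.ResidueField →+* Q.ResidueField := Ideal.ResidueField.map q Q (algebraMap R A) rfl
  letI : Algebra q.ResidueField Q.ResidueField := ξ.toAlgebra
  letI : Algebra q.ResidueField L := ((algebraMap Q.ResidueField L).comp ξ).toAlgebra
  haveI : IsScalarTower q.ResidueField Q.ResidueField L := IsScalarTower.of_algebraMap_eq' rfl
  letI : Algebra R L := ((algebraMap A L).comp (algebraMap R A)).toAlgebra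
  haveI : IsScalarTower R A L := IsScalarTower.of_algebraMap_eq' rfl
  haveI : IsScalarTower R q.ResidueField L := IsScalarTower.of_algebraMap_eq fun r => by
    show algebraMap Q.ResidueField L (algebraMap A Q.ResidueField (algebraMap R A r)) =
      algebraMap Q.ResidueField L (Ideal.ResidueField.map q Q (algebraMap R A) rfl (algebraMap R q.ResidueField r))
    rw [Ideal.ResidueField.map_algebraMap]
  have hξ : Function.Surjective ξ := fun z => by
    obtain ⟨a, b, -, rfl⟩ := IsFractionRing.div_surjective (A ⧸ Q) z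
    obtain ⟨a, rfl⟩ := Ideal.Quotient.mk_surjective a
    obtain ⟨b, rfl⟩ := Ideal.Quotient.mk_surjective b
    obtain ⟨⟨a₁, a₂⟩, rfl⟩ := IsLocalization.mk'_surjective p.primeCompl a
    obtain ⟨⟨b₁, b₂⟩, rfl⟩ := IsLocalization.mk'_surjective p.primeCompl b
    have key : ∀ (c : R) (s : p.primeCompl), algebraMap (A ⧸ Q) Q.ResidueField
        (Ideal.Quotient.mk Q (IsLocalization.mk' A c s)) =
          ξ (algebraMap R q.ResidueField c / algebraMap R q.ResidueField s) := fun c s => by
      have hs : algebraMap A Q.ResidueField (algebraMap R A s) ≠ 0 :=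
        ((IsLocalization.map_units A s).map (algebraMap A Q.ResidueField)).ne_zero
      show algebraMap A Q.ResidueField (IsLocalization.mk' A c s) = _
      rw [map_div₀]
      show _ = Ideal.ResidueField.map q Q (algebraMap R A) rfl _ / Ideal.ResidueField.map q Q (algebraMap R A) rfl _
      rw [Ideal.ResidueField.map_algebraMap, Ideal.ResidueField.map_algebraMap, eq_div_iff hs, ← map_mul,
        IsLocalization.mk'_spec]
    refine ⟨(algebraMap R q.ResidueField a₁ / algebraMap R q.ResidueField a₂) /
      (algebraMap R q.ResidueField b₁ / algebraMap R q.ResidueField b₂), ?_⟩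
    dsimp only
    rw [map_div₀, key, key]
  haveI : Module.Finite q.ResidueField Q.ResidueField := Module.Finite.of_surjective (Algebra.linearMap _ _) hξ
  haveI : Module.Finite q.ResidueField L := Module.Finite.trans Q.ResidueField L
  obtain ⟨S, _, _, π, hfin, hfree, hfrac⟩ := exists_finiteFree_point R q L
  haveI := hfin
  haveI := hfree
  letI : Algebra S L := π.toRingHom.toAlgebra
  haveI : IsScalarTower R S L := IsScalarTower.of_algebraMap_eq fun r => (π.commutes r).symm
  haveI : Algebra.EssFiniteType R q.ResidueField :=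
    haveI : Algebra.EssFiniteType R (Localization.AtPrime q) :=
      Algebra.EssFiniteType.of_isLocalization (R := R) (S := Localization.AtPrime q) q.primeCompl
    Algebra.EssFiniteType.comp R (Localization.AtPrime q) _
  haveI : Algebra.EssFiniteType R L := Algebra.EssFiniteType.comp R q.ResidueField L
  haveI : Algebra.EssFiniteType S L := Algebra.EssFiniteType.of_comp R S L
  haveI := regular_tensor_of_cover R S p L hfrac (fun n _ T _ => h S n T)
  refine CplFib6.regular_fiber_tensor Q L ?_
  exact IsRegularRing.of_ringEquiv (R := L ⊗[R] EGA4.Cpl A)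
    (IsLocalization.algebraTensorEquiv p.primeCompl A L (EGA4.Cpl A)).symm.toRingEquiv

end Groth.Agent.PopescuLib
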