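import Groth.Agent.CplFib6.GRingStable
import Mathlib

/-!
# The G-ring property through generic formal fibres of domains
-/

set_option autoImplicit false
set_option linter.style.haveILetI false

universe u

open IsLocalRing TensorProduct

namespace Groth.Agent.PopescuLib

/-- Base change in two steps. -/
theorem regular_tensor_cancel {B κ L C : Type u} [CommRing B] [Field κ] [Field L] [CommRing C] [Algebra B κ]
    [Algebra κ L] [Algebra B L] [IsScalarTower B κ L] [Algebra B C] (h : IsRegularRing (L ⊗[κ] (κ ⊗[B] C))) :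
    IsRegularRing (L ⊗[B] C) :=
  haveI := h
  IsRegularRing.of_ringEquiv (R := L ⊗[κ] (κ ⊗[B] C))
    (Algebra.TensorProduct.cancelBaseChange B κ L L C).toRingEquiv

/-- Formal fibres are generic formal fibres of the quotient by the prime. -/
theorem geomRegular_fiber_of_surjective {A B : Type u} [CommRing A] [CommRing B] [IsNoetherianRing A]
    [IsNoetherianRing B] [IsLocalRing A] [IsLocalRing B] [IsDomain B] [Algebra A B]
    (hsurj : Function.Surjective (algebraMap A B)) (Q : Ideal A) [Q.IsPrime]
    (hker : RingHom.ker (algebraMap A B) = Q)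
    (h : CAlg.IsGeometricallyRegular (⊥ : Ideal B).ResidueField (EGA4.formalFibre B (⊥ : Ideal B))) :
    CAlg.IsGeometricallyRegular Q.ResidueField (EGA4.formalFibre A Q) := by
  intro L _ _ hL
  haveI := hL
  have hbot : Q = (⊥ : Ideal B).comap (algebraMap A B) := hker.symm
  letI : Algebra A L := ((algebraMap Q.ResidueField L).comp (algebraMap A Q.ResidueField)).toAlgebra
  haveI : IsScalarTower A Q.ResidueField L := IsScalarTower.of_algebraMap_eq' rfl
  have hkerL : RingHom.ker (algebraMap A L) = Q := by
    ext a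
    rw [RingHom.mem_ker, IsScalarTower.algebraMap_apply A Q.ResidueField L, map_eq_zero,
      Ideal.algebraMap_residueField_eq_zero]
  let ν : B →+* L := RingHom.liftOfSurjective (algebraMap A B) hsurj ⟨algebraMap A L, by rw [hker, hkerL]⟩
  have hν : ∀ a, ν (algebraMap A B a) = algebraMap A L a := fun a => RingHom.liftOfRightInverse_comp_apply _ _ _ _ a
  letI : Algebra B L := ν.toAlgebra
  haveI : IsScalarTower A B L := IsScalarTower.of_algebraMap_eq fun a => (hν a).symm
  have hinjν : Function.Injective ν := (injective_iff_map_eq_zero ν).mpr fun b hb => by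
    obtain ⟨a, rfl⟩ := hsurj b
    have : a ∈ RingHom.ker (algebraMap A L) := by rw [RingHom.mem_ker, ← hν]; exact hb
    rwa [hkerL, ← hker] at this
  let ψ : (⊥ : Ideal B).ResidueField →+* L := Ideal.ResidueField.lift (⊥ : Ideal B) ν bot_le fun b hb =>
    IsUnit.mk0 _ fun h0 => hb (Ideal.mem_bot.mpr (hinjν (h0.trans (map_zero ν).symm)))
  have hψ : ∀ b, ψ (algebraMap B (⊥ : Ideal B).ResidueField b) = ν b := fun b =>
    Ideal.ResidueField.lift_algebraMap _ _ _ _ b
  letI : Algebra (⊥ : Ideal B).ResidueField L := ψ.toAlgebra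
  haveI : IsScalarTower B (⊥ : Ideal B).ResidueField L := IsScalarTower.of_algebraMap_eq fun b => (hψ b).symm
  let ξ : Q.ResidueField →+* (⊥ : Ideal B).ResidueField :=
    Ideal.ResidueField.map Q (⊥ : Ideal B) (algebraMap A B) hbot
  letI : Algebra Q.ResidueField (⊥ : Ideal B).ResidueField := ξ.toAlgebra
  haveI : IsScalarTower Q.ResidueField (⊥ : Ideal B).ResidueField L := IsScalarTower.of_algebraMap_eq fun z => by
    refine RingHom.congr_fun (Ideal.ResidueField.ringHom_ext (f := algebraMap Q.ResidueField L) (g := ψ.comp ξ)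
      (RingHom.ext fun a => ?_)) z
    show algebraMap Q.ResidueField L (algebraMap A Q.ResidueField a) =
      ψ (Ideal.ResidueField.map Q (⊥ : Ideal B) (algebraMap A B) hbot (algebraMap A Q.ResidueField a))
    rw [Ideal.ResidueField.map_algebraMap, hψ, hν, ← IsScalarTower.algebraMap_apply]
  haveI : Module.Finite (⊥ : Ideal B).ResidueField L :=
    Module.Finite.of_restrictScalars_finite Q.ResidueField (⊥ : Ideal B).ResidueField L
  haveI : IsRegularRing (L ⊗[B] EGA4.Cpl B) := regular_tensor_cancel (h L inferInstance)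
  haveI : IsLocalization (⊥ : Submonoid B) B := IsLocalization.self (by simp)
  exact CplFib6.regular_fiber_tensor Q L (CplFib6.regular_tensor_of_quot hsurj B (⊥ : Submonoid B) L)

set_option maxHeartbeats 800000 in
/-- Formal fibres are generic formal fibres of quotient domains. -/
theorem regular_fiber_of_quot {R : Type u} [CommRing R] [IsNoetherianRing R] (p : Ideal R) [p.IsPrime]
    (h : ∀ (q : Ideal R) [q.IsPrime] (P : Ideal (R ⧸ q)) [P.IsPrime],
      CAlg.IsGeometricallyRegular (⊥ : Ideal (Localization.AtPrime P)).ResidueField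
        (EGA4.formalFibre (Localization.AtPrime P) (⊥ : Ideal (Localization.AtPrime P)))) :
    CAlg.IsRegularHom (Localization.AtPrime p) (EGA4.Cpl (Localization.AtPrime p)) := by
  let A := Localization.AtPrime p
  haveI : IsNoetherianRing A := IsLocalization.isNoetherianRing p.primeCompl _ inferInstance
  haveI := FlatLoc6.isNoetherianRing_cpl A
  haveI := (FlatLoc6.faithfullyFlat_cpl A).toFlat
  refine ⟨inferInstance, fun Q _ => ⟨FlatLoc6.isNoetherianRing_fiber (B := EGA4.Cpl A) Q, ?_⟩⟩
  let q := Q.comap (algebraMap R A)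
  haveI : q.IsPrime := Ideal.comap_isPrime _ _
  have hqp : q ≤ p := fun x hx => (IsLocalization.AtPrime.to_map_mem_maximal_iff A p x).mp
    (le_maximalIdeal (Ideal.IsPrime.ne_top inferInstance) hx)
  let P := p.map (Ideal.Quotient.mk q)
  haveI : P.IsPrime := Ideal.map_isPrime_of_surjective Ideal.Quotient.mk_surjective (by rwa [Ideal.mk_ker])
  have hPc : ∀ x, Ideal.Quotient.mk q x ∈ P ↔ x ∈ p := fun x => by
    rw [← Ideal.mem_comap, Ideal.comap_map_of_surjective' _ Ideal.Quotient.mk_surjective, Ideal.mk_ker,
      sup_of_le_left hqp]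
  let B := Localization.AtPrime P
  haveI : IsNoetherianRing B := IsLocalization.isNoetherianRing P.primeCompl _ inferInstance
  have hu : ∀ s : p.primeCompl, IsUnit (((algebraMap (R ⧸ q) B).comp (Ideal.Quotient.mk q)) s) := fun s =>
    IsLocalization.map_units B (⟨Ideal.Quotient.mk q s, fun hs => s.2 ((hPc s).mp hs)⟩ : P.primeCompl)
  let μ : A →+* B := IsLocalization.lift hu
  have hμ : ∀ x, μ (algebraMap R A x) = algebraMap (R ⧸ q) B (Ideal.Quotient.mk q x) :=
    fun x => IsLocalization.lift_eq hu x
  letI : Algebra A B := μ.toAlgebra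
  have hsurj : Function.Surjective (algebraMap A B) := fun b => by
    obtain ⟨⟨x, s⟩, rfl⟩ := IsLocalization.mk'_surjective P.primeCompl b
    obtain ⟨x, rfl⟩ := Ideal.Quotient.mk_surjective x
    obtain ⟨t, ht⟩ := Ideal.Quotient.mk_surjective (s : R ⧸ q)
    refine ⟨IsLocalization.mk' A x (⟨t, fun h' => s.2 (ht ▸ (hPc t).mpr h')⟩ : p.primeCompl), ?_⟩
    show μ _ = _
    rw [IsLocalization.lift_mk'_spec]
    show algebraMap (R ⧸ q) B (Ideal.Quotient.mk q x) = algebraMap (R ⧸ q) B (Ideal.Quotient.mk q t) * _
    rw [ht, IsLocalization.mk'_spec']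
  have hinjB : Function.Injective (algebraMap (R ⧸ q) B) :=
    IsLocalization.injective B P.primeCompl_le_nonZeroDivisors
  haveI : IsDomain B := IsLocalization.isDomain_localization P.primeCompl_le_nonZeroDivisors
  have hkerμ : RingHom.ker μ = Q := by
    ext a
    obtain ⟨⟨x, s⟩, rfl⟩ := IsLocalization.mk'_surjective p.primeCompl a
    dsimp only
    have hQx : IsLocalization.mk' A x s ∈ Q ↔ x ∈ q := IsLocalization.mk'_mem_iff
    rw [hQx, RingHom.mem_ker]
    constructor
    · intro h0
      have h1 : μ (algebraMap R A x) = 0 := by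
        rw [← IsLocalization.mk'_spec A x s, map_mul, h0, zero_mul]
      rw [hμ, ← map_zero (algebraMap (R ⧸ q) B)] at h1
      exact Ideal.Quotient.eq_zero_iff_mem.mp (hinjB h1)
    · intro hx
      have hx' : x ∈ q := hx
      show μ (IsLocalization.mk' A x s) = 0
      rw [IsLocalization.lift_mk'_spec, RingHom.comp_apply, Ideal.Quotient.eq_zero_iff_mem.mpr hx', map_zero,
        mul_zero]
  exact geomRegular_fiber_of_surjective hsurj Q hkerμ (h q P)

end Groth.Agent.PopescuLib
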