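import Groth.Agent.PopescuLib.GRing
import Groth.Agent.S4713
import Mathlib

/-!
# G-schemes and closed points
-/

set_option autoImplicit false
set_option linter.style.haveILetI false

universe u

open AlgebraicGeometry CategoryTheory IsLocalRing

namespace Groth.Agent.PopescuLib

/-- Regularity of the completion map passes to a smaller prime. -/
theorem regular_cpl_of_le {R : Type u} [CommRing R] [IsNoetherianRing R] {p m : Ideal R} [p.IsPrime] [m.IsPrime]
    (hpm : p ≤ m) (h : CAlg.IsRegularHom (Localization.AtPrime m) (EGA4.Cpl (Localization.AtPrime m))) :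
    CAlg.IsRegularHom (Localization.AtPrime p) (EGA4.Cpl (Localization.AtPrime p)) := by
  let Rm := Localization.AtPrime m
  let P := p.map (algebraMap R Rm)
  have hd : Disjoint (m.primeCompl : Set R) (p : Set R) := Set.disjoint_left.2 fun x hx hxp => hx (hpm hxp)
  haveI : P.IsPrime := IsLocalization.isPrime_of_isPrime_disjoint m.primeCompl Rm p ‹_› hd
  have hcomap : P.comap (algebraMap R Rm) = p := IsLocalization.under_map_of_isPrime_disjoint m.primeCompl Rm ‹_› hd
  haveI : IsNoetherianRing Rm := IsLocalization.isNoetherianRing m.primeCompl _ inferInstance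
  haveI : IsLocalization.AtPrime (Localization.AtPrime P) (P.comap (algebraMap R Rm)) :=
    IsLocalization.isLocalization_isLocalization_atPrime_isLocalization m.primeCompl (Localization.AtPrime P) P
  haveI : IsLocalization.AtPrime (Localization.AtPrime P) p := by
    simpa [hcomap] using (inferInstance : IsLocalization.AtPrime (Localization.AtPrime P) (P.comap (algebraMap R Rm)))
  haveI : IsNoetherianRing (Localization.AtPrime P) := IsLocalization.isNoetherianRing P.primeCompl _ inferInstance
  haveI : IsNoetherianRing (Localization.AtPrime p) := IsLocalization.isNoetherianRing p.primeCompl _ inferInstance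
  exact regular_cpl_of_ringEquiv
    (IsLocalization.algEquiv p.primeCompl (Localization.AtPrime P) (Localization.AtPrime p)).toRingEquiv
    (regular_cpl_localization Rm h P)

/-- The stalk and the localization have regular completion maps together. -/
theorem regular_cpl_stalk_iff {X : Scheme.{u}} {U : X.Opens} (hU : IsAffineOpen U) [IsNoetherianRing Γ(X, U)]
    {x : X} (hx : x ∈ U) :
    CAlg.IsRegularHom (X.presheaf.stalk x) (EGA4.Cpl (X.presheaf.stalk x)) ↔
      CAlg.IsRegularHom (Localization.AtPrime (hU.primeIdealOf ⟨x, hx⟩).asIdeal)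
        (EGA4.Cpl (Localization.AtPrime (hU.primeIdealOf ⟨x, hx⟩).asIdeal)) := by
  letI : Algebra Γ(X, U) (X.presheaf.stalk x) := (X.presheaf.germ U x hx).hom.toAlgebra
  let P := (hU.primeIdealOf ⟨x, hx⟩).asIdeal
  haveI : IsLocalization.AtPrime (X.presheaf.stalk x) P := hU.isLocalization_stalk ⟨x, hx⟩
  haveI : IsNoetherianRing (X.presheaf.stalk x) := IsLocalization.isNoetherianRing P.primeCompl _ inferInstance
  haveI : IsNoetherianRing (Localization.AtPrime P) := IsLocalization.isNoetherianRing P.primeCompl _ inferInstance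
  let e := (IsLocalization.algEquiv P.primeCompl (X.presheaf.stalk x) (Localization.AtPrime P)).toRingEquiv
  exact ⟨regular_cpl_of_ringEquiv e, regular_cpl_of_ringEquiv e.symm⟩

/-- A scheme is a G-scheme iff it is locally Noetherian with good completion maps at closed points. -/
theorem gScheme_iff (X : Scheme.{u}) :
    (∀ x : X, ∃ U : X.Opens, x ∈ U ∧ IsAffineOpen U ∧ CAlg.IsGRing Γ(X, U)) ↔
      IsLocallyNoetherian X ∧ ∀ x : X, IsClosed ({x} : Set X) →
        CAlg.IsRegularHom (X.presheaf.stalk x) (EGA4.Cpl (X.presheaf.stalk x)) := by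
  constructor
  · intro h
    choose U hx hU hG using h
    haveI : IsLocallyNoetherian X :=
      isLocallyNoetherian_of_affine_cover (S := fun x : X => (⟨U x, hU x⟩ : X.affineOpens))
        (eq_top_iff.mpr fun x _ => TopologicalSpace.Opens.mem_iSup.mpr ⟨x, hx x⟩) fun x => (hG x).1
    refine ⟨inferInstance, fun x _ => ?_⟩
    haveI := (hG x).1
    exact (regular_cpl_stalk_iff (hU x) (hx x)).2 ((hG x).2 _)
  · rintro ⟨hN, h⟩ x
    obtain ⟨U, hU, hxU, -⟩ := exists_isAffineOpen_mem_and_subset (x := x) (U := ⊤) trivial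
    haveI : IsNoetherianRing Γ(X, U) := IsLocallyNoetherian.component_noetherian ⟨U, hU⟩
    refine ⟨U, hxU, hU, isGRing_of_maximal fun m _ => ?_⟩
    let z : PrimeSpectrum Γ(X, U) := ⟨m, inferInstance⟩
    let y : X := hU.fromSpec z
    have hyU : y ∈ U := by
      show y ∈ (U : Set X)
      rw [← hU.range_fromSpec]
      exact ⟨z, rfl⟩
    obtain ⟨x', hx', hcl⟩ := Groth.Agent.S4713.result X (closure {y}) isClosed_closure ⟨y, subset_closure rfl⟩
    have hsp : y ⤳ x' := specializes_iff_mem_closure.mpr hx'
    obtain ⟨U', hU', hxU', -⟩ := exists_isAffineOpen_mem_and_subset (x := x') (U := ⊤) trivial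
    haveI : IsNoetherianRing Γ(X, U') := IsLocallyNoetherian.component_noetherian ⟨U', hU'⟩
    have hyU' : y ∈ U' := hsp.mem_open U'.2 hxU'
    have hle : (hU'.primeIdealOf ⟨y, hyU'⟩).asIdeal ≤ (hU'.primeIdealOf ⟨x', hxU'⟩).asIdeal := by
      refine (PrimeSpectrum.le_iff_specializes _ _).mpr (hU'.fromSpec.isOpenEmbedding.isInducing.specializes_iff.mp ?_)
      rw [hU'.fromSpec_primeIdealOf, hU'.fromSpec_primeIdealOf]
      exact hsp
    have hy := (regular_cpl_stalk_iff hU' hyU').2 (regular_cpl_of_le hle ((regular_cpl_stalk_iff hU' hxU').1 (h x' hcl)))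
    have h2 := (regular_cpl_stalk_iff hU hyU).1 hy
    have hz : hU.primeIdealOf ⟨y, hyU⟩ = z :=
      hU.fromSpec.isOpenEmbedding.injective (hU.fromSpec_primeIdealOf _)
    rwa [hz] at h2

end Groth.Agent.PopescuLib
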