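import Groth.Agent.PopescuLib.HenzGRing
import Groth.Agent.CplFib6.Excellent
import Groth.Agent.CplFib6.GRingStable
import Groth.Agent.Hensel.Henselization
import Groth.Agent.AnLocal.Henselian
import Mathlib

/-!
# Henselian local rings are filtered unions of henselian G-rings
-/

set_option autoImplicit false
set_option linter.style.haveILetI false

universe u

open IsLocalRing

namespace Groth.Agent.PopescuLib

/-- The integers form a G-ring, in any universe. -/
theorem isGRing_uliftInt : CAlg.IsGRing (ULift.{u} ℤ) := by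
  haveI : IsPrincipalIdealRing (ULift.{u} ℤ) :=
    IsPrincipalIdealRing.of_surjective (ULift.ringEquiv.{0, u} (R := ℤ)).symm.toRingHom
      (ULift.ringEquiv.{0, u} (R := ℤ)).symm.surjective
  haveI : IsDomain (ULift.{u} ℤ) := Function.Injective.isDomain (ULift.ringEquiv.{0, u} (R := ℤ)).toRingHom
    (ULift.ringEquiv.{0, u} (R := ℤ)).injective
  haveI : CharZero (ULift.{u} ℤ) :=
    charZero_of_injective_ringHom (f := (ULift.ringEquiv.{0, u} (R := ℤ)).symm.toRingHom) (ULift.ringEquiv.{0, u} (R := ℤ)).symm.injective
  exact CplFib6.isGRing_of_dedekind _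

variable (A : Type u) [CommRing A] [HenselianLocalRing A]

/-- The henselian local ring generated by a finite set, as a predicate. -/
theorem exists_genHenz (s : Set A) (hs : s.Finite) :
    ∃ S : Subring A, s ⊆ S ∧ HenselianLocalRing S ∧ IsLocalHom S.subtype ∧ CAlg.IsGRing S ∧
      ∀ (T : Subring A) [HenselianLocalRing T] [IsLocalHom T.subtype], s ⊆ T → S ≤ T := by
  classical
  letI : Algebra (ULift.{u} ℤ) A := ((Int.castRingHom A).comp ULift.ringEquiv.toRingHom).toAlgebra
  let B := Algebra.adjoin (ULift.{u} ℤ) s
  haveI : Algebra.FiniteType (ULift.{u} ℤ) B :=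
    (Subalgebra.fg_iff_finiteType B).mp (Subalgebra.fg_def.mpr ⟨s, hs, rfl⟩)
  let q : Ideal B := (maximalIdeal A).comap B.val.toRingHom
  haveI : q.IsPrime := Ideal.comap_isPrime _ _
  let R := Localization.AtPrime q
  have hR : CAlg.IsGRing R :=
    CplFib6.isGRing_localization (CplFib6.isGRing_of_finiteType isGRing_uliftInt B) q.primeCompl R
  haveI : IsNoetherianRing R := hR.1
  have hu : ∀ x : q.primeCompl, IsUnit (B.val.toRingHom x) := fun x => by
    by_contra h
    exact x.2 h
  let f : R →+* A := IsLocalization.lift hu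
  haveI hfloc : IsLocalHom f := ⟨fun z hz => by
    obtain ⟨⟨x, t⟩, rfl⟩ := IsLocalization.mk'_surjective q.primeCompl z
    dsimp only at hz ⊢
    have h1 : IsUnit (B.val.toRingHom x) := by
      rw [← IsLocalization.lift_eq (S := R) hu x, ← IsLocalization.mk'_spec R x t, map_mul, IsLocalization.lift_eq]
      exact hz.mul (hu t)
    rw [IsLocalization.AtPrime.isUnit_mk'_iff R q]
    exact fun h => h h1⟩
  let H := Hensel.LocalHenz R
  haveI hHh : HenselianLocalRing H := (Hensel.isHenselization_localHenz R).henselian
  have hHG : CAlg.IsGRing H := isGRing_of_isPairHenselization hR (maximalIdeal R)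
    ((Hensel.isPairHenselization_iff_isHenselization R H).2 inferInstance)
  obtain ⟨g, hg, -⟩ := (Hensel.isHenselization_localHenz R).universal A f hfloc
  have hgloc : IsLocalHom g := by
    refine ((local_hom_TFAE g).out 0 2).mpr ?_
    rw [← Hensel.map_maximalIdeal_henz, Ideal.map_map, hg]
    exact ((local_hom_TFAE f).out 0 2).mp hfloc
  haveI : Nontrivial g.range := g.range.subtype.domain_nontrivial
  haveI : IsLocalRing g.range := IsLocalRing.of_surjective' g.rangeRestrict g.rangeRestrict_surjective
  haveI hGh : HenselianLocalRing g.range :=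
    AnLocal.henselianLocalRing_of_surjective' g.rangeRestrict g.rangeRestrict_surjective
  have hmem : ∀ x : B, (x : A) ∈ g.range := fun x =>
    ⟨algebraMap R H (algebraMap B R x), by rw [← RingHom.comp_apply g, hg]; exact IsLocalization.lift_eq hu x⟩
  refine ⟨g.range, fun a ha => hmem ⟨a, Algebra.subset_adjoin ha⟩, hGh, ⟨fun x hx => ?_⟩,
    CplFib6.isGRing_of_surjective g.rangeRestrict g.rangeRestrict_surjective hHG, fun T _ _ hsT => ?_⟩
  · obtain ⟨h, rfl⟩ := g.rangeRestrict_surjective x
    exact ((isUnit_map_iff g h).mp hx).map g.rangeRestrict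
  · have hBT : ∀ x : B, (x : A) ∈ T := by
      have h1 : B ≤ { T with algebraMap_mem' := fun r => intCast_mem T r.down } := Algebra.adjoin_le hsT
      exact fun x => h1 x.2
    let β : B →+* T := B.val.toRingHom.codRestrict T hBT
    have hβu : ∀ x : q.primeCompl, IsUnit (β x) := fun x =>
      (isUnit_map_iff T.subtype (β x)).mp (hu x)
    let fT : R →+* T := IsLocalization.lift hβu
    have hfT : T.subtype.comp fT = f := IsLocalization.ringHom_ext q.primeCompl (RingHom.ext fun x => by
      rw [RingHom.comp_apply, RingHom.comp_apply, RingHom.comp_apply, IsLocalization.lift_eq,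
        IsLocalization.lift_eq]
      rfl)
    have hfTloc : IsLocalHom fT := ⟨fun r hr => by
      refine isUnit_of_map_unit f r ?_
      rw [← hfT]
      exact hr.map T.subtype⟩
    obtain ⟨gT, hgT, -⟩ := (Hensel.isHenselization_localHenz R).universal T fT hfTloc
    obtain ⟨g', -, huniq⟩ := (Hensel.isHenselization_localHenz R).universal A f hfloc
    have heq : T.subtype.comp gT = g :=
      (huniq _ (show (T.subtype.comp gT).comp (algebraMap R (Hensel.LocalHenz R)) = f by rw [RingHom.comp_assoc, hgT, hfT])).trans (huniq g hg).symm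
    rintro _ ⟨h, rfl⟩
    rw [← heq]
    exact (gT h).2

/-- A henselian local ring is a filtered union of henselian G-rings along local maps. -/
theorem exists_colim_henselian_gRing :
    ∃ (ι : Type u) (_ : Preorder ι) (_ : IsDirectedOrder ι) (_ : Nonempty ι) (G : ι → Type u)
      (_ : ∀ i, CommRing (G i)) (f : ∀ i j : ι, i ≤ j → (G i →+* G j))
      (_ : DirectedSystem G (fun i j h => f i j h)),
      (∀ i, HenselianLocalRing (G i) ∧ CAlg.IsGRing (G i)) ∧
      (∀ (i j : ι) (h : i ≤ j), IsLocalHom (f i j h)) ∧
      Nonempty (A ≃+* DirectLimit G f) := by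
  classical
  choose S hsub hhens hloc hG hmin using fun s : Finset A => exists_genHenz A s s.finite_toSet
  have mono : ∀ s t : Finset A, s ≤ t → S s ≤ S t := fun s t h => by
    haveI := hhens t
    haveI := hloc t
    exact hmin s (S t) ((Finset.coe_subset.mpr h).trans (hsub t))
  let f : ∀ s t : Finset A, s ≤ t → (S s →+* S t) := fun s t h => Subring.inclusion (mono s t h)
  haveI : DirectedSystem (fun s => S s) (fun i j h => f i j h) :=
    ⟨fun i x => rfl, fun i j k hij hjk x => rfl⟩
  let Φ : DirectLimit (fun s => S s) f →+* A :=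
    DirectLimit.Ring.lift (fun s => S s) f A (fun s => (S s).subtype) fun i j h x => rfl
  have hΦi : Function.Injective Φ := DirectLimit.lift_injective f _ (fun i j h x => rfl) fun s => Subtype.val_injective
  refine ⟨Finset A, inferInstance, inferInstance, inferInstance, fun s => S s, inferInstance, f, inferInstance,
    fun s => ⟨hhens s, hG s⟩, fun s t h => ⟨fun x hx => ?_⟩, ⟨(RingEquiv.ofBijective Φ ⟨hΦi, fun a => ?_⟩).symm⟩⟩
  · haveI := hloc s
    exact isUnit_of_map_unit (S s).subtype x (hx.map (S t).subtype)
  · exact ⟨DirectLimit.Ring.of _ f {a} ⟨a, hsub {a} (Finset.mem_singleton_self a)⟩, rfl⟩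

end Groth.Agent.PopescuLib
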