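import Groth.Agent.CplFib6.DerivTower
import Mathlib

/-!
# Top degree Cartier computation for closed matrices
-/

set_option autoImplicit false
set_option linter.style.haveILetI false

universe u v

open Matrix

namespace Groth.Agent.PopescuLib.JacobianTop

variable {k : Type u} {A : Type v} [CommRing k] [CommRing A] [Algebra k A] {n : ℕ}

/-- The partial derivatives attached to a basis of differentials. -/
noncomputable def pd (b : Module.Basis (Fin n) A (KaehlerDifferential k A)) (j : Fin n) : Derivation k A A :=
  (b.coord j).compDer (KaehlerDifferential.D k A)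

/-- The product of the `(p-1)`st powers of some derivations. -/
noncomputable def op (p : ℕ) (d : Fin n → Derivation k A A) (L : List (Fin n)) : Module.End k A :=
  (L.map fun j => ((d j).toLinearMap : Module.End k A) ^ (p - 1)).prod

theorem pd_apply_basis {t : Fin n → A} (b : Module.Basis (Fin n) A (KaehlerDifferential k A))
    (hb : ∀ i, b i = KaehlerDifferential.D k A (t i)) (j i : Fin n) : pd b j (t i) = if i = j then 1 else 0 := by
  show b.coord j (KaehlerDifferential.D k A (t i)) = _
  rw [← hb, Module.Basis.coord_apply, Module.Basis.repr_self_apply]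

theorem derivation_eq_zero {t : Fin n → A} (b : Module.Basis (Fin n) A (KaehlerDifferential k A))
    (hb : ∀ i, b i = KaehlerDifferential.D k A (t i)) (D : Derivation k A A) (h : ∀ i, D (t i) = 0) (x : A) :
    D x = 0 := by
  have hz : D.liftKaehlerDifferential = 0 := b.ext fun i => by
    rw [hb, Derivation.liftKaehlerDifferential_comp_D, h, LinearMap.zero_apply]
  rw [← Derivation.liftKaehlerDifferential_comp_D D x, hz, LinearMap.zero_apply]

theorem pd_comm {t : Fin n → A} (b : Module.Basis (Fin n) A (KaehlerDifferential k A))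
    (hb : ∀ i, b i = KaehlerDifferential.D k A (t i)) (j l : Fin n) (x : A) :
    pd b j (pd b l x) = pd b l (pd b j x) := by
  have h := derivation_eq_zero b hb ⁅pd b j, pd b l⁆ (fun i => by
    rw [Derivation.commutator_apply, pd_apply_basis b hb, pd_apply_basis b hb]
    split_ifs <;> simp) x
  rwa [Derivation.commutator_apply, sub_eq_zero] at h

theorem iterate_pd_eq_zero (p : ℕ) [Fact p.Prime] [CharP A p] {t : Fin n → A}
    (b : Module.Basis (Fin n) A (KaehlerDifferential k A)) (hb : ∀ i, b i = KaehlerDifferential.D k A (t i))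
    (j : Fin n) (x : A) : (⇑(pd b j))^[p] x = 0 := by
  let D : Derivation k A A := Derivation.mk' ((pd b j).toLinearMap ^ p : Module.End k A) fun a c => by
    rw [Module.End.coe_pow]
    exact CplFib6.iterate_char_leibniz p ((pd b j).restrictScalars ℤ) a c
  have hD : ∀ y, D y = (⇑(pd b j))^[p] y := fun y =>
    congrFun (Module.End.coe_pow ((pd b j).toLinearMap : Module.End k A) p) y
  rw [← hD]
  refine derivation_eq_zero b hb D (fun i => ?_) x
  rw [hD, show p = p - 2 + 1 + 1 by have := (Fact.out : p.Prime).two_le; omega, Function.iterate_succ_apply,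
    pd_apply_basis b hb, Function.iterate_succ_apply]
  split_ifs
  · rw [Derivation.map_one_eq_zero, iterate_map_zero]
  · rw [map_zero, iterate_map_zero]

theorem op_apply_pd (p : ℕ) [hp : Fact p.Prime] [CharP A p] {t : Fin n → A}
    (b : Module.Basis (Fin n) A (KaehlerDifferential k A)) (hb : ∀ i, b i = KaehlerDifferential.D k A (t i))
    (L : List (Fin n)) (j : Fin n) (hj : j ∈ L) (x : A) : op p (pd b) L (pd b j x) = 0 := by
  induction L with
  | nil => simp at hj
  | cons i L ih =>
    rw [op, List.map_cons, List.prod_cons, Module.End.mul_apply]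
    rcases List.mem_cons.mp hj with rfl | hj'
    · have hc : Commute ((pd b j).toLinearMap : Module.End k A)
          (op p (pd b) L) := Commute.list_prod_right _ _ fun f hf => by
        obtain ⟨l, -, rfl⟩ := List.mem_map.mp hf
        exact Commute.pow_right (LinearMap.ext fun y => pd_comm b hb j l y) _
      have h1 := LinearMap.congr_fun hc.eq x
      rw [Module.End.mul_apply, Module.End.mul_apply] at h1
      show ((pd b j).toLinearMap ^ (p - 1) : Module.End k A) (op p (pd b) L ((pd b j).toLinearMap x)) = 0
      rw [← h1, Module.End.coe_pow]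
      show (⇑(pd b j))^[p - 1] (pd b j _) = 0
      rw [← Function.iterate_succ_apply, show (p - 1).succ = p by have := hp.out.two_le; omega]
      exact iterate_pd_eq_zero p b hb j _
    · show ((pd b i).toLinearMap ^ (p - 1) : Module.End k A) (op p (pd b) L (pd b j x)) = 0
      rw [ih hj', map_zero]

theorem iterate_const_mul (D : Derivation k A A) {c : A} (hc : D c = 0) (m : ℕ) (x : A) :
    (⇑D)^[m] (c * x) = c * (⇑D)^[m] x := by
  induction m with
  | zero => rfl
  | succ m ih =>
    rw [Function.iterate_succ_apply', ih, Derivation.leibniz, hc, smul_zero, add_zero, smul_eq_mul,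
      Function.iterate_succ_apply']

theorem iterate_pow_self (D : Derivation k A A) {x : A} (hx : D x = 1) (m : ℕ) :
    (⇑D)^[m] (x ^ m) = (m.factorial : A) := by
  induction m with
  | zero => simp
  | succ m ih =>
    rw [Function.iterate_succ_apply, Derivation.leibniz_pow, hx, Nat.add_sub_cancel, smul_eq_mul, mul_one,
      iterate_map_nsmul, ih, nsmul_eq_mul, Nat.factorial_succ, Nat.cast_mul]

theorem op_apply_monomial (p : ℕ) {t : Fin n → A} (b : Module.Basis (Fin n) A (KaehlerDifferential k A))
    (hb : ∀ i, b i = KaehlerDifferential.D k A (t i)) (L : List (Fin n)) (hL : L.Nodup) :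
    ∀ c : A, (∀ j ∈ L, pd b j c = 0) →
      op p (pd b) L (c * (L.map fun j => t j ^ (p - 1)).prod) = c * ((p - 1).factorial : A) ^ L.length := by
  induction L with
  | nil => intro c _; simp [op]
  | cons i L ih =>
    intro c hc
    obtain ⟨hi, hL'⟩ := List.nodup_cons.mp hL
    rw [op, List.map_cons, List.prod_cons, Module.End.mul_apply, List.map_cons, List.prod_cons, ← mul_assoc]
    show ((pd b i).toLinearMap ^ (p - 1) : Module.End k A) (op p (pd b) L _) = _
    rw [ih hL' _ fun j hj => by
      rw [Derivation.leibniz, hc j (List.mem_cons_of_mem _ hj), Derivation.leibniz_pow, pd_apply_basis b hb,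
        if_neg fun h : i = j => hi (h ▸ hj)]
      simp]
    rw [Module.End.coe_pow]
    show (⇑(pd b i))^[p - 1] (c * t i ^ (p - 1) * _) = _
    rw [mul_comm (c * t i ^ (p - 1)), iterate_const_mul _ (by
        rw [← Nat.cast_pow]; exact Derivation.map_natCast _ _),
      iterate_const_mul _ (hc i List.mem_cons_self), iterate_pow_self _ (by rw [pd_apply_basis b hb, if_pos rfl]),
      List.length_cons, pow_succ]
    ring

theorem derivation_prod {ι : Type*} [DecidableEq ι] (D : Derivation k A A) (f : ι → A) (s : Finset ι) :
    D (∏ i ∈ s, f i) = ∑ i ∈ s, D (f i) * ∏ l ∈ s.erase i, f l := by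
  induction s using Finset.induction_on with
  | empty => simp
  | insert a s ha ih =>
    rw [Finset.prod_insert ha, Derivation.leibniz, ih, Finset.sum_insert ha, Finset.erase_insert ha, smul_eq_mul,
      smul_eq_mul, Finset.mul_sum, add_comm, mul_comm (∏ i ∈ s, f i)]
    refine congrArg (_ + ·) (Finset.sum_congr rfl fun i hi => ?_)
    rw [Finset.erase_insert_of_ne fun h : a = i => ha (h ▸ hi),
      Finset.prod_insert fun h => ha (Finset.mem_of_mem_erase h)]
    ring

/-- A determinant of closed rows, one of them exact, is killed by the top operator. -/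
theorem op_det_eq_zero (p : ℕ) [Fact p.Prime] [CharP A p] {t : Fin n → A}
    (b : Module.Basis (Fin n) A (KaehlerDifferential k A)) (hb : ∀ i, b i = KaehlerDifferential.D k A (t i))
    (L : List (Fin n)) (hL : ∀ j, j ∈ L) (M : Matrix (Fin n) (Fin n) A)
    (hM : ∀ i j l, pd b l (M i j) = pd b j (M i l)) (r : Fin n) (g : A) (hr : ∀ j, M r j = pd b j g) :
    op p (pd b) L M.det = 0 := by
  classical
  let Q : Equiv.Perm (Fin n) → A := fun σ => ∏ i ∈ Finset.univ.erase r, M i (σ i)
  let ε : Equiv.Perm (Fin n) → A := fun σ => ((Equiv.Perm.sign σ : ℤ) : A)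
  have hdet : M.det = ∑ σ, ε σ * (pd b (σ r) g * Q σ) := by
    rw [← det_transpose, det_apply']
    refine Finset.sum_congr rfl fun σ _ => ?_
    rw [← hr, Finset.mul_prod_erase Finset.univ (fun i => M i (σ i)) (Finset.mem_univ r)]
    rfl
  have hpiola : ∑ σ, ε σ * pd b (σ r) (Q σ) = 0 := by
    simp_rw [Q, derivation_prod, Finset.mul_sum]
    rw [Finset.sum_comm]
    refine Finset.sum_eq_zero fun i hi => ?_
    have hir : i ≠ r := (Finset.mem_erase.mp hi).1
    refine Finset.sum_involution (fun σ _ => σ * Equiv.swap r i) (fun σ _ => ?_) (fun σ _ _ h => ?_)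
      (fun σ _ => Finset.mem_univ _) (fun σ _ => ?_)
    · have hrest : ∏ l ∈ (Finset.univ.erase r).erase i, M l ((σ * Equiv.swap r i) l) =
          ∏ l ∈ (Finset.univ.erase r).erase i, M l (σ l) := Finset.prod_congr rfl fun l hl => by
        simp only [Finset.mem_erase] at hl
        rw [Equiv.Perm.mul_apply, Equiv.swap_apply_of_ne_of_ne hl.2.1 hl.1]
      rw [hrest, Equiv.Perm.mul_apply, Equiv.Perm.mul_apply, Equiv.swap_apply_left, Equiv.swap_apply_right,
        hM i (σ r) (σ i)]
      simp only [ε, Equiv.Perm.sign_mul, Equiv.Perm.sign_swap hir.symm]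
      push_cast
      ring
    · exact hir (Equiv.swap_eq_refl_iff.mp (by
        have h2 : Equiv.swap r i = 1 := mul_left_cancel (h.trans (mul_one σ).symm)
        exact h2)).symm
    · rw [mul_assoc, Equiv.swap_mul_self, mul_one]
  have hexp : M.det = ∑ σ, ((Equiv.Perm.sign σ : ℤ) • pd b (σ r) (g * Q σ)) := by
    rw [hdet, ← add_zero (∑ σ, ε σ * (pd b (σ r) g * Q σ)), ← mul_zero g, ← hpiola, Finset.mul_sum,
      ← Finset.sum_add_distrib]
    refine Finset.sum_congr rfl fun σ _ => ?_
    rw [Derivation.leibniz, smul_eq_mul, smul_eq_mul, zsmul_eq_mul]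
    ring
  rw [hexp, map_sum]
  exact Finset.sum_eq_zero fun σ _ => by rw [map_zsmul, op_apply_pd p b hb L _ (hL _), smul_zero]

/-- A diagonal of `t^(p-1)` plus a Jacobian has nonzero determinant. -/
theorem det_ne_zero (p : ℕ) [hp : Fact p.Prime] [CharP A p] [IsDomain A] {t : Fin n → A}
    (b : Module.Basis (Fin n) A (KaehlerDifferential k A)) (hb : ∀ i, b i = KaehlerDifferential.D k A (t i))
    (F : Fin n → A) :
    (Matrix.of fun i j => (if i = j then t i ^ (p - 1) else 0) + pd b j (F i)).det ≠ 0 := by
  classical
  let L : List (Fin n) := (Finset.univ : Finset (Fin n)).toList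
  let M : Finset (Fin n) → Matrix (Fin n) (Fin n) A := fun s =>
    Matrix.of fun i j => (if i = j then t i ^ (p - 1) else 0) + if i ∈ s then pd b j (F i) else 0
  have hclosed : ∀ i j l, pd b l (if i = j then t i ^ (p - 1) else 0) = pd b j (if i = l then t i ^ (p - 1) else 0) := by
    intro i j l
    have h0 : ∀ l' : Fin n, i ≠ l' → pd b l' (t i ^ (p - 1)) = 0 := fun l' h => by
      rw [Derivation.leibniz_pow, pd_apply_basis b hb, if_neg h, smul_zero, smul_zero]
    by_cases h1 : i = j <;> by_cases h2 : i = l
    · rw [← h1, ← h2]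
    · rw [if_pos h1, if_neg h2, h0 l h2, map_zero]
    · rw [if_neg h1, if_pos h2, h0 j h1, map_zero]
    · rw [if_neg h1, if_neg h2, map_zero, map_zero]
  have key : ∀ s : Finset (Fin n), op p (pd b) L (M s).det = op p (pd b) L (M ∅).det := by
    intro s
    induction s using Finset.induction_on with
    | empty => rfl
    | insert a s ha ih =>
      have he : M (insert a s) = updateRow (M s) a (M s a + fun j => pd b j (F a)) := by
        funext i j
        by_cases h : i = a
        · subst h; simp [M, ha]
        · simp [M, h]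
      rw [he, det_updateRow_add, updateRow_eq_self, map_add, ih, add_eq_left]
      refine op_det_eq_zero p b hb L (fun j => Finset.mem_toList.mpr (Finset.mem_univ j)) _ (fun i j l => ?_) a (F a)
        (fun j => by simp)
      by_cases h : i = a
      · subst h; simp [pd_comm b hb]
      · simp only [updateRow_ne h, M, Matrix.of_apply, map_add, hclosed i j l]
        by_cases his : i ∈ s
        · rw [if_pos his, if_pos his, pd_comm b hb l j]
        · rw [if_neg his, if_neg his, map_zero, map_zero]
  intro h0
  have h1 := key Finset.univ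
  have hM : M Finset.univ = Matrix.of fun i j => (if i = j then t i ^ (p - 1) else 0) + pd b j (F i) := by
    funext i j; simp [M]
  have hdiag : (M ∅).det = (L.map fun j => t j ^ (p - 1)).prod := by
    have he : M ∅ = diagonal fun i => t i ^ (p - 1) := by funext i j; simp [M, diagonal]
    rw [he, det_diagonal, Finset.prod_map_toList]
  rw [hM, h0, map_zero, hdiag, ← one_mul (List.prod _),
    op_apply_monomial p b hb L (Finset.nodup_toList _) 1 (fun j _ => Derivation.map_one_eq_zero _), one_mul] at h1
  refine pow_ne_zero _ (fun h => ?_) h1.symm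
  rw [CharP.cast_eq_zero_iff A p, hp.out.dvd_factorial] at h
  have := hp.out.two_le
  omega

end Groth.Agent.PopescuLib.JacobianTop
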