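import Groth.Agent.CplFib6.RegLocus
import Groth.Agent.S0600
import Groth.Agent.FlatLoc6.RegCM
import Groth.Agent.FlatLoc6.BaseChangeEss

/-!
# Local G-rings are J-2
-/

set_option autoImplicit false
set_option linter.style.haveILetI false

universe u

open IsLocalRing TensorProduct
open Groth.Agent.FlatLoc6

namespace Groth.Agent.PopescuLib

/-- A Noetherian local ring with regular completion map is J-2. -/
theorem isJ2_of_isRegularHom_cpl (A : Type u) [CommRing A] [IsNoetherianRing A] [IsLocalRing A]
    (hA : CAlg.IsRegularHom A (EGA4.Cpl A)) : EGA4.IsJ2 A := by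
  intro S _ _ hS
  haveI := hS
  haveI := isNoetherianRing_cpl A
  haveI := isLocalRing_cpl A
  haveI := faithfullyFlat_cpl A
  haveI := CplFib6.isAdicComplete_cpl A
  haveI : IsNoetherianRing S := Algebra.FiniteType.isNoetherianRing A S
  haveI := isNoetherianRing_baseChange_ess A (EGA4.Cpl A) S
  have hreg := isRegularHom_baseChange_ess A (EGA4.Cpl A) S hA
  let T := S ⊗[A] EGA4.Cpl A
  haveI : Module.FaithfullyFlat S T := inferInstance
  letI : Algebra (EGA4.Cpl A) T := Algebra.TensorProduct.rightAlgebra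
  haveI : Algebra.FiniteType (EGA4.Cpl A) T :=
    Algebra.FiniteType.equiv (inferInstanceAs (Algebra.FiniteType (EGA4.Cpl A) (EGA4.Cpl A ⊗[A] S)))
      (AlgEquiv.ofRingEquiv (f := (Algebra.TensorProduct.comm A (EGA4.Cpl A) S).toRingEquiv) fun c => by
        show Algebra.TensorProduct.comm A (EGA4.Cpl A) S (c ⊗ₜ[A] (1 : S)) = (1 : S) ⊗ₜ[A] c
        rw [Algebra.TensorProduct.comm_tmul])
  have hO := CplFib6.isOpen_regular_of_complete (EGA4.Cpl A) T
  have hiff : ∀ P : PrimeSpectrum T,
      IsRegularLocalRing (Localization.AtPrime P.asIdeal) ↔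
        IsRegularLocalRing (Localization.AtPrime (P.asIdeal.comap (algebraMap S T))) := fun P =>
    ⟨RegLoc6.regular_under_of_flat P.asIdeal _ rfl, fun h => by
      haveI := isRegularRing_of_geometricallyRegular (hreg.2 (P.asIdeal.comap (algebraMap S T))).2
      haveI := h
      exact CplFib6.regular_atPrime_of_flat (P.asIdeal.comap (algebraMap S T)) P.asIdeal rfl⟩
  let Z := {P : PrimeSpectrum T | IsRegularLocalRing (Localization.AtPrime P.asIdeal)}ᶜ
  have himg : (EGA4.regLocus S)ᶜ = PrimeSpectrum.comap (algebraMap S T) '' Z := by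
    ext p
    constructor
    · intro hp
      obtain ⟨P, hP⟩ := PrimeSpectrum.comap_surjective_of_faithfullyFlat (A := S) (B := T) p
      subst hP
      exact ⟨P, fun hh => hp ((hiff P).1 hh), rfl⟩
    · rintro ⟨P, hP, rfl⟩ hp
      exact hP ((hiff P).2 hp)
  rw [← isClosed_compl_iff, himg]
  refine PrimeSpectrum.isClosed_image_of_stableUnderSpecialization (algebraMap S T) Z hO.isClosed_compl ?_
  rw [← himg, stableUnderSpecialization_compl_iff]
  intro p' p hs hp'
  exact RegLoc6.regular_of_le ((PrimeSpectrum.le_iff_specializes p p').2 hs) hp'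

/-- Noetherian local G-rings are J-2. -/
theorem isJ2_of_isGRing (A : Type u) [CommRing A] [IsLocalRing A] (hA : CAlg.IsGRing A) : EGA4.IsJ2 A :=
  haveI := hA.1
  isJ2_of_isRegularHom_cpl A (S0600.result A hA (maximalIdeal A))

end Groth.Agent.PopescuLib
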