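import Groth.Agent.Hensel.PairNbhd
import Groth.Agent.PopescuLib.Approx
import Mathlib

/-!
# Points of smooth algebras in étale neighbourhoods of pairs
-/

set_option autoImplicit false
set_option linter.style.haveILetI false

universe u

open Groth.Agent.Hensel

namespace Groth.Agent.PopescuLib

variable {R K : Type u} [CommRing R] [CommRing K] [Algebra R K]

/-- Finitely many elements of the colimit come from one neighbourhood. -/
theorem exists_ofB_fin : ∀ {l : ℕ} (x : Fin l → Henz R K),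
    ∃ (N : Nbhd R K) (b : Fin l → N.B), ∀ i, Henz.ofB N (b i) = x i := by
  intro l
  induction l with
  | zero =>
    intro x
    obtain ⟨N, -, -⟩ := Henz.exists_ofB (0 : Henz R K)
    exact ⟨N, fun i => i.elim0, fun i => i.elim0⟩
  | succ l ih =>
    intro x
    obtain ⟨N, b, hb⟩ := ih fun i => x i.castSucc
    obtain ⟨M, c, hc⟩ := Henz.exists_ofB (x (Fin.last l))
    obtain ⟨P, α, β, hα, hβ⟩ := N.exists_hom₂ M
    refine ⟨P, Fin.snoc (fun i => α (b i)) (β c), fun i => ?_⟩
    induction i using Fin.lastCases with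
    | last => rw [Fin.snoc_last, ← AlgHom.comp_apply, Henz.ofB_comp β hβ, hc]
    | cast j => rw [Fin.snoc_castSucc, ← AlgHom.comp_apply, Henz.ofB_comp α hα, hb]

/-- Finitely many elements vanishing in the colimit vanish in one further neighbourhood. -/
theorem exists_kill_fin : ∀ {l : ℕ} (N : Nbhd R K) (b : Fin l → N.B), (∀ i, Henz.ofB N (b i) = 0) →
    ∃ (M : Nbhd R K) (α : N.B →ₐ[R] M.B), M.toK.comp α = N.toK ∧ ∀ i, α (b i) = 0 := by
  intro l
  induction l with
  | zero => exact fun N _ _ => ⟨N, AlgHom.id R _, AlgHom.comp_id _, fun i => i.elim0⟩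
  | succ l ih =>
    intro N b hb
    obtain ⟨M, α, hα, hα0⟩ := ih N (fun i => b i.castSucc) fun i => hb _
    have h0 : Henz.ofB M (α (b (Fin.last l))) = 0 := by
      rw [← AlgHom.comp_apply, Henz.ofB_comp α hα, hb]
    obtain ⟨M', α', hα', h'⟩ := Henz.exists_of_ofB_eq_zero h0
    refine ⟨M', α'.comp α, by rw [← AlgHom.comp_assoc, hα', hα], fun i => ?_⟩
    induction i using Fin.lastCases with
    | last => exact h'
    | cast j => rw [AlgHom.comp_apply, hα0, map_zero]

/-- A map from a finitely presented algebra to the colimit factors through a neighbourhood. -/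
theorem exists_factor_fp (S : Type u) [CommRing S] [Algebra R S] [Algebra.FinitePresentation R S]
    (τ : S →ₐ[R] Henz R K) : ∃ (N : Nbhd R K) (α : S →ₐ[R] N.B), (Henz.ofB N).comp α = τ := by
  obtain ⟨k, θ, hθ, hker⟩ := Algebra.FinitePresentation.out (R := R) (A := S)
  obtain ⟨l, r, hr⟩ := Submodule.fg_iff_exists_fin_generating_family.1 hker
  obtain ⟨N, b, hb⟩ := exists_ofB_fin fun i => τ (θ (MvPolynomial.X i))
  have hN : (Henz.ofB N).comp (MvPolynomial.aeval b) = τ.comp θ := MvPolynomial.algHom_ext fun i => by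
    simp [hb]
  obtain ⟨M, α, hα, h0⟩ := exists_kill_fin N (fun i => MvPolynomial.aeval b (r i)) fun i => by
    rw [← AlgHom.comp_apply, hN, AlgHom.comp_apply,
      show θ (r i) = 0 from (SetLike.ext_iff.1 hr (r i)).1 (Submodule.subset_span ⟨i, rfl⟩), map_zero]
  let β₀ : MvPolynomial (Fin k) R →ₐ[R] M.B := α.comp (MvPolynomial.aeval b)
  let β : S →ₐ[R] M.B := AlgHom.liftOfSurjective θ hθ β₀ (by
    intro y hy
    refine (Ideal.span_le.2 ?_ : Ideal.span (Set.range r) ≤ RingHom.ker β₀) ((SetLike.ext_iff.1 hr y).2 hy)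
    rintro _ ⟨i, rfl⟩
    exact h0 i)
  refine ⟨M, β, AlgHom.ext fun y => ?_⟩
  obtain ⟨y, rfl⟩ := hθ y
  rw [AlgHom.comp_apply, show β (θ y) = β₀ y from AlgHom.liftOfSurjective_apply θ hθ _ _ y,
    ← AlgHom.comp_apply, ← AlgHom.comp_assoc, Henz.ofB_comp α hα, hN]
  rfl

/-- A point of a smooth algebra modulo a power lifts to an étale neighbourhood of the pair. -/
theorem exists_nbhd_point (J : Ideal R) (n : ℕ) (hn : 1 ≤ n) (S : Type u) [CommRing S] [Algebra R S]
    [Algebra.Smooth R S] (σ : S →ₐ[R] R ⧸ J ^ n) :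
    ∃ (U : Type u) (_ : CommRing U) (_ : Algebra R U) (_ : Algebra.Etale R U), IsPairNbhd J U ∧
      ∃ ψ : S →ₐ[R] U, ∀ s, ∃ c, σ s = Ideal.Quotient.mk (J ^ n) c ∧
        ψ s - algebraMap R U c ∈ (J.map (algebraMap R U)) ^ n := by
  let H := PairHenz R J
  have hH : Hens2.IsPairHenselization R J H := isPairHenselization_pairHenz R J
  haveI := hH.1
  let JH := J.map (algebraMap R H)
  haveI : HenselianRing H (JH ^ n) :=
    (Groth.Agent.S0525.result H (JH ^ n) JH (JH.radical_pow (by omega))).2 inferInstance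
  let π : (R ⧸ J ^ n) →ₐ[R] H ⧸ JH ^ n := Ideal.Quotient.liftₐ _ (Algebra.ofId R _) fun a ha => by
    refine Ideal.Quotient.eq_zero_iff_mem.2 ?_
    show algebraMap R H a ∈ JH ^ n
    rw [← Ideal.map_pow]
    exact Ideal.mem_map_of_mem _ ha
  obtain ⟨τ, hτ⟩ := Groth.Agent.S0536.result R S H (JH ^ n) (π.comp σ)
  obtain ⟨N, α, hα⟩ := exists_factor_fp S τ
  obtain ⟨V, _, _, _, γ, τV, hV, hτV⟩ := exists_isPairNbhd J N.B N.toK
  have h1 : (Henz.ofNbhd V τV).comp γ = Henz.ofB N := by
    refine algHom_ext_of_isUnit (Henz.proj R (R ⧸ J)).toRingHom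
      (fun _ ht => Henz.isUnit_of_proj_eq_one ht) _ _ fun b => ?_
    simp [← hτV]
  refine ⟨V, inferInstance, inferInstance, inferInstance, hV, γ.comp α, fun s => ?_⟩
  obtain ⟨c, hc⟩ := Ideal.Quotient.mk_surjective (σ s)
  refine ⟨c, hc.symm, ?_⟩
  have hsurj := surjective_quotientMap_pow (A := R) (B := V) J (fun x => by
    obtain ⟨a, ha⟩ := hV.2 (Ideal.Quotient.mk _ x)
    obtain ⟨a, rfl⟩ := Ideal.Quotient.mk_surjective a
    rw [Ideal.quotientMap_mk, eq_comm, Ideal.Quotient.eq] at ha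
    exact ⟨a, ha⟩) n
  obtain ⟨c', hc'⟩ := hsurj (Ideal.Quotient.mk _ (γ (α s)))
  obtain ⟨c', rfl⟩ := Ideal.Quotient.mk_surjective c'
  rw [Ideal.quotientMap_mk, eq_comm, Ideal.Quotient.eq] at hc'
  have h2 : algebraMap R H c - algebraMap R H c' ∈ (J ^ n).map (algebraMap R H) := by
    have hA := Ideal.mem_map_of_mem (Henz.ofNbhd V τV).toRingHom hc'
    rw [Ideal.map_map, show (Henz.ofNbhd V τV).toRingHom.comp (algebraMap R V) = algebraMap R H from (Henz.ofNbhd V τV).comp_algebraMap] at hA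
    have hB : τ s - algebraMap R H c ∈ JH ^ n := by
      rw [← Ideal.Quotient.eq]
      refine (AlgHom.congr_fun hτ s).trans ?_
      rw [AlgHom.comp_apply, ← hc]
      rfl
    rw [← Ideal.map_pow] at hB
    have hC : (Henz.ofNbhd V τV).toRingHom (γ (α s) - algebraMap R V c') = τ s - algebraMap R H c' := by
      rw [← hα, AlgHom.comp_apply, ← h1]
      simp
      rfl
    rw [hC] at hA
    have := sub_mem hA hB
    rwa [sub_sub_sub_cancel_left] at this
  rw [← map_sub] at h2
  have h3 := (bijective_quotientMap_pow_of_isPairHenselization J hH n).1 (a₁ := Ideal.Quotient.mk _ (c - c')) (a₂ := 0)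
    (by rw [Ideal.quotientMap_mk, map_zero, Ideal.Quotient.eq_zero_iff_mem]; exact h2)
  rw [Ideal.Quotient.eq_zero_iff_mem] at h3
  have h4 := Ideal.mem_map_of_mem (algebraMap R V) h3
  rw [← Ideal.map_pow]
  have h5 := sub_mem hc' h4
  rw [map_sub] at h5
  show γ (α s) - _ ∈ _
  convert h5 using 1
  ring

end Groth.Agent.PopescuLib
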