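import Groth.Agent.PopescuLib.LocalCompletion
import Groth.Agent.PopescuLib.GRing
import Groth.Agent.CplFib6.GRingStable
import Groth.Agent.StalkLoc7.Basic
import Groth.Agent.PopescuLib.Noetherian
import Mathlib

/-!
# Étale neighbourhoods approximating a formal map of schemes at a point
-/

set_option autoImplicit false
set_option linter.style.haveILetI false

universe u

open AlgebraicGeometry CategoryTheory IsLocalRing TensorProduct

namespace Groth.Agent.PopescuLib

/-- The completion map of a local ring essentially of finite type over a G-ring is regular. -/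
theorem regular_cpl_of_essFiniteType {R A L : Type u} [CommRing R] [CommRing A] [CommRing L] [IsLocalRing L]
    [Algebra R A] [Algebra A L] [Algebra.FiniteType R A] (P : Ideal R) [P.IsPrime] (RP : Type u) [CommRing RP]
    [Algebra R RP] [IsLocalization.AtPrime RP P] (hG : CAlg.IsGRing RP) (Q : Ideal A) [Q.IsPrime]
    [IsLocalization.AtPrime L Q] (hQ : Q.comap (algebraMap R A) ≤ P) :
    CAlg.IsRegularHom L (AdicCompletion (maximalIdeal L) L) := by
  let M := RP ⊗[R] A
  have hM : CAlg.IsGRing M := CplFib6.isGRing_of_finiteType hG M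
  letI : Algebra A M := Algebra.TensorProduct.rightAlgebra
  haveI : IsLocalization (Algebra.algebraMapSubmonoid A P.primeCompl) M :=
    (Algebra.isLocalization_iff_isPushout P.primeCompl RP).mpr inferInstance
  have hd : Disjoint (Algebra.algebraMapSubmonoid A P.primeCompl : Set A) (Q : Set A) := by
    rw [Set.disjoint_left]
    rintro _ ⟨r, hr, rfl⟩ h
    exact hr (hQ h)
  let Q' := Q.map (algebraMap A M)
  haveI : Q'.IsPrime := IsLocalization.isPrime_of_isPrime_disjoint _ M Q ‹_› hd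
  have hc : Q'.comap (algebraMap A M) = Q := IsLocalization.under_map_of_isPrime_disjoint _ M ‹_› hd
  haveI : IsLocalization.AtPrime (Localization.AtPrime Q') (Q'.comap (algebraMap A M)) :=
    IsLocalization.isLocalization_isLocalization_atPrime_isLocalization
      (Algebra.algebraMapSubmonoid A P.primeCompl) (Localization.AtPrime Q') Q'
  haveI : IsLocalization.AtPrime (Localization.AtPrime Q') Q := by
    simpa [hc] using (inferInstance : IsLocalization.AtPrime (Localization.AtPrime Q') (Q'.comap (algebraMap A M)))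
  exact MorLib.GRing.localCond_of_equiv
    (IsLocalization.algEquiv Q.primeCompl (Localization.AtPrime Q') L).toRingEquiv (hM.2 Q')

set_option maxHeartbeats 2000000 in
/-- The algebra behind approximation by étale neighbourhoods. -/
theorem exists_etale_algebra_approx {R A B L : Type u} [CommRing R] [CommRing A] [CommRing B] [CommRing L]
    [IsNoetherianRing A] [IsLocalRing L] [Algebra R A] [Algebra R B] [Algebra.FinitePresentation R B] [Algebra A L]
    [Algebra R L] [IsScalarTower R A L]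
    (M : Submonoid A) [IsLocalization M L]
    (hreg : CAlg.IsRegularHom L (AdicCompletion (maximalIdeal L) L))
    (f₀ : B →ₐ[R] AdicCompletion (maximalIdeal L) L) (N : ℕ) (hN : 1 ≤ N) :
    ∃ (A' : Type u) (_ : CommRing A') (_ : Algebra A A'), Algebra.Etale A A' ∧
      ∃ (π : A' →+* L ⧸ maximalIdeal L ^ N) (β : B →+* A'),
        π.comp (algebraMap A A') = (Ideal.Quotient.mk _).comp (algebraMap A L) ∧
        (β.comp (algebraMap R B) = (algebraMap A A').comp (algebraMap R A)) ∧
        ∀ b, π (β b) = AdicCompletion.evalₐ (maximalIdeal L) N (f₀ b) := by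
  classical
  haveI : IsNoetherianRing L := IsLocalization.isNoetherianRing M L inferInstance
  let m := maximalIdeal L
  let T := AdicCompletion m L
  have fg : m.FG := IsNoetherian.noetherian _
  haveI : IsLocalRing T := AdicCompletion.isLocalRing_of_fg fg
  haveI : IsAdicComplete (maximalIdeal T) T := AdicCompletion.isAdicComplete_of_fg fg
  have hmax : maximalIdeal T = m.map (algebraMap L T) := AdicCompletion.maximalIdeal_eq_map_of_fg fg
  haveI := PopescuLib.noetherian_completion m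
  have hind : Smoothing.IndSmooth A T := indSmooth_of_localization L M (indSmooth_of_isRegularHom hreg)
  let f : A ⊗[R] B →ₐ[A] T := Algebra.TensorProduct.lift (Algebra.ofId A T) f₀ fun _ _ => Commute.all _ _
  obtain ⟨S, _, _, hS, g, h, hgh⟩ := hind (A ⊗[R] B) inferInstance f
  haveI := hS
  have hmem : ∀ t : T, t ∈ maximalIdeal T ^ N → AdicCompletion.evalₐ m N t = 0 := fun t ht => by
    rw [hmax, ← Ideal.map_pow] at ht
    exact (Ideal.map_le_iff_le_comap.2 (fun z hz => by
      show AdicCompletion.evalₐ m N (algebraMap L _ z) = 0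
      rw [AlgHom.commutes]; exact Ideal.Quotient.eq_zero_iff_mem.2 hz) :
      (m ^ N).map (algebraMap L T) ≤ RingHom.ker (AdicCompletion.evalₐ m N)) ht
  obtain ⟨A', _, _, hA', ψ, β₁, hβ⟩ := exists_etale_point (R := A) h hN fun l t => by
    choose x hx using fun i => Ideal.Quotient.mk_surjective (AdicCompletion.evalₐ m N (t i))
    obtain ⟨⟨s, hs⟩, hint⟩ := IsLocalization.exist_integer_multiples_of_finite M x
    choose a ha using hint
    have hsu : IsUnit (algebraMap A L s) := IsLocalization.map_units L ⟨s, hs⟩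
    let ι : Localization.Away s →ₐ[A] L :=
      IsLocalization.Away.liftAlgHom (A := A) s (f := Algebra.ofId A L) hsu
    refine ⟨Localization.Away s, inferInstance, inferInstance, inferInstance,
      (IsScalarTower.toAlgHom A L T).comp ι,
      fun i => algebraMap A _ (a i) * IsLocalization.Away.invSelf s, fun i => ?_⟩
    have h1 : ι (algebraMap A _ (a i) * IsLocalization.Away.invSelf s) = x i := by
      refine hsu.mul_left_injective ?_
      show ι (algebraMap A _ (a i) * IsLocalization.Away.invSelf s) * algebraMap A L s = x i * algebraMap A L s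
      rw [← ι.commutes s, ← map_mul, mul_assoc, mul_comm (IsLocalization.Away.invSelf s),
        IsLocalization.Away.mul_invSelf, mul_one, ι.commutes, ι.commutes, ha i, Algebra.smul_def, mul_comm]
    rw [hmax, ← Ideal.map_pow]
    refine mem_map_of_evalₐ_eq_zero m fg N ?_
    rw [AlgHom.comp_apply, h1, map_sub, ← hx i, sub_eq_zero]
    exact (AdicCompletion.evalₐ m N).commutes (x i) |>.symm
  let π : A' →+* L ⧸ m ^ N := (AdicCompletion.evalₐ m N).toRingHom.comp ψ.toRingHom
  let inc : B →+* A ⊗[R] B := (Algebra.TensorProduct.includeRight : B →ₐ[R] A ⊗[R] B).toRingHom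
  let β : B →+* A' := β₁.toRingHom.comp (g.toRingHom.comp inc)
  refine ⟨A', inferInstance, inferInstance, hA', π, β, RingHom.ext fun a => ?_, RingHom.ext fun r => ?_, fun b => ?_⟩
  · show AdicCompletion.evalₐ m N (ψ (algebraMap A A' a)) = _
    rw [ψ.commutes, IsScalarTower.algebraMap_apply A L T, AlgHom.commutes]
    rfl
  · show β₁ (g ((1 : A) ⊗ₜ[R] algebraMap R B r)) = algebraMap A A' (algebraMap R A r)
    rw [show (1 : A) ⊗ₜ[R] algebraMap R B r = algebraMap A (A ⊗[R] B) (algebraMap R A r) by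
      rw [Algebra.TensorProduct.algebraMap_apply, Algebra.algebraMap_eq_smul_one, ← smul_tmul,
        ← Algebra.algebraMap_eq_smul_one]
      rfl, AlgHom.commutes, AlgHom.commutes]
  · show AdicCompletion.evalₐ m N (ψ (β₁ (g ((1 : A) ⊗ₜ[R] b)))) = _
    have h1 := hmem _ (hβ (g ((1 : A) ⊗ₜ[R] b)))
    rw [map_sub, sub_eq_zero] at h1
    rw [← h1, ← AlgHom.comp_apply h g, hgh]
    show AdicCompletion.evalₐ m N (Algebra.TensorProduct.lift _ _ _ ((1 : A) ⊗ₜ[R] b)) = _
    rw [Algebra.TensorProduct.lift_tmul, map_one, one_mul]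

/-- The composite of a map to a completion with truncation is local. -/
theorem isLocalHom_evalₐ_comp {O L : Type u} [CommRing O] [IsLocalRing O] [CommRing L] [IsLocalRing L]
    [IsLocalRing (AdicCompletion (maximalIdeal L) L)]
    (φ : O →+* AdicCompletion (maximalIdeal L) L) (N : ℕ) (hN : 1 ≤ N)
    (hloc : ∀ b ∈ maximalIdeal O, φ b ∈ (maximalIdeal L).map (algebraMap L (AdicCompletion (maximalIdeal L) L))) :
    IsLocalHom ((AdicCompletion.evalₐ (maximalIdeal L) N).toRingHom.comp φ) := by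
  refine ⟨fun b hb => ?_⟩
  by_contra hnu
  have h1 := Ideal.mem_map_of_mem (AdicCompletion.evalₐ (maximalIdeal L) N).toRingHom (hloc b hnu)
  rw [Ideal.map_map, AlgHom.toRingHom_eq_coe, AlgHom.comp_algebraMap] at h1
  have h2 : (maximalIdeal L).map (algebraMap L (L ⧸ maximalIdeal L ^ N)) ≠ ⊤ := by
    rw [Ideal.Quotient.algebraMap_eq, Ne, ← Ideal.comap_eq_top_iff (f := Ideal.Quotient.mk (maximalIdeal L ^ N)),
      Ideal.comap_map_of_surjective' _ Ideal.Quotient.mk_surjective, Ideal.mk_ker,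
      sup_of_le_left (Ideal.pow_le_self (by omega))]
    exact (maximalIdeal.isMaximal L).ne_top
  exact h2 (Ideal.eq_top_of_isUnit_mem _ h1 hb)

/-- An algebra over the sections of an affine open with a point in a truncated stalk gives a neighbourhood. -/
theorem etale_nbhd_of_point {X : Scheme.{u}} {UA : X.Opens} (hUA : IsAffineOpen UA) {x : X} (hx : x ∈ UA)
    {A' : CommRingCat.{u}} (α : Γ(X, UA) ⟶ A') (hα : α.hom.Etale) {K : CommRingCat.{u}} [IsLocalRing K]
    (π : A' ⟶ K) (πL : X.presheaf.stalk x ⟶ K) [IsLocalHom πL.hom] (hπ : α ≫ π = X.presheaf.germ UA x hx ≫ πL) :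
    Etale (Spec.map α ≫ hUA.fromSpec) ∧
      ∃ (h : (Spec.map α ≫ hUA.fromSpec) (Spec.map π (closedPoint K)) = x),
        ∀ c, (Scheme.stalkClosedPointTo (Spec.map π)).hom
          (((Spec.map α ≫ hUA.fromSpec).stalkMap (Spec.map π (closedPoint K))).hom
            ((X.presheaf.stalkCongr (Inseparable.of_eq h)).inv.hom c)) = πL.hom c := by
  haveI : Etale (Spec.map α) := (HasRingHomProperty.Spec_iff (P := @Etale)).mpr hα
  refine ⟨inferInstance, ?_⟩
  have he : Spec.map π ≫ Spec.map α ≫ hUA.fromSpec = Spec.map πL ≫ X.fromSpecStalk x := by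
    rw [← hUA.fromSpecStalk_eq_fromSpecStalk hx, IsAffineOpen.fromSpecStalk, ← Spec.map_comp_assoc,
      ← Spec.map_comp_assoc, hπ]
  let t : Σ x' : X, { g : X.presheaf.stalk x' ⟶ K // IsLocalHom g.hom } := ⟨x, πL, inferInstance⟩
  obtain ⟨hu, hs⟩ := SpecToEquivOfLocalRing_eq_iff.1
    ((congrArg (SpecToEquivOfLocalRing X K) he).trans ((SpecToEquivOfLocalRing X K).apply_symm_apply t))
  refine ⟨hu, fun c => ?_⟩
  have h1 := (Scheme.stalkClosedPointTo_comp (Spec.map π) (Spec.map α ≫ hUA.fromSpec)).symm.trans hs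
  refine (congr($h1 ((X.presheaf.stalkCongr (Inseparable.of_eq hu)).inv.hom c))).trans ?_
  exact congrArg πL.hom (Iso.inv_hom_id_apply (X.presheaf.stalkCongr (Inseparable.of_eq hu)) c)

/-- The second map of such a neighbourhood. -/
theorem map_of_point {Y : Scheme.{u}} {UB : Y.Opens} (hUB : IsAffineOpen UB) {y : Y} (hy : y ∈ UB)
    {A' : CommRingCat.{u}} (β : Γ(Y, UB) ⟶ A') {K : CommRingCat.{u}} [IsLocalRing K]
    (π : A' ⟶ K) (πY : Y.presheaf.stalk y ⟶ K) [IsLocalHom πY.hom] (hπ : β ≫ π = Y.presheaf.germ UB y hy ≫ πY) :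
    ∃ (h : (Spec.map β ≫ hUB.fromSpec) (Spec.map π (closedPoint K)) = y),
        ∀ c, (Scheme.stalkClosedPointTo (Spec.map π)).hom
          (((Spec.map β ≫ hUB.fromSpec).stalkMap (Spec.map π (closedPoint K))).hom
            ((Y.presheaf.stalkCongr (Inseparable.of_eq h)).inv.hom c)) = πY.hom c := by
  have he : Spec.map π ≫ Spec.map β ≫ hUB.fromSpec = Spec.map πY ≫ Y.fromSpecStalk y := by
    rw [← hUB.fromSpecStalk_eq_fromSpecStalk hy, IsAffineOpen.fromSpecStalk, ← Spec.map_comp_assoc,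
      ← Spec.map_comp_assoc, hπ]
  let t : Σ x' : Y, { g : Y.presheaf.stalk x' ⟶ K // IsLocalHom g.hom } := ⟨y, πY, inferInstance⟩
  obtain ⟨hu, hs⟩ := SpecToEquivOfLocalRing_eq_iff.1
    ((congrArg (SpecToEquivOfLocalRing Y K) he).trans ((SpecToEquivOfLocalRing Y K).apply_symm_apply t))
  refine ⟨hu, fun c => ?_⟩
  have h1 := (Scheme.stalkClosedPointTo_comp (Spec.map π) (Spec.map β ≫ hUB.fromSpec)).symm.trans hs
  refine (congr($h1 ((Y.presheaf.stalkCongr (Inseparable.of_eq hu)).inv.hom c))).trans ?_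
  exact congrArg πY.hom (Iso.inv_hom_id_apply (Y.presheaf.stalkCongr (Inseparable.of_eq hu)) c)

/-- Consequences of being étale with a retraction onto a truncated local ring. -/
theorem nbhd_ker_and_residue {U X : Scheme.{u}} (e : U ⟶ X) [Etale e] (u : U) (N : ℕ)
    {L : Type u} [CommRing L] [IsLocalRing L] (ι₀ : L ≃+* X.presheaf.stalk (e u))
    (σ : U.presheaf.stalk u →+* L ⧸ maximalIdeal L ^ N) [IsLocalHom σ] (hN : 1 ≤ N)
    (h : ∀ c, σ ((e.stalkMap u).hom (ι₀ c)) = Ideal.Quotient.mk _ c) :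
    Function.Bijective (e.residueFieldMap u) ∧
      ∀ z, σ z = 0 ↔ z ∈ maximalIdeal (U.presheaf.stalk u) ^ N := by
  haveI : Nontrivial (L ⧸ maximalIdeal L ^ N) := Ideal.Quotient.nontrivial_iff.mpr fun h =>
    (maximalIdeal.isMaximal L).ne_top (top_le_iff.1 (h ▸ Ideal.pow_le_self (by omega)))
  let ι : L →+* U.presheaf.stalk u := (e.stalkMap u).hom.comp ι₀.toRingHom
  have hι : (maximalIdeal L).map ι = maximalIdeal (U.presheaf.stalk u) := by
    rw [← Ideal.map_map, show (maximalIdeal L).map ι₀.toRingHom = maximalIdeal (X.presheaf.stalk (e u)) from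
      IsLocalRing.map_ringEquiv_maximalIdeal ι₀]
    exact ((StalkLoc7.stalkMap_formallyUnramified_iff e u).1 (FormallyUnramified.stalkMap e u)).1
  have hσι : σ.comp ι = Ideal.Quotient.mk _ := RingHom.ext h
  have hsurj : ∀ z, ∃ l, z - ι l ∈ maximalIdeal (U.presheaf.stalk u) := fun z => by
    obtain ⟨l, hl⟩ := Ideal.Quotient.mk_surjective (σ z)
    refine ⟨l, fun hu => ?_⟩
    have h1 := hu.map σ
    rw [map_sub, show σ (ι l) = Ideal.Quotient.mk _ l from h l, hl, sub_self] at h1
    exact not_isUnit_zero h1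
  refine ⟨⟨RingHom.injective _, fun w => ?_⟩, fun z => ⟨fun hz => ?_, fun hz => ?_⟩⟩
  · obtain ⟨z, rfl⟩ := IsLocalRing.residue_surjective w
    obtain ⟨l, hl⟩ := hsurj z
    refine ⟨X.residue (e u) (ι₀ l), ?_⟩
    refine (congr($(Scheme.residue_residueFieldMap e u) (ι₀ l))).trans ?_
    exact (Ideal.Quotient.eq.2 hl).symm
  · letI := ι.toAlgebra
    obtain ⟨a, ha⟩ := Hensel.surjective_quotientMap_pow (A := L) (B := U.presheaf.stalk u) (maximalIdeal L)
      (fun b => by
        obtain ⟨l, hl⟩ := hsurj b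
        exact ⟨l, by rw [RingHom.algebraMap_toAlgebra, hι]; exact hl⟩) N (Ideal.Quotient.mk _ z)
    obtain ⟨l, rfl⟩ := Ideal.Quotient.mk_surjective a
    rw [Ideal.quotientMap_mk, eq_comm, Ideal.Quotient.eq, RingHom.algebraMap_toAlgebra, Ideal.map_pow, hι] at ha
    have h0 : σ (z - ι l) = 0 := by
      have h1 := Ideal.mem_map_of_mem σ ha
      rw [← hι, ← Ideal.map_pow, Ideal.map_map, hσι, Ideal.map_quotient_self, Ideal.mem_bot] at h1
      exact h1
    rw [map_sub, hz, show σ (ι l) = Ideal.Quotient.mk _ l from h l, zero_sub, neg_eq_zero,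
      Ideal.Quotient.eq_zero_iff_mem] at h0
    have h2 := Ideal.mem_map_of_mem ι h0
    rw [Ideal.map_pow, hι] at h2
    simpa using add_mem ha h2
  · have h1 := Ideal.mem_map_of_mem σ hz
    rw [← hι, ← Ideal.map_pow, Ideal.map_map, hσι, Ideal.map_quotient_self, Ideal.mem_bot] at h1
    exact h1

set_option maxHeartbeats 4000000 in
/-- Étale neighbourhoods approximating a formal map at a point. -/
theorem exists_etale_nbhd_approx {X Y S : Scheme.{u}} [IsLocallyNoetherian S]
    (p : X ⟶ S) (q : Y ⟶ S) [LocallyOfFiniteType p] [LocallyOfFiniteType q] (x : X) (y : Y) (hxy : p x = q y)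
    (hG : CAlg.IsGRing ↑(S.presheaf.stalk (p x)))
    (φ : ↑(Y.presheaf.stalk y) →+* (AdicCompletion (maximalIdeal ↑(X.presheaf.stalk x)) ↑(X.presheaf.stalk x)))
    (hφ : φ.comp ((q.stalkMap y).hom.comp (S.presheaf.stalkCongr (Inseparable.of_eq hxy)).hom.hom) =
      (algebraMap ↑(X.presheaf.stalk x) (AdicCompletion (maximalIdeal ↑(X.presheaf.stalk x)) ↑(X.presheaf.stalk x))).comp (p.stalkMap x).hom)
    (hloc : ∀ b ∈ maximalIdeal ↑(Y.presheaf.stalk y),
      φ b ∈ (maximalIdeal ↑(X.presheaf.stalk x)).map (algebraMap ↑(X.presheaf.stalk x) (AdicCompletion (maximalIdeal ↑(X.presheaf.stalk x)) ↑(X.presheaf.stalk x))))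
    (N : ℕ) (hN : 1 ≤ N) :
    ∃ (U : Scheme.{u}) (e : U ⟶ X) (u : U) (heu : e u = x) (f : U ⟶ Y) (hfu : f u = y),
      Etale e ∧ Function.Bijective (e.residueFieldMap u) ∧ f ≫ q = e ≫ p ∧
      ∃ σ : ↑(U.presheaf.stalk u) →+* ↑(X.presheaf.stalk x) ⧸ maximalIdeal ↑(X.presheaf.stalk x) ^ N,
        (∀ z, σ z = 0 ↔ z ∈ maximalIdeal ↑(U.presheaf.stalk u) ^ N) ∧
        (∀ c, σ ((e.stalkMap u).hom ((X.presheaf.stalkCongr (Inseparable.of_eq heu)).inv.hom c)) =
          Ideal.Quotient.mk _ c) ∧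
        ∀ b, σ ((f.stalkMap u).hom ((Y.presheaf.stalkCongr (Inseparable.of_eq hfu)).inv.hom b)) =
          AdicCompletion.evalₐ (maximalIdeal ↑(X.presheaf.stalk x)) N (φ b) := by
  obtain ⟨V, hV, hxV, -⟩ := exists_isAffineOpen_mem_and_subset (x := p x) (U := ⊤) trivial
  obtain ⟨UA, hUA, hxA, hAV⟩ := exists_isAffineOpen_mem_and_subset (x := x) (U := p ⁻¹ᵁ V) hxV
  obtain ⟨UB, hUB, hyB, hBV⟩ := exists_isAffineOpen_mem_and_subset (x := y) (U := q ⁻¹ᵁ V)
    (show q y ∈ V from hxy ▸ hxV)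
  haveI : IsNoetherianRing Γ(S, V) := IsLocallyNoetherian.component_noetherian ⟨V, hV⟩
  have hA1 := p.finiteType_appLE hV hUA hAV
  have hB1 := q.finiteType_appLE hV hUB hBV
  letI : Algebra Γ(S, V) Γ(X, UA) := (p.appLE V UA hAV).hom.toAlgebra
  letI : Algebra Γ(S, V) Γ(Y, UB) := (q.appLE V UB hBV).hom.toAlgebra
  haveI : Algebra.FiniteType Γ(S, V) Γ(X, UA) := hA1
  haveI : Algebra.FiniteType Γ(S, V) Γ(Y, UB) := hB1
  haveI : Algebra.FinitePresentation Γ(S, V) Γ(Y, UB) := Algebra.FinitePresentation.of_finiteType.mp inferInstance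
  haveI : IsNoetherianRing Γ(X, UA) := Algebra.FiniteType.isNoetherianRing Γ(S, V) Γ(X, UA)
  letI : Algebra Γ(X, UA) ↑(X.presheaf.stalk x) := (X.presheaf.germ UA x hxA).hom.toAlgebra
  letI : Algebra Γ(S, V) ↑(X.presheaf.stalk x) := ((algebraMap Γ(X, UA) ↑(X.presheaf.stalk x)).comp (algebraMap Γ(S, V) Γ(X, UA))).toAlgebra
  haveI : IsScalarTower Γ(S, V) Γ(X, UA) ↑(X.presheaf.stalk x) := IsScalarTower.of_algebraMap_eq' rfl
  haveI hloc1 : IsLocalization.AtPrime ↑(X.presheaf.stalk x) (hUA.primeIdealOf ⟨x, hxA⟩).asIdeal := hUA.isLocalization_stalk ⟨x, hxA⟩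
  letI : Algebra Γ(S, V) (S.presheaf.stalk (p x)) := (S.presheaf.germ V (p x) hxV).hom.toAlgebra
  haveI : IsLocalization.AtPrime (S.presheaf.stalk (p x)) (hV.primeIdealOf ⟨p x, hxV⟩).asIdeal :=
    hV.isLocalization_stalk ⟨p x, hxV⟩
  have hreg : CAlg.IsRegularHom ↑(X.presheaf.stalk x) (AdicCompletion (maximalIdeal ↑(X.presheaf.stalk x)) ↑(X.presheaf.stalk x)) := by
    refine regular_cpl_of_essFiniteType (R := Γ(S, V)) (hV.primeIdealOf ⟨p x, hxV⟩).asIdeal _ hG
      (hUA.primeIdealOf ⟨x, hxA⟩).asIdeal (le_of_eq ?_)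
    exact congr($(IsAffineOpen.comap_primeIdealOf_appLE V hV UA hUA hAV hxA).1)
  have hgp : ∀ r : Γ(S, V), (p.stalkMap x).hom ((S.presheaf.germ V (p x) hxV).hom r) =
      (X.presheaf.germ UA x hxA).hom ((p.appLE V UA hAV).hom r) := fun r => by
    rw [Scheme.Hom.germ_stalkMap_apply]
    exact (TopCat.Presheaf.germ_res_apply X.presheaf (homOfLE hAV) x hxA _).symm
  have hgq : ∀ r : Γ(S, V), (q.stalkMap y).hom ((S.presheaf.stalkCongr (Inseparable.of_eq hxy)).hom.hom
      ((S.presheaf.germ V (p x) hxV).hom r)) = (Y.presheaf.germ UB y hyB).hom ((q.appLE V UB hBV).hom r) := fun r => by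
    rw [show (S.presheaf.stalkCongr (Inseparable.of_eq hxy)).hom.hom ((S.presheaf.germ V (p x) hxV).hom r) =
        (S.presheaf.germ V (q y) (hxy ▸ hxV)).hom r from
      TopCat.Presheaf.germ_stalkSpecializes_apply S.presheaf hxV (Inseparable.of_eq hxy).symm.specializes r, Scheme.Hom.germ_stalkMap_apply]
    exact (TopCat.Presheaf.germ_res_apply Y.presheaf (homOfLE hBV) y hyB _).symm
  let f₀ : Γ(Y, UB) →ₐ[Γ(S, V)] AdicCompletion (maximalIdeal ↑(X.presheaf.stalk x)) ↑(X.presheaf.stalk x) :=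
    ⟨φ.comp (Y.presheaf.germ UB y hyB).hom, fun r => by
      show φ ((Y.presheaf.germ UB y hyB).hom ((q.appLE V UB hBV).hom r)) = _
      rw [← hgq]
      refine (RingHom.congr_fun hφ _).trans ?_
      rw [RingHom.comp_apply, hgp]
      rfl⟩
  obtain ⟨A', _, _, hA', π, β, hπ, hβR, hπβ⟩ :=
    exists_etale_algebra_approx (hUA.primeIdealOf ⟨x, hxA⟩).asIdeal.primeCompl hreg f₀ N hN
  let K₀ := ↑(X.presheaf.stalk x) ⧸ maximalIdeal ↑(X.presheaf.stalk x) ^ N
  haveI : Nontrivial K₀ := Ideal.Quotient.nontrivial_iff.mpr fun h =>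
    (maximalIdeal.isMaximal ↑(X.presheaf.stalk x)).ne_top (top_le_iff.1 (h ▸ Ideal.pow_le_self (by omega)))
  let qm : ↑(X.presheaf.stalk x) →+* K₀ := Ideal.Quotient.mk _
  have hqm : Function.Surjective qm := Ideal.Quotient.mk_surjective
  let K : CommRingCat.{u} := CommRingCat.of K₀
  haveI : IsLocalRing K₀ := IsLocalRing.of_surjective' qm hqm
  haveI : IsLocalRing K := ‹IsLocalRing K₀›
  let πL : X.presheaf.stalk x ⟶ K := CommRingCat.ofHom qm
  haveI : IsLocalHom qm := IsLocalHom.of_surjective qm hqm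
  haveI : IsLocalHom πL.hom := ‹IsLocalHom qm›
  let πY : Y.presheaf.stalk y ⟶ K :=
    CommRingCat.ofHom ((AdicCompletion.evalₐ (maximalIdeal ↑(X.presheaf.stalk x)) N).toRingHom.comp φ)
  haveI : IsLocalHom πY.hom :=
    haveI : IsNoetherianRing ↑(X.presheaf.stalk x) :=
      IsLocalization.isNoetherianRing (hUA.primeIdealOf ⟨x, hxA⟩).asIdeal.primeCompl _ ‹IsNoetherianRing Γ(X, UA)›
    isLocalHom_evalₐ_comp φ N hN hloc
  let A'' : CommRingCat.{u} := CommRingCat.of A'
  let α : Γ(X, UA) ⟶ A'' := CommRingCat.ofHom (algebraMap Γ(X, UA) A')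
  let β'' : Γ(Y, UB) ⟶ A'' := CommRingCat.ofHom β
  let π' : A'' ⟶ K := CommRingCat.ofHom π
  obtain ⟨hEt, hue, heσ⟩ := etale_nbhd_of_point hUA hxA α (RingHom.etale_algebraMap.mpr hA') π' πL
    (CommRingCat.hom_ext hπ)
  obtain ⟨huf, hfσ⟩ := map_of_point hUB hyB β'' π' πY (CommRingCat.hom_ext (RingHom.ext hπβ))
  have hfq : (Spec.map β'' ≫ hUB.fromSpec) ≫ q = (Spec.map α ≫ hUA.fromSpec) ≫ p := by
    rw [Category.assoc, Category.assoc, ← IsAffineOpen.SpecMap_appLE_fromSpec q hV hUB hBV,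
      ← IsAffineOpen.SpecMap_appLE_fromSpec p hV hUA hAV, ← Spec.map_comp_assoc, ← Spec.map_comp_assoc]
    congr 2
    exact CommRingCat.hom_ext hβR
  haveI := hEt
  let u := Spec.map π' (closedPoint K)
  let σ : (Spec A'').presheaf.stalk u →+* K := (Scheme.stalkClosedPointTo (Spec.map π')).hom
  haveI : IsLocalHom σ := inferInstanceAs <| IsLocalHom (Scheme.stalkClosedPointTo (Spec.map π')).hom
  obtain ⟨hbij, hker⟩ := nbhd_ker_and_residue (Spec.map α ≫ hUA.fromSpec) u N
    (X.presheaf.stalkCongr (Inseparable.of_eq hue)).symm.commRingCatIsoToRingEquiv σ hN heσ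
  exact ⟨Spec A'', Spec.map α ≫ hUA.fromSpec, u, hue, Spec.map β'' ≫ hUB.fromSpec, huf, hEt, hbij, hfq, σ, hker,
    heσ, hfσ⟩

end Groth.Agent.PopescuLib
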