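import Groth.Agent.SmoothingLib.Iterate
import Groth.Agent.SmoothingLib.RegularResolve
import Mathlib

/-!
# Factoring through smooth algebras when the singular ideal becomes the unit ideal
-/

set_option autoImplicit false
set_option linter.style.haveILetI false

universe u

open MvPolynomial

namespace Groth.Agent.PopescuLib

open SmoothingLib

/-- The algebra of partitions of unity by given elements is smooth. -/
theorem smooth_partition {B : Type u} [CommRing B] {m : ℕ} (b : Fin m → B) :
    Algebra.Smooth B (MvPolynomial (Fin m) B ⧸ Ideal.span {∑ i, X i * C (b i) - 1}) := by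
  let f : MvPolynomial (Fin m) B := ∑ i, X i * C (b i) - 1
  let Q := MvPolynomial (Fin m) B ⧸ Ideal.span {f}
  letI : CommRing Q := Ideal.Quotient.commRing _
  haveI : Algebra.FinitePresentation B Q :=
    Algebra.FinitePresentation.quotient (Submodule.fg_span (Set.finite_singleton _))
  refine ⟨Algebra.FormallySmooth.of_comp_surjective fun T _ _ I hI g => ?_, inferInstance⟩
  choose ξ hξ using fun i => Ideal.Quotient.mk_surjective (g (Ideal.Quotient.mk _ (X i)))
  let ε : T := (∑ i, ξ i * algebraMap B T (b i)) - 1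
  have hε : ε ∈ I := by
    rw [← Ideal.Quotient.eq_zero_iff_mem]
    have h1 : g (Ideal.Quotient.mkₐ B _ f) = 0 := by
      rw [Ideal.Quotient.mkₐ_eq_mk, Ideal.Quotient.eq_zero_iff_mem.2 (Ideal.mem_span_singleton_self _), map_zero]
    rw [← h1]
    simp only [ε, f, map_sub, map_one, map_sum, map_mul, hξ, MvPolynomial.algHom_C, Ideal.Quotient.mkₐ_eq_mk]
    congr 1
    refine Finset.sum_congr rfl fun i _ => ?_
    rw [g.commutes]
    rfl
  have hε2 : ε * ε = 0 := by
    have := Ideal.mul_mem_mul hε hε
    rwa [← pow_two, hI, Ideal.mem_bot] at this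
  let F : MvPolynomial (Fin m) B →ₐ[B] T := aeval fun i => ξ i - ε * ξ i
  have hF : ∀ y ∈ Ideal.span {f}, F y = 0 := fun y hy => by
    obtain ⟨c, rfl⟩ := Ideal.mem_span_singleton'.1 hy
    have h1 : F f = (∑ i, ξ i * algebraMap B T (b i)) - ε * (∑ i, ξ i * algebraMap B T (b i)) - 1 := by
      simp only [F, f, map_sub, map_sum, map_mul, map_one, aeval_X, aeval_C, sub_mul, Finset.sum_sub_distrib,
        Finset.mul_sum, mul_assoc]
    rw [map_mul, h1]
    have h2 : (∑ i, ξ i * algebraMap B T (b i)) = 1 + ε := by simp [ε]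
    rw [h2, show (1 + ε) - ε * (1 + ε) - 1 = -(ε * ε) by ring, hε2, neg_zero, mul_zero]
  refine ⟨Ideal.Quotient.liftₐ _ F hF, ?_⟩
  refine Ideal.Quotient.algHom_ext _ (MvPolynomial.algHom_ext fun i => ?_)
  show Ideal.Quotient.mk I (F (X i)) = g (Ideal.Quotient.mk _ (X i))
  rw [← hξ i]
  refine Ideal.Quotient.eq.2 ?_
  simp only [F, aeval_X, sub_sub_cancel_left]
  exact I.neg_mem (I.mul_mem_right _ hε)

/-- If the singular ideal generates the unit ideal, the map factors through a smooth algebra. -/
theorem exists_smooth_of_singRad_eq_top {R B Λ : Type u} [CommRing R] [CommRing B] [Algebra R B]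
    [Algebra.FinitePresentation R B] [CommRing Λ] [Algebra R Λ] (h : B →ₐ[R] Λ)
    (htop : Smoothing.singRad R h = ⊤) :
    ∃ (S : Type u) (_ : CommRing S) (_ : Algebra R S), Algebra.Smooth R S ∧
      ∃ (g : B →ₐ[R] S) (k : S →ₐ[R] Λ), k.comp g = h := by
  classical
  rw [Smoothing.singRad, Ideal.radical_eq_top] at htop
  have h1 : (1 : Λ) ∈ Ideal.span (h '' (Smoothing.singularIdeal R B : Set B)) := by
    show (1 : Λ) ∈ (Smoothing.singularIdeal R B).map h
    rw [htop]; exact Submodule.mem_top
  rw [Ideal.span, Submodule.mem_span_set'] at h1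
  obtain ⟨m, lam, v, hlam⟩ := h1
  choose b hb hbv using fun i => (v i).2
  have hsum : ∑ i, lam i * h (b i) = 1 := by
    rw [← hlam]; simp [hbv]
  let S := MvPolynomial (Fin m) B ⧸ Ideal.span {∑ i, X i * C (b i) - 1}
  letI : CommRing S := Ideal.Quotient.commRing _
  haveI hBS : Algebra.Smooth B S := smooth_partition b
  haveI : Algebra.FinitePresentation R S := Algebra.FinitePresentation.trans R B S
  have hone : (1 : S) = ∑ i, Ideal.Quotient.mk _ (X i) * algebraMap B S (b i) := by
    symm
    rw [← sub_eq_zero, ← map_one (Ideal.Quotient.mk (Ideal.span {∑ i, X i * C (b i) - (1 : MvPolynomial (Fin m) B)}))]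
    simp only [show ∀ i, algebraMap B S (b i) = Ideal.Quotient.mk _ (C (b i)) from fun i => rfl, ← map_mul,
      ← map_sum, ← map_sub]
    exact Ideal.Quotient.eq_zero_iff_mem.2 (Ideal.mem_span_singleton_self _)
  have htopS : Smoothing.singularIdeal R S = ⊤ := by
    rw [Ideal.eq_top_iff_one, hone]
    refine Ideal.sum_mem _ fun i _ => Ideal.mul_mem_left _ _ (mem_singularIdeal_of_tower (hb i) ?_)
    rw [RegRes.singularIdeal_eq_top]
    exact Submodule.mem_top
  haveI hS : Algebra.Smooth R S := by
    refine ⟨?_, inferInstance⟩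
    have huniv : Algebra.smoothLocus R S = Set.univ := by
      refine Set.eq_univ_iff_forall.2 fun q => ?_
      by_contra hq
      exact q.isPrime.ne_top ((Ideal.eq_top_iff_one _).2 ((PrimeSpectrum.mem_vanishingIdeal _ _).1
        (show (1 : S) ∈ Smoothing.singularIdeal R S by rw [htopS]; exact Submodule.mem_top) q hq))
    exact (Algebra.smoothLocus_eq_univ_iff.1 huniv)
  letI : Algebra B Λ := h.toRingHom.toAlgebra
  haveI : IsScalarTower R B Λ := IsScalarTower.of_algebraMap_eq fun c => (h.commutes c).symm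
  let K : MvPolynomial (Fin m) B →ₐ[B] Λ := aeval lam
  let k : S →ₐ[B] Λ := Ideal.Quotient.liftₐ _ K fun y hy => by
    obtain ⟨c, rfl⟩ := Ideal.mem_span_singleton'.1 hy
    have : K (∑ i, X i * C (b i) - 1) = 0 := by
      simp only [K, map_sub, map_sum, map_mul, map_one, aeval_X, aeval_C, sub_eq_zero]
      exact hsum
    rw [map_mul, this, mul_zero]
  exact ⟨S, inferInstance, inferInstance, hS, IsScalarTower.toAlgHom R B S, k.restrictScalars R,
    AlgHom.ext fun y => k.commutes y⟩

end Groth.Agent.PopescuLib
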