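import Groth.Agent.PopescuLib.RegLoc
import Groth.Agent.RegFS6.Field
import Groth.Agent.AdicSmooth.SmallExt

/-!
# Regular homomorphisms and formally unramified extensions of the base
-/

set_option autoImplicit false
set_option linter.style.haveILetI false

universe u

open TensorProduct IsLocalRing
open Groth.Agent.FlatLoc6

namespace Groth.Agent.PopescuLib

/-- A lifting over an artinian local extension extends to a localization. -/
theorem exists_lift_localization {L X : Type u} [CommRing L] [CommRing X] [Algebra L X] (Q : Ideal X) [Q.IsPrime]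
    {E : Type u} [CommRing E] [IsLocalRing E] [Algebra L E] (J : Ideal E) (hJ : J ≤ maximalIdeal E)
    (ψ : Localization.AtPrime Q →ₐ[L] E ⧸ J) (χ : X →ₐ[L] E)
    (hχ : ∀ x, Ideal.Quotient.mk J (χ x) = ψ (algebraMap X (Localization.AtPrime Q) x)) :
    ∃ χ' : Localization.AtPrime Q →ₐ[L] E, (Ideal.Quotient.mkₐ L J).comp χ' = ψ := by
  have hunit : ∀ s : Q.primeCompl, IsUnit (χ s) := by
    intro s
    have h1 : IsUnit (ψ (algebraMap X (Localization.AtPrime Q) s.1)) :=
      (IsLocalization.map_units (Localization.AtPrime Q) s).map ψ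
    rw [← hχ] at h1
    by_contra hn
    have hm : χ s ∈ maximalIdeal E := hn
    obtain ⟨y, hy⟩ := Ideal.Quotient.mk_surjective (h1.unit⁻¹ : (E ⧸ J)ˣ).1
    have h2 : χ s * y - 1 ∈ J := Ideal.Quotient.eq.mp (by
      rw [map_mul, map_one, hy, IsUnit.mul_val_inv])
    have := (maximalIdeal E).sub_mem ((maximalIdeal E).mul_mem_right y hm) (hJ h2)
    rw [sub_sub_cancel] at this
    exact (maximalIdeal.isMaximal E).ne_top ((Ideal.eq_top_iff_one _).mpr this)
  refine ⟨IsLocalization.liftAlgHom hunit, IsLocalization.algHom_ext Q.primeCompl ?_⟩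
  ext t
  show Ideal.Quotient.mk J (IsLocalization.lift _ (algebraMap X (Localization.AtPrime Q) t)) = _
  rw [IsLocalization.lift_eq]
  exact hχ t

/-- Lifting along small extensions gives regularity. -/
theorem isRegularRing_of_smallLift {L X : Type u} [Field L] [CommRing X] [Algebra L X] [IsNoetherianRing X]
    (h : ∀ (E : Type u) [CommRing E] [IsLocalRing E] [IsArtinianRing E] [Algebra L E] (J : Ideal E),
      J ^ 2 = ⊥ → (∀ m ∈ maximalIdeal E, ∀ x ∈ J, m * x = 0) → J ≤ maximalIdeal E →
        ∀ ψ : X →ₐ[L] E ⧸ J, ∃ χ : X →ₐ[L] E, (Ideal.Quotient.mkₐ L J).comp χ = ψ) :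
    IsRegularRing X := by
  rw [isRegularRing_iff]
  intro Q _
  haveI : IsNoetherianRing (Localization.AtPrime Q) := IsLocalization.isNoetherianRing Q.primeCompl _ inferInstance
  suffices hfs : CAlgX.IsAdicFormallySmooth L (Localization.AtPrime Q) (maximalIdeal (Localization.AtPrime Q)) by
    haveI := isRegularRing_of_geometricallyRegular (RegFS6.geometricallyRegular_of_fs hfs)
    exact IsRegularLocalRing.of_isRegularRing_of_isLocalRing _
  refine AdicSmooth.isAdicFormallySmooth_of_smallLift ?_
  intro E _ _ _ _ _ J hJ hlen _ ψ _ _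
  haveI : IsSimpleModule E J := Module.length_eq_one_iff.mp hlen
  have hkill : ∀ m ∈ maximalIdeal E, ∀ x ∈ J, m * x = 0 := by
    intro m hm x hx
    by_contra hne
    obtain ⟨d, hd⟩ := IsSimpleModule.toSpanSingleton_surjective E (m := (⟨m * x, J.mul_mem_left m hx⟩ : J))
      (fun h0 => hne (congrArg Subtype.val h0)) (⟨x, hx⟩ : J)
    have h1 : (1 - d * m) * x = 0 := by
      have := congrArg Subtype.val hd
      simp only [LinearMap.toSpanSingleton_apply, Submodule.coe_smul, smul_eq_mul] at this
      linear_combination -this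
    have hu : IsUnit (1 - d * m) :=
      IsLocalRing.isUnit_one_sub_self_of_mem_nonunits _ (Ideal.mul_mem_left _ d hm)
    exact hne (by rw [hu.mul_right_eq_zero.mp h1, mul_zero])
  have hJm : J ≤ maximalIdeal E := IsLocalRing.le_maximalIdeal fun h => by
    rw [h, Ideal.top_pow] at hJ
    exact top_ne_bot hJ
  obtain ⟨χ, hχ⟩ := h E J hJ hkill hJm (ψ.comp (IsScalarTower.toAlgHom L X (Localization.AtPrime Q)))
  exact exists_lift_localization Q J hJm ψ χ fun x => AlgHom.congr_fun hχ x

theorem regular_tensor_localization {k F : Type u} [CommRing k] [CommRing F] [Algebra k F] (L : Type u) [CommRing L]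
    [Algebra k L] (S : Submonoid F) (Fs : Type u) [CommRing Fs] [Algebra F Fs] [Algebra k Fs] [IsScalarTower k F Fs]
    [IsLocalization S Fs] [IsRegularRing (L ⊗[k] F)] : IsRegularRing (L ⊗[k] Fs) := by
  haveI : IsRegularRing (F ⊗[k] L) :=
    IsRegularRing.of_ringEquiv (R := L ⊗[k] F) (Algebra.TensorProduct.comm k L F).toRingEquiv
  haveI : IsRegularRing ((F ⊗[k] L) ⊗[F] Fs) :=
    GeomReg.isRegularRing_of_isLocalization (Algebra.algebraMapSubmonoid (F ⊗[k] L) S) _
  exact IsRegularRing.of_ringEquiv (R := (F ⊗[k] L) ⊗[F] Fs)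
    (((Algebra.TensorProduct.comm F (F ⊗[k] L) Fs).toRingEquiv.trans
      (Algebra.TensorProduct.cancelBaseChange k F F Fs L).toRingEquiv).trans
      (Algebra.TensorProduct.comm k Fs L).toRingEquiv)

/-- A regular homomorphism lifts along square-zero extensions of artinian local algebras over a field. -/
theorem exists_lift_of_isRegularHom {A C K : Type u} [CommRing A] [CommRing C] [Algebra A C] (h : CAlg.IsRegularHom A C)
    [Field K] [Algebra A K] {E : Type u} [CommRing E] [IsLocalRing E] [IsArtinianRing E] [Algebra K E] [Algebra A E]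
    [IsScalarTower A K E] (J : Ideal E) (hJ : J ^ 2 = ⊥) (hJm : J ≤ maximalIdeal E) (ψ : C →ₐ[A] E ⧸ J) :
    ∃ χ : C →ₐ[A] E, (Ideal.Quotient.mkₐ A J).comp χ = ψ := by
  let p := RingHom.ker (algebraMap A K)
  haveI : p.IsPrime := RingHom.ker_isPrime _
  obtain ⟨_, _⟩ := exists_residueAlgebra (L := K) p rfl
  letI : Algebra p.ResidueField E := ((algebraMap K E).comp (algebraMap p.ResidueField K)).toAlgebra
  haveI : IsScalarTower A p.ResidueField E := IsScalarTower.of_algebraMap_eq fun a => by
    show _ = algebraMap K E (algebraMap p.ResidueField K (algebraMap A p.ResidueField a))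
    rw [← IsScalarTower.algebraMap_apply A p.ResidueField K, ← IsScalarTower.algebraMap_apply A K E]
  haveI := (h.2 p).1
  let θ : p.Fiber C →ₐ[p.ResidueField] E ⧸ J :=
    Algebra.TensorProduct.lift (Algebra.ofId p.ResidueField (E ⧸ J)) ψ fun _ _ => Commute.all _ _
  haveI : Nontrivial (E ⧸ J) := Ideal.Quotient.nontrivial_iff.mpr
    (ne_top_of_le_ne_top (maximalIdeal.isMaximal E).ne_top hJm)
  haveI : IsLocalRing (E ⧸ J) := IsLocalRing.of_surjective' (Ideal.Quotient.mk J) Ideal.Quotient.mk_surjective
  let Q : Ideal (p.Fiber C) := (maximalIdeal (E ⧸ J)).comap θ.toRingHom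
  haveI : Q.IsPrime := Ideal.comap_isPrime θ.toRingHom _
  haveI : IsNoetherianRing (Localization.AtPrime Q) := IsLocalization.isNoetherianRing Q.primeCompl _ inferInstance
  have hu : ∀ s : Q.primeCompl, IsUnit (θ s) := fun s => by
    by_contra hn
    exact s.2 hn
  let θ' : Localization.AtPrime Q →ₐ[p.ResidueField] E ⧸ J := IsLocalization.liftAlgHom hu
  have hgr : CAlg.IsGeometricallyRegular p.ResidueField (Localization.AtPrime Q) := by
    intro L _ _ hL
    haveI := (h.2 p).2 L hL
    exact regular_tensor_localization L Q.primeCompl (Localization.AtPrime Q)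
  obtain ⟨χ', hχ'⟩ := RegFS6.fs_iff_geometricallyRegular.mpr hgr E J hJ θ' (by
    obtain ⟨n, hn⟩ := IsArtinianRing.isNilpotent_jacobson_bot (R := E ⧸ J)
    rw [IsLocalRing.jacobson_eq_maximalIdeal ⊥ bot_ne_top] at hn
    refine ⟨n, fun x hx => ?_⟩
    have : (maximalIdeal (Localization.AtPrime Q) ^ n).map θ' ≤ maximalIdeal (E ⧸ J) ^ n := by
      rw [Ideal.map_pow]
      refine Ideal.pow_right_mono (Ideal.map_le_iff_le_comap.mpr fun y hy => ?_) n
      obtain ⟨⟨a, s⟩, rfl⟩ := IsLocalization.mk'_surjective Q.primeCompl y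
      dsimp only at hy ⊢
      rw [IsLocalization.AtPrime.mk'_mem_maximal_iff (Localization.AtPrime Q) Q] at hy
      show θ' _ ∈ maximalIdeal (E ⧸ J)
      rw [IsLocalization.mk'_eq_mul_mk'_one, map_mul]
      refine Ideal.mul_mem_right _ _ ?_
      show IsLocalization.lift _ (algebraMap _ (Localization.AtPrime Q) a) ∈ _
      rw [IsLocalization.lift_eq]
      exact hy
    have hx' := this (Ideal.mem_map_of_mem θ' hx)
    rwa [hn] at hx')
  refine ⟨((χ'.comp (IsScalarTower.toAlgHom p.ResidueField (p.Fiber C) _)).restrictScalars A).comp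
    Algebra.TensorProduct.includeRight, AlgHom.ext fun c => ?_⟩
  have := AlgHom.congr_fun hχ' (algebraMap _ (Localization.AtPrime Q) ((1 : p.ResidueField) ⊗ₜ[A] c))
  refine this.trans ?_
  show IsLocalization.lift _ (algebraMap _ (Localization.AtPrime Q) _) = _
  rw [IsLocalization.lift_eq]
  show θ _ = _
  simp [θ]

/-- Regularity passes to a formally unramified extension of the base. -/
theorem isRegularHom_of_formallyUnramified {A B C : Type u} [CommRing A] [CommRing B] [CommRing C] [Algebra A B]
    [Algebra B C] [Algebra A C] [IsScalarTower A B C] [IsNoetherianRing C] [Algebra.FormallyUnramified A B]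
    [Module.Flat B C] (h : CAlg.IsRegularHom A C) : CAlg.IsRegularHom B C := by
  refine isRegularHom_iff_field.2 ⟨inferInstance, fun L _ _ hL => ?_⟩
  haveI : IsNoetherianRing (L ⊗[B] C) := isNoetherianRing_baseChange_ess B C L
  letI : Algebra A L := ((algebraMap B L).comp (algebraMap A B)).toAlgebra
  haveI : IsScalarTower A B L := IsScalarTower.of_algebraMap_eq' rfl
  refine isRegularRing_of_smallLift (L := L) fun E _ _ _ _ J hJ _ hJm ψ => ?_
  letI : Algebra B E := ((algebraMap L E).comp (algebraMap B L)).toAlgebra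
  haveI : IsScalarTower B L E := IsScalarTower.of_algebraMap_eq' rfl
  letI : Algebra A E := ((algebraMap B E).comp (algebraMap A B)).toAlgebra
  haveI : IsScalarTower A B E := IsScalarTower.of_algebraMap_eq' rfl
  haveI : IsScalarTower A L E := IsScalarTower.of_algebraMap_eq fun a => rfl
  let ψB : C →ₐ[B] E ⧸ J := (ψ.restrictScalars B).comp Algebra.TensorProduct.includeRight
  obtain ⟨χA, hχA⟩ := exists_lift_of_isRegularHom (K := L) h J hJ hJm (ψB.restrictScalars A)
  have hB : ∀ b : B, χA (algebraMap B C b) = algebraMap B E b := by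
    intro b
    refine AlgHom.congr_fun (Algebra.FormallyUnramified.comp_injective J hJ
      (a₁ := χA.comp (IsScalarTower.toAlgHom A B C)) (a₂ := IsScalarTower.toAlgHom A B E) (AlgHom.ext fun x => ?_)) b
    refine (AlgHom.congr_fun hχA (algebraMap B C x)).trans ?_
    exact ψB.commutes x
  let χB : C →ₐ[B] E := { χA.toRingHom with commutes' := hB }
  refine ⟨Algebra.TensorProduct.lift (Algebra.ofId L E) χB fun _ _ => Commute.all _ _, ?_⟩
  refine Algebra.TensorProduct.ext (Subsingleton.elim _ _) (AlgHom.ext fun c => ?_)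
  have := AlgHom.congr_fun hχA c
  simpa [ψB, χB] using this

end Groth.Agent.PopescuLib
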